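import Groth.Agent.Agf.H600.CentRedK
import Groth.Agent.Sga3B.TorClosed636
import Groth.Agent.Sga3B.MaxTorBc505
import Groth.Agent.RedSub.H641.TypeRBc

/-!
# Centralizers of subtori

* `isMaximalTorus_of_centralizer`: `z : Z ⟶ G` the centralizer of a subtorus `q : Q ⟶ G` of a reductive group; the
  maximal tori of `Z` are maximal tori of `G`;
* `exists_fac`: `Q` factors through every maximal torus of `Z`;
* `isTypeR_centralizer`: `Z` is of type (R) (S5550).
-/

set_option autoImplicit false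
set_option linter.unusedSectionVars false

universe u

open CategoryTheory MonoidalCategory CartesianMonoidalCategory MonObj GrpObj AlgebraicGeometry

namespace K195.CentTor

open Groth.Agent Groth.Agent.Sga3B

variable {S : Scheme.{u}} {G Q Z T : Over S} [GrpObj G] [GrpObj Q] [GrpObj Z] [GrpObj T]

/-- A torus factors through its centralizer. -/
lemma exists_self (q : Q ⟶ G) [IsMonHom q] (hQ : Red.IsTorus Q) (z : Z ⟶ G) (hz : Red.IsCentralizerOf q z) :
    ∃ c : Q ⟶ Z, c ≫ z = q := by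
  refine (hz.2.2 Q q).2 fun X x h => ?_
  rw [← MonObj.mul_comp, ← MonObj.mul_comp, MaxTorNear900.mul_comm_of_isTorus hQ]

/-- `Q` factors through every maximal torus of its centralizer. -/
lemma exists_fac (hG : Red.IsReductive G) (q : Q ⟶ G) [IsMonHom q] [Mono q] (hQ : Red.IsTorus Q) (z : Z ⟶ G)
    (hz : Red.IsCentralizerOf q z) (t : T ⟶ Z) (ht : Red.IsMaximalTorus t) : ∃ c : Q ⟶ T, c ≫ t ≫ z = q := by
  have hZ := Agf.H600.CentRedK.isReductive_of_isCentralizerOf hG q hQ z hz
  have hzm := hz.1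
  have hzmono := hz.2.1
  obtain ⟨c, hc⟩ := exists_self q hQ z hz
  obtain ⟨c', hc'⟩ := ((TorClosed636.isCentralizerOf_self hZ ht).2.2 Q c).2 (by
    intro X x τ
    rw [← cancel_mono z, MonObj.mul_comp, MonObj.mul_comp, Category.assoc, hc]
    exact ((hz.2.2 _ ((τ ≫ t) ≫ z)).1 ⟨τ ≫ t, rfl⟩ X (𝟙 X) x ▸ (by rw [Category.id_comp])))
  exact ⟨c', by rw [← Category.assoc, hc', hc]⟩

/-- **Maximal tori of the centralizer of a torus are maximal tori of `G`.** -/
theorem isMaximalTorus_of_centralizer (hG : Red.IsReductive G) (q : Q ⟶ G) [IsMonHom q] [Mono q]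
    (hQ : Red.IsTorus Q) (z : Z ⟶ G) (hz : Red.IsCentralizerOf q z) (t : T ⟶ Z) (ht : Red.IsMaximalTorus t) :
    Red.IsMaximalTorus (t ≫ z) := by
  have hZ := Agf.H600.CentRedK.isReductive_of_isCentralizerOf hG q hQ z hz
  have hzm := hz.1
  have hzmono := hz.2.1
  have htm := ht.1
  have htmono := ht.2.1
  obtain ⟨c, hc⟩ := exists_fac hG q hQ z hz t ht
  refine SplitBc264.isMaximalTorus_of_isCentralizerOf ht.2.2.1 ⟨inferInstance, mono_comp _ _, fun X g => ⟨?_, ?_⟩⟩
  · rintro ⟨w, rfl⟩ X' x τ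
    rw [← Category.assoc x w, ← MonObj.mul_comp, ← MonObj.mul_comp, MaxTorNear900.mul_comm_of_isTorus ht.2.2.1]
  · intro h
    obtain ⟨w, hw⟩ := (hz.2.2 X g).2 (fun X' x y => by
      have := h X' x (y ≫ c)
      rwa [Category.assoc, hc] at this)
    obtain ⟨w', hw'⟩ := ((TorClosed636.isCentralizerOf_self hZ ht).2.2 X w).2 (fun X' x τ => by
      rw [← cancel_mono z, MonObj.mul_comp, MonObj.mul_comp, Category.assoc, hw, Category.assoc]
      exact h X' x τ)
    exact ⟨w', by rw [← Category.assoc, hw', hw]⟩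

/-- **The centralizer of a subtorus is of type (R).** -/
theorem isTypeR_centralizer (hG : Red.IsReductive G) (q : Q ⟶ G) [IsMonHom q] [Mono q] (hQ : Red.IsTorus Q)
    (z : Z ⟶ G) (hz : Red.IsCentralizerOf q z) : _root_.RedSub.IsTypeR z := by
  have hZ := Agf.H600.CentRedK.isReductive_of_isCentralizerOf hG q hQ z hz
  have h1 : IsAffineHom G.hom := hG.1
  have h1' : Smooth G.hom := hG.2.1
  obtain ⟨hcl, hs⟩ := Agf.H600.CentRedK.isClosedImmersion_smooth_of_isCentralizerOf q hQ z hz
  have hZa : IsAffineHom Z.hom := hZ.1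
  have := MaxTorBc505.geometricallyIrreducible hZ
  refine ⟨⟨hz.1, inferInstance⟩, hs, inferInstance, RedSub.H641.TypeRBc.hasConnectedFibres_of_geomIrr, fun s => ?_⟩
  have h2 := hz.1
  have h3 := hz.2.1
  have h4 : IsAffineHom (Red.geomFibre s Z).hom :=
    inferInstanceAs (IsAffineHom (Limits.pullback.snd Z.hom (Red.geomPt s)))
  have h5 : Smooth (Red.geomFibre s Z).hom :=
    inferInstanceAs (Smooth (Limits.pullback.snd Z.hom (Red.geomPt s)))
  have h6 : IsAffine (Red.geomFibre s Z).left := isAffine_of_isAffineHom (Red.geomFibre s Z).hom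
  obtain ⟨T, _, t, ht, -⟩ := RG.BrHc.exists_isMaximalTorus (Red.geomFibre s Z)
  exact ⟨T, inferInstance, t, ht.1, isMaximalTorus_of_centralizer (RedBc892U.isReductive_bc (Red.geomPt s) hG)
    ((Over.pullback (Red.geomPt s)).map q) (TorusBc.isTorus_bc _ hQ) _ (SplitBc264.isCentralizerOf_bc _ hz) t ht⟩

end K195.CentTor
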