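import Groth.Agent.S3951
import Groth.Agent.RedSub.H633.PowPts
import Groth.Agent.RedSub.H635.GaSm
import Groth.Agent.Sga3B.TorusAlgClosed
import Mathlib.AlgebraicGeometry.Morphisms.Separated

/-!
# Partial cell maps

The product of the root groups of some negative roots, the torus and the root groups of some positive roots is
immersed: `isImmersion_cellMap`.
-/

set_option autoImplicit false
universe u

open CategoryTheory MonoidalCategory CartesianMonoidalCategory MonObj GrpObj AlgebraicGeometry Limits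

namespace K195.PartCell

open Groth.Agent Groth.Agent.RedSub Groth.Agent.RedSub.H633.PowPts

/-- Extension of an enumeration. -/
lemma exists_append {I : Type} [Finite I] (R : Set I) {n : ℕ} (e : Fin n → I) (he : Function.Injective e)
    (hR : ∀ k, e k ∈ R) : ∃ (p : ℕ) (e' : Fin p → I), _root_.RedSub.Enumerates R (Fin.append e e') := by
  classical
  obtain ⟨p, ⟨f⟩⟩ := Finite.exists_equiv_fin ↥(R \ Set.range e)
  refine ⟨p, fun k => (f.symm k : I), ?_, ?_⟩
  · rw [Fin.append_injective_iff]
    refine ⟨he, fun a b hab => f.symm.injective (Subtype.ext hab), fun i j hij => ?_⟩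
    exact (f.symm j).2.2 ⟨i, hij⟩
  · ext a
    constructor
    · rintro ⟨k, rfl⟩
      refine Fin.addCases (fun k => ?_) (fun k => ?_) k
      · rw [Fin.append_left]
        exact hR k
      · rw [Fin.append_right]
        exact (f.symm k).2.1
    · intro ha
      by_cases h : a ∈ Set.range e
      · obtain ⟨k, rfl⟩ := h
        exact ⟨Fin.castAdd p k, Fin.append_left _ _ _⟩
      · refine ⟨Fin.natAdd n (f ⟨a, ha, h⟩), ?_⟩
        rw [Fin.append_right, Equiv.symm_apply_apply]

lemma append_comp {I J : Type*} {n p : ℕ} (g : I → J) (a : Fin n → I) (b : Fin p → I) :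
    (fun k => g (Fin.append a b k)) = Fin.append (fun k => g (a k)) (fun k => g (b k)) := by
  funext k
  refine Fin.addCases (fun k => ?_) (fun k => ?_) k
  · rw [Fin.append_left, Fin.append_left]
  · rw [Fin.append_right, Fin.append_right]

variable {S : Scheme.{u}} {X Y G : Over S}

/-- extension by a point -/
noncomputable def extP (z : 𝟙_ (Over S) ⟶ X) (n p : ℕ) : _root_.RedSub.pow X n ⟶ _root_.RedSub.pow X (n + p) :=
  mkPt (Fin.append (coord (𝟙 _)) fun _ => toUnit _ ≫ z)

/-- the first coordinates -/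
noncomputable def retP (X : Over S) (n p : ℕ) : _root_.RedSub.pow X (n + p) ⟶ _root_.RedSub.pow X n :=
  mkPt fun k => coord (𝟙 _) (Fin.castAdd p k)

@[reassoc (attr := simp)]
lemma extP_retP (z : 𝟙_ (Over S) ⟶ X) (n p : ℕ) : extP z n p ≫ retP X n p = 𝟙 _ := by
  apply H633.PowPts.hom_ext
  intro k
  rw [retP, comp_mkPt, coord_mkPt, ← comp_coord, Category.comp_id, extP, coord_mkPt, Fin.append_left]

variable [GrpObj G]

lemma extP_prodMap (z : 𝟙_ (Over S) ⟶ X) {n p : ℕ} (f : Fin n → (X ⟶ G)) (g : Fin p → (X ⟶ G))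
    (hz : ∀ k, z ≫ g k = 1) : extP z n p ≫ _root_.RedSub.prodMap X (n + p) (Fin.append f g) =
      _root_.RedSub.prodMap X n f := by
  rw [extP, mkPt_comp_prodMap]
  have h1 : (fun k => Fin.append (coord (𝟙 (_root_.RedSub.pow X n))) (fun _ : Fin p => toUnit _ ≫ z) k ≫
      Fin.append f g k) = Fin.append (fun k => coord (𝟙 (_root_.RedSub.pow X n)) k ≫ f k)
        (fun k => (toUnit _ ≫ z) ≫ g k) := by
    funext k
    refine Fin.addCases (fun k => ?_) (fun k => ?_) k
    · rw [Fin.append_left, Fin.append_left, Fin.append_left]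
    · rw [Fin.append_right, Fin.append_right, Fin.append_right]
  rw [h1, List.ofFn_fin_append, List.prod_append, ← comp_prodMap, Category.id_comp]
  have h2 : (List.ofFn fun k => (toUnit (_root_.RedSub.pow X n) ≫ z) ≫ g k).prod = 1 := by
    apply List.prod_eq_one
    intro y hy
    obtain ⟨k, rfl⟩ := (List.mem_ofFn' _ _).1 hy
    change (toUnit _ ≫ z) ≫ g k = 1
    rw [Category.assoc, hz, MonObj.comp_one]
  rw [h2, _root_.mul_one]

variable (D : Red.SplitRed G)

lemma one_u (a : D.idx) : (1 : 𝟙_ (Over S) ⟶ Red.Ga S) ≫ D.u a = 1 := by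
  have := (D.rootHom a).1
  exact MonObj.one_comp _

/-- the extension of partial cells -/
noncomputable def extC (n m p q : ℕ) : _root_.RedSub.pow (Red.Ga S) n ⊗ (D.T ⊗ _root_.RedSub.pow (Red.Ga S) m) ⟶
    _root_.RedSub.pow (Red.Ga S) (n + p) ⊗ (D.T ⊗ _root_.RedSub.pow (Red.Ga S) (m + q)) :=
  extP 1 n p ⊗ₘ (𝟙 D.T ⊗ₘ extP 1 m q)

/-- the retraction -/
noncomputable def retC (n m p q : ℕ) :
    _root_.RedSub.pow (Red.Ga S) (n + p) ⊗ (D.T ⊗ _root_.RedSub.pow (Red.Ga S) (m + q)) ⟶
      _root_.RedSub.pow (Red.Ga S) n ⊗ (D.T ⊗ _root_.RedSub.pow (Red.Ga S) m) :=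
  retP _ n p ⊗ₘ (𝟙 D.T ⊗ₘ retP _ m q)

lemma extC_retC (n m p q : ℕ) : extC D n m p q ≫ retC D n m p q = 𝟙 _ := by
  rw [extC, retC, tensorHom_comp_tensorHom, tensorHom_comp_tensorHom, extP_retP, extP_retP, Category.comp_id,
    id_tensorHom_id, id_tensorHom_id]

lemma extC_cellMap {n m p q : ℕ} (eneg : Fin n → D.idx) (epos : Fin m → D.idx) (eneg' : Fin p → D.idx)
    (epos' : Fin q → D.idx) :
    extC D n m p q ≫ _root_.RedSub.cellMap D (Fin.append eneg eneg') (Fin.append epos epos') =
      _root_.RedSub.cellMap D eneg epos := by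
  unfold _root_.RedSub.cellMap
  rw [append_comp D.u, append_comp D.u, MonObj.comp_mul, MonObj.comp_mul, extC]
  simp only [tensorHom_fst_assoc, tensorHom_snd_assoc, Category.id_comp]
  rw [extP_prodMap _ _ _ fun k => one_u D _, extP_prodMap _ _ _ fun k => one_u D _]

/-- **Partial cells are immersed.** -/
theorem isImmersion_cellMap (b : D.P.Base) {n m : ℕ} (eneg : Fin n → D.idx) (epos : Fin m → D.idx)
    (hneg : Function.Injective eneg) (hneg' : ∀ k, eneg k ∈ _root_.RedSub.negRoots D.P b)
    (hpos : Function.Injective epos) (hpos' : ∀ k, epos k ∈ _root_.RedSub.posRoots D.P b) :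
    IsImmersion (_root_.RedSub.cellMap D eneg epos).left := by
  obtain ⟨p, eneg', h1⟩ := exists_append (_root_.RedSub.negRoots D.P b) eneg hneg hneg'
  obtain ⟨q, epos', h2⟩ := exists_append (_root_.RedSub.posRoots D.P b) epos hpos hpos'
  have h3 := (Groth.Agent.S3951.result D b _ _ h1 h2).1
  have hG := D.reductive.1
  have hsep : IsSeparated (_root_.RedSub.pow (Red.Ga S) (n + p) ⊗
      (D.T ⊗ _root_.RedSub.pow (Red.Ga S) (m + q))).hom := by
    rw [← Over.w (_root_.RedSub.cellMap D (Fin.append eneg eneg') (Fin.append epos epos'))]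
    infer_instance
  have h4 : IsClosedImmersion (extC D n m p q).left := by
    have h5 : (extC D n m p q).left ≫ (retC D n m p q).left = 𝟙 _ := by
      rw [← Over.comp_left, extC_retC]
      rfl
    have h6 : IsSeparated (retC D n m p q).left := by
      have h7 : IsSeparated ((retC D n m p q).left ≫ (_root_.RedSub.pow (Red.Ga S) n ⊗
          (D.T ⊗ _root_.RedSub.pow (Red.Ga S) m)).hom) := by
        rw [Over.w]
        exact hsep
      exact IsSeparated.of_comp _ (_root_.RedSub.pow (Red.Ga S) n ⊗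
          (D.T ⊗ _root_.RedSub.pow (Red.Ga S) m)).hom
    have h8 : IsClosedImmersion ((extC D n m p q).left ≫ (retC D n m p q).left) := by
      rw [h5]
      infer_instance
    exact IsClosedImmersion.of_comp (extC D n m p q).left (retC D n m p q).left
  rw [← extC_cellMap D eneg epos eneg' epos', Over.comp_left]
  infer_instance

section Props

variable {S : Scheme.{u}} (P : MorphismProperty Scheme.{u}) [P.IsStableUnderComposition] [P.IsStableUnderBaseChange]

lemma prop_tensor {X Y : Over S} (hX : P X.hom) (hY : P Y.hom) : P (X ⊗ Y).hom := by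
  have h1 : (X ⊗ Y).hom = pullback.fst X.hom Y.hom ≫ X.hom := (Over.w (fst X Y)).symm
  rw [h1]
  exact P.comp_mem _ _ (P.pullback_fst _ _ hY) hX

lemma prop_pow {X : Over S} (hid : P (𝟙 S)) (hX : P X.hom) : ∀ n : ℕ, P (_root_.RedSub.pow X n).hom
  | 0 => hid
  | n + 1 => prop_tensor P hX (prop_pow hid hX n)

lemma prop_cell {G : Over S} [GrpObj G] (D : Red.SplitRed G) (hid : P (𝟙 S)) (hGa : P (Red.Ga S).hom) (hT : P D.T.hom) (n m : ℕ) :
    P (_root_.RedSub.pow (Red.Ga S) n ⊗ (D.T ⊗ _root_.RedSub.pow (Red.Ga S) m)).hom :=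
  prop_tensor P (prop_pow P hid hGa n) (prop_tensor P hT (prop_pow P hid hGa m))

end Props

/-- The source of a cell map is smooth. -/
lemma smooth_cell {S : Scheme.{u}} {G : Over S} [GrpObj G] (D : Red.SplitRed G) (n m : ℕ) :
    Smooth (_root_.RedSub.pow (Red.Ga S) n ⊗ (D.T ⊗ _root_.RedSub.pow (Red.Ga S) m)).hom :=
  prop_cell @Smooth D inferInstance H635.GaSm.smooth_ga (Sga3B.TorusAlgClosed.smooth_of_isTorus D.maximalTorus.2.2.1) n m

end K195.PartCell
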