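import Groth.Agent.RedSub.K195.Germs
import Groth.Agent.RedSub.K195.PartCell
import Groth.Agent.RedSub.H633.CellPtsR
import Groth.Agent.RedSub.H633.PosRoots
import Groth.Agent.RedSub.H652.FibOpen
import Groth.Agent.RedSub.H648.TypeR
import Groth.Agent.Sga3C.GrpIrr
import Groth.Agent.Etcore.SmoothRed
import Groth.Agent.Sga3B.Parab.FibIsoSch

/-!
# The big cell of a smooth subgroup containing the torus of a splitting

`D` a splitting of `G` over a nonempty base, `h : H ⟶ G` an immersed smooth subgroup with connected fibres containing the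
torus, such that every root is tangent everywhere or nowhere.  Let `e⁻`, `e⁺` enumerate together the tangent roots.

* `exists_cell`: the cell map `∏ u_{e⁻}(y) · t · ∏ u_{e⁺}(x)` factors through `H`;
* `isOpenImmersion_cell`: the factorisation is an open immersion as soon as the cell map is an immersion.
-/

set_option autoImplicit false
universe u

open CategoryTheory MonoidalCategory CartesianMonoidalCategory MonObj GrpObj AlgebraicGeometry Limits

namespace K195.TypeRCell

open Groth.Agent Groth.Agent.RedSub Groth.Agent.Sga3B Groth.Agent.Sga3B.Cell Groth.Agent.Sga3B.Cell.Datum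
  Groth.Agent.Sga3B.PinMod Groth.Agent.RedSub.H633.PowPts Groth.Agent.RedSub.H633.CellPtsR
  H635 H635.Uniq Germs

/-- A dense immersion into a reduced scheme is an open immersion. -/
theorem isOpenImmersion_of_dense {X Y : Scheme.{u}} (f : X ⟶ Y) [IsImmersion f] [IsReduced Y]
    (hf : DenseRange f) : IsOpenImmersion f := by
  have h1 : Surjective f.liftCoborder := by
    refine ⟨fun y => ?_⟩
    by_contra hy
    have h2 : IsOpen (f.coborderRange.ι '' (Set.range f.liftCoborder)ᶜ) :=
      f.coborderRange.ι.isOpenEmbedding.isOpenMap _ f.liftCoborder.isClosedEmbedding.isClosed_range.isOpen_compl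
    obtain ⟨x, y', hy', hx⟩ := hf.exists_mem_open h2 ⟨_, y, hy, rfl⟩
    refine hy' ⟨x, f.coborderRange.ι.isOpenEmbedding.injective ?_⟩
    rw [hx, ← Scheme.Hom.comp_apply, f.liftCoborder_ι]
  have h2 : IsReduced f.coborderRange.toScheme := inferInstance
  have h3 : IsIso f.liftCoborder := isIso_of_isClosedImmersion_of_surjective _
  rw [← f.liftCoborder_ι]
  infer_instance

section Lift

variable {S : Scheme.{u}} {X G H : Over S} [GrpObj G] [GrpObj H]

lemma prodMap_comp (h : H ⟶ G) [IsMonHom h] : ∀ (n : ℕ) (f : Fin n → (X ⟶ H)),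
    _root_.RedSub.prodMap X n f ≫ h = _root_.RedSub.prodMap X n (fun k => f k ≫ h)
  | 0, f => MonObj.one_comp h
  | n + 1, f => by
    rw [prodMap_succ, prodMap_succ, MonObj.mul_comp, Category.assoc, Category.assoc, prodMap_comp]

/-- The cell map into a subgroup. -/
theorem exists_cell (D : Red.SplitRed G) (h : H ⟶ G) [IsMonHom h] (t : D.T ⟶ H) (ht : t ≫ h = D.i) {n m : ℕ}
    (eneg : Fin n → D.idx) (epos : Fin m → D.idx) (h1 : ∀ k, ∃ v : Red.Ga S ⟶ H, v ≫ h = D.u (eneg k))
    (h2 : ∀ k, ∃ v : Red.Ga S ⟶ H, v ≫ h = D.u (epos k)) :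
    ∃ f : _root_.RedSub.pow (Red.Ga S) n ⊗ (D.T ⊗ _root_.RedSub.pow (Red.Ga S) m) ⟶ H,
      f ≫ h = _root_.RedSub.cellMap D eneg epos := by
  choose v hv using h1
  choose w hw using h2
  refine ⟨(fst _ _ ≫ _root_.RedSub.prodMap (Red.Ga S) n v) *
    ((snd _ _ ≫ fst _ _ ≫ t) * (snd _ _ ≫ snd _ _ ≫ _root_.RedSub.prodMap (Red.Ga S) m w)), ?_⟩
  rw [MonObj.mul_comp, MonObj.mul_comp]
  simp only [Category.assoc, prodMap_comp, hv, hw, ht]
  rfl

end Lift

section Points

/-- Rewriting a cell element as a product of root group elements around a torus element. -/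
lemma cell_append {R A B : Type u} [CommRing R] [CommRing A] [Algebra R A] [PtGrp R A] [CommRing B] [Algebra R B]
    (E : Datum R A) {n m : ℕ} (eneg : Fin n → E.idx) (epos : Fin m → E.idx) (rest : List E.idx)
    (x : E.idx → B) (y : TPt E.M B) (hx : ∀ a ∈ rest, x a = 0) :
    E.cell (List.ofFn eneg ++ (List.ofFn epos ++ rest)) x y =
      (List.ofFn fun k => E.uu (eneg k) B (x (eneg k))).prod *
        (E.i B y * (List.ofFn fun l => E.uu (epos l) B (TPt.ch (E.root (epos l)) y⁻¹ * x (epos l))).prod) := by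
  have h1 : (rest.map fun a => E.uu a B (x a)).prod = 1 := by
    apply List.prod_eq_one
    intro z hz
    obtain ⟨a, ha, rfl⟩ := List.mem_map.1 hz
    rw [hx a ha, uu_zero]
  have h3 : ((List.ofFn epos).map fun a => E.uu a B (x a)).prod * E.i B y =
      E.i B y * (List.ofFn fun l => E.uu (epos l) B (TPt.ch (E.root (epos l)) y⁻¹ * x (epos l))).prod := by
    have h4 := i_mul_prod E (List.ofFn epos) (fun a => TPt.ch (E.root a) y⁻¹ * x a) y
    have h5 : (fun a : E.idx => E.uu a B (TPt.ch (E.root a) y * (TPt.ch (E.root a) y⁻¹ * x a))) =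
        fun a => E.uu a B (x a) := by
      funext a
      have h6 : y * y⁻¹ = 1 := _root_.mul_inv_cancel y
      rw [← _root_.mul_assoc, ← TPt.ch_mul, h6, TPt.ch_one, _root_.one_mul]
    rw [h5] at h4
    rw [← h4, List.map_ofFn]
    rfl
  unfold cell
  rw [List.map_append, List.prod_append, List.map_append, List.prod_append, h1, _root_.mul_one,
    _root_.mul_assoc, h3, List.map_ofFn]
  rfl

variable {S : Scheme.{u}} {G : Over S} [GrpObj G] (D : Red.SplitRed G) {R : Type u} [CommRing R]
  {s : Spec (CommRingCat.of R) ⟶ S} (c : Chart G s) {B : Type u} [CommRing B] [Algebra R B]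

/-- A cell point whose coordinates vanish outside two lists is a point of the source of the cell map. -/
lemma exists_srcPt_of_cell {n m : ℕ} (eneg : Fin n → D.idx) (epos : Fin m → D.idx) (rest : List D.idx)
    (x : D.idx → B) (y : TPt D.M B) (hx : ∀ a ∈ rest, x a = 0) :
    ∃ r : tB s B ⟶ _root_.RedSub.pow (Red.Ga S) n ⊗ (D.T ⊗ _root_.RedSub.pow (Red.Ga S) m),
      r ≫ _root_.RedSub.cellMap D eneg epos =
        c.pts B ((c.datum D).cell (List.ofFn eneg ++ (List.ofFn epos ++ rest)) x y) := by
  refine ⟨srcPt D s (fun k => x (eneg k)) y (fun l => TPt.ch (D.P.root (epos l)) y⁻¹ * x (epos l)), ?_⟩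
  rw [srcPt_cellMap D s c]
  exact congrArg (c.pts B) (cell_append (c.datum D) eneg epos rest x y hx).symm

end Points

section Main

lemma irreducibleSpace_bc {S : Scheme.{u}} (G : Over S) [GrpObj G] [LocallyOfFiniteType G.hom]
    (hconn : _root_.RedSub.HasConnectedFibres G) {K : Type u} [Field K]
    (p : Spec (CommRingCat.of K) ⟶ S) : IrreducibleSpace (Red.bc p G).left := by
  have : GrpObj (Over.mk G.hom) := inferInstanceAs (GrpObj G)
  have h1 : GeometricallyIrreducible G.hom :=
    Sga3C.GrpIrr.geometricallyIrreducible_of_connected_fibres G.hom hconn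
  exact GeometricallyIrreducible.irreducibleSpace_of_subsingleton (pullback.snd G.hom p)

variable {S : Scheme.{u}} {G H : Over S} [GrpObj G] [GrpObj H] (D : Red.SplitRed G) (h : H ⟶ G)

/-- **The big cell of `H`.** -/
theorem isOpenImmersion_cell [Nonempty S] [IsMonHom h] [IsImmersion h.left] [Smooth H.hom]
    (hconn : _root_.RedSub.HasConnectedFibres H) (t : D.T ⟶ H) (ht : t ≫ h = D.i) (hd : Dich D h) {n m : ℕ}
    (eneg : Fin n → D.idx) (epos : Fin m → D.idx) (hinj : Function.Injective (Fin.append eneg epos))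
    (hR : ∀ a, E D h a = Set.univ ↔ a ∈ Set.range (Fin.append eneg epos))
    [IsImmersion (_root_.RedSub.cellMap D eneg epos).left]
    (f : _root_.RedSub.pow (Red.Ga S) n ⊗ (D.T ⊗ _root_.RedSub.pow (Red.Ga S) m) ⟶ H)
    (hf : f ≫ h = _root_.RedSub.cellMap D eneg epos) : IsOpenImmersion f.left := by
  classical
  have hfimm : IsImmersion f.left := by
    have h1 : IsImmersion (f.left ≫ h.left) := by
      rw [← Over.comp_left, hf]
      infer_instance
    exact IsImmersion.of_comp f.left h.left
  have hmono : Mono h := Over.mono_of_mono_left h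
  -- the roots which are not tangent
  let rest : List D.idx := (Finset.univ.filter fun a => a ∉ Set.range (Fin.append eneg epos)).toList
  have hmemrest : ∀ a, a ∈ rest ↔ a ∉ Set.range (Fin.append eneg epos) := by
    intro a
    rw [Finset.mem_toList, Finset.mem_filter]
    exact ⟨fun h => h.2, fun h => ⟨Finset.mem_univ a, h⟩⟩
  have hL2 : ∀ a, a ∈ List.ofFn eneg ++ (List.ofFn epos ++ rest) := by
    intro a
    rw [← List.append_assoc, ← List.ofFn_fin_append, List.mem_append, hmemrest, List.mem_ofFn']
    exact em _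
  have hL1 : (List.ofFn eneg ++ (List.ofFn epos ++ rest)).Nodup := by
    rw [← List.append_assoc, ← List.ofFn_fin_append, List.nodup_append']
    refine ⟨List.nodup_ofFn.2 hinj, Finset.nodup_toList _, ?_⟩
    intro a ha ha'
    exact (hmemrest a).1 ha' ((List.mem_ofFn' _ _).1 ha)
  obtain ⟨ξ, R, _, s, c, E', _, _, w, x, y, hw, hσ, hx, hwi⟩ := exists_germs D h t ht hd _ hL1 hL2
  have hr : ∀ j, ∃ r : tB (s j) (E' j) ⟶
      _root_.RedSub.pow (Red.Ga S) n ⊗ (D.T ⊗ _root_.RedSub.pow (Red.Ga S) m), r ≫ f = w j := by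
    intro j
    obtain ⟨r, hr⟩ := exists_srcPt_of_cell D (c j) eneg epos rest (x j) (y j) (fun a ha => by
      refine hx j a ((hd a).resolve_right fun h => (hmemrest a).1 ha ((hR a).1 h)))
    refine ⟨r, ?_⟩
    rw [← cancel_mono h, Category.assoc, hf, hr, hwi j]
  have hsm := PartCell.smooth_cell D n m
  refine H652.FibOpen.isOpenImmersion_of_geomFibres f fun σ => ?_
  -- the geometric fibre
  let p := Red.geomPt σ
  have e1 : Smooth (Red.bc p H).hom := inferInstanceAs (Smooth (pullback.snd _ _))
  have e2 : IsReduced (Red.bc p H).left := Etcore.SmoothRed.isReduced_of_smooth (Red.bc p H).hom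
  have e3 : IrreducibleSpace (Red.bc p H).left := irreducibleSpace_bc H hconn p
  have e4 : IsImmersion ((Over.pullback p).map f).left :=
    MorphismProperty.of_isPullback (P := @IsImmersion) (Parab.FibIsoSch.isPullback_map_left p f) hfimm
  refine isOpenImmersion_of_dense _ ?_
  obtain ⟨j, z, hz⟩ := hσ σ
  obtain ⟨r, hr⟩ := hr j
  have e5 : Etale (w j).left := hw j
  have e6 : Etale ((Over.pullback p).map (w j)).left :=
    MorphismProperty.of_isPullback (P := @Etale) (Parab.FibIsoSch.isPullback_map_left p (w j)) e5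
  have h1 : ((Over.pullback p).map (w j)).left =
      ((Over.pullback p).map r).left ≫ ((Over.pullback p).map f).left := by
    rw [← Over.comp_left, ← Functor.map_comp, hr]
  have h2 : IsOpen (Set.range ((Over.pullback p).map (w j)).left) :=
    ((Over.pullback p).map (w j)).left.isOpenMap.isOpen_range
  obtain ⟨y', -, -⟩ := Scheme.Pullback.exists_preimage_pullback (f := (tB (s j) (E' j)).hom) (g := p) z
    (IsLocalRing.closedPoint (AlgebraicClosure (S.residueField σ)))
    (hz.trans (H652.FibOpen.geomPt_closedPoint σ).symm)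
  have h3 : Dense (Set.range ((Over.pullback p).map (w j)).left) :=
    h2.dense ⟨_, y', rfl⟩
  refine h3.mono ?_
  rintro _ ⟨a, rfl⟩
  exact ⟨((Over.pullback p).map r).left a, by rw [h1, Scheme.Hom.comp_apply]⟩

end Main

end K195.TypeRCell
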