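import Groth.Agent.RedSub.K195.DynH
import Groth.Agent.RedSub.K195.TypeRCell

/-!
# The unipotent radical in the dynamic decomposition

`Dec i lam l u π` with `L` reductive, `U` affine: `u : U ⟶ H` is a unipotent radical of `H` (`Dec.isUnipotentRadical`).
-/

set_option autoImplicit false
set_option linter.unusedSectionVars false

universe u

open CategoryTheory MonoidalCategory CartesianMonoidalCategory MonObj GrpObj AlgebraicGeometry
open Groth.Agent.Sga3B Groth.Agent.Sga3B.Parab
open Groth.Agent.Sga3B.Parab.Dyn998 Groth.Agent.Sga3B.Parab.DynExist998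
open Groth.Agent.Sga3B.Parab.DynBc998 Groth.Agent.Sga3B.Parab.DynLevi998
open Groth.Agent.Sga3B.Parab.ConjPt Groth.Agent.Sga3B.Parab.RadExist147

namespace K195.DynH

open Groth.Agent Groth.Agent.Redsub.H673

namespace Dec

variable {S : Scheme.{u}} {G H L U : Over S} [GrpObj G] [GrpObj H] [GrpObj L] [GrpObj U]
  {i : H ⟶ G} {lam : Red.Gm S ⟶ H} {l : L ⟶ H} {u : U ⟶ H} {π : H ⟶ L}

/-- `U` contains no subtorus. -/
lemma hasNoSubtorus (d : Dec i lam l u π) [IsAffineHom G.hom] [Smooth G.hom] [IsMonHom i] [IsImmersion i.left]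
    [IsMonHom lam] (s : S) :
    Red.HasNoSubtorus (AlgebraicClosure (S.residueField s)) (Red.geomFibre s U) := by
  have hum := d.umon
  have humono := d.umono
  have him : Mono i := mono_imm i
  obtain ⟨U₀, _, u₀, hu₀, -⟩ := exists_isDynU (lam ≫ i)
  have hu₀m := hu₀.isMonHom
  have hu₀mono := hu₀.mono
  obtain ⟨a, ha⟩ := (hu₀.iff_ptU _ _).2 ((d.memU u).1 ⟨𝟙 _, Category.id_comp _⟩)
  have ham : IsMonHom a := by
    have : IsMonHom (a ≫ u₀) := by rw [ha]; infer_instance
    exact isMonHom_of_comp_mono (p := u₀)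
  have hamono : Mono a := by
    have h1 : Mono (u ≫ i) := mono_comp u i
    have : Mono (a ≫ u₀) := by rw [ha]; infer_instance
    exact mono_of_mono a u₀
  have h3 := hu₀.bc (Red.geomPt s)
  have h4 : IsAffineHom (Red.geomFibre s G).hom :=
    inferInstanceAs (IsAffineHom (Limits.pullback.snd G.hom (Red.geomPt s)))
  have h5 : Smooth (Red.geomFibre s G).hom :=
    inferInstanceAs (Smooth (Limits.pullback.snd G.hom (Red.geomPt s)))
  exact Inter.hasNoSubtorus_of_mono ((Over.pullback (Red.geomPt s)).map a)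
    (DynGeom678.hasNoSubtorus_isDynU h3)

/-- The projection of a normal subgroup to `L` is contained in it. -/
lemma exists_proj_mem (d : Dec i lam l u π) [IsMonHom i] [IsImmersion i.left] [IsMonHom lam] {V : Over S} [GrpObj V]
    (v : V ⟶ H) [IsMonHom v] (hv : IsClosedImmersion v.left) (hvn : AlgGrp.IsNormalHom v) :
    ∃ n : V ⟶ V, n ≫ v = v ≫ π ≫ l := by
  have := d.lmon
  have := d.umon
  have := d.pmon
  have him : Mono i := mono_imm i
  have h0 : IsImmersion (v ≫ i).left := by
    rw [Over.comp_left]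
    infer_instance
  obtain ⟨r, hr, -⟩ := d.exists_retr
  have key : ∃ n : V ⟶ V, n ≫ v ≫ i = (v ≫ π ≫ l) ≫ i := by
    refine levi_mem' (v ≫ i) (mu := lam ≫ i) (x := 𝟙 V) (v := (v ≫ r ≫ u) ≫ i) ?_ ?_ ?_ ?_
    · intro C _ c x
      obtain ⟨y, hy⟩ := hvn (gmo C c) (tPt C c ≫ lam) (gmPr C c ≫ x)
      refine ⟨y, ?_⟩
      rw [← Category.assoc x v i, Func.orb_map, ← Category.assoc y v i, ← hy, orb, Category.assoc]
    · exact (d.memL _).1 ⟨v ≫ π, Category.assoc _ _ _⟩
    · exact (d.memU _).1 ⟨v ≫ r, Category.assoc _ _ _⟩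
    · rw [hr, Category.id_comp, ← MonObj.mul_comp]
      congr 1
      rw [MonObj.comp_mul, GrpObj.comp_inv, Category.comp_id, mul_inv_cancel_left]
  obtain ⟨n, hn⟩ := key
  refine ⟨n, ?_⟩
  rw [← cancel_mono i, Category.assoc, hn]

/-- **The unipotent radical.** -/
theorem isUnipotentRadical (d : Dec i lam l u π) [IsAffineHom G.hom] [Smooth G.hom] [IsMonHom i]
    [IsImmersion i.left] [IsMonHom lam] [Smooth H.hom] [QuasiCompact H.hom]
    (hconn : _root_.RedSub.HasConnectedFibres H) (hL : Red.IsReductive L) (hU : IsAffineHom U.hom) :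
    Par.IsUnipotentRadical u := by
  have hlm := d.lmon
  have hum := d.umon
  have hpm := d.pmon
  have humono := d.umono
  have hiso := d.isIso_mul
  have hLa : IsAffineHom L.hom := hL.1
  have hUs := d.smoothU
  have hHa : IsAffineHom H.hom := by
    have h1 : IsAffineHom (L ⊗ U).hom := by
      have h2 : (L ⊗ U).hom = Limits.pullback.fst L.hom U.hom ≫ L.hom := (Over.w (fst L U)).symm
      rw [h2]
      have h3 : IsAffineHom (Limits.pullback.fst L.hom U.hom) :=
        MorphismProperty.pullback_fst (P := @IsAffineHom) _ _ hU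
      exact MorphismProperty.comp_mem @IsAffineHom _ _ h3 hLa
    have h2 : (inv ((l ⊗ₘ u) ≫ μ[H])).left ≫ (L ⊗ U).hom = H.hom := Over.w _
    rw [← h2]
    have h4 : IsIso (inv ((l ⊗ₘ u) ≫ μ[H])).left :=
      inferInstanceAs (IsIso ((Over.forget S).map (inv ((l ⊗ₘ u) ≫ μ[H]))))
    exact MorphismProperty.comp_mem @IsAffineHom _ _ inferInstance h1
  have hpr : Semi.pr l u = π := by
    have h1 := Semi.comp_pr_eq l u (𝟙 H) π d.exists_retr.choose (by
      rw [d.exists_retr.choose_spec.1, mul_inv_cancel_left])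
    rwa [Category.id_comp] at h1
  refine ⟨hum, d.ucl, d.normal, hUs, d.qcU, fun s => ⟨?_, d.hasNoSubtorus s⟩, ?_⟩
  · have h1 : IrreducibleSpace (Red.bc (Red.geomPt s) U).left :=
      K195.TypeRCell.irreducibleSpace_bc U (d.connU hconn) (Red.geomPt s)
    exact inferInstanceAs (ConnectedSpace (Red.bc (Red.geomPt s) U).left)
  · intro V _ v _ hv hvn hvs hvq hf
    obtain ⟨n, hn⟩ := d.exists_proj_mem v hv hvn
    have hVa : IsAffineHom V.hom := by
      rw [← Over.w v]
      infer_instance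
    exact Kill.exists_factor l u d.lcl hL v hv hvn hvs hVa hf n (by rw [hn, hpr])

end Dec

end K195.DynH
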