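import Groth.Agent.RedSub.K195.TypeRDec
import Groth.Agent.RedSub.H637.PosRoots
import Mathlib.AlgebraicGeometry.Morphisms.IsIso

/-!
# The unipotent part as a product of root groups

In the situation of `TypeRDec`: for every ordering `e` of `{a ∈ R' | 0 < mu a}` the product of the root groups is an
isomorphism of `𝔾_a^m` onto `U = H ∩ U_G(mu)` (`exists_prodIso`).
-/

set_option autoImplicit false
set_option linter.unusedSectionVars false

universe u

open CategoryTheory MonoidalCategory CartesianMonoidalCategory MonObj GrpObj AlgebraicGeometry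
open Groth.Agent.Sga3B Groth.Agent.Sga3B.Parab
open Groth.Agent.Sga3B.Parab.Dyn998 Groth.Agent.Sga3B.Parab.DynExist998
open Groth.Agent.Sga3B.Parab.DynBc998 Groth.Agent.Sga3B.Parab.DynLevi998
open Groth.Agent.Sga3B.Parab.ConjPt Groth.Agent.Sga3B.Parab.RadExist147
open Groth.Agent.Sga3B.BorRP478 Groth.Agent.Sga3B.DSPts Groth.Agent.Sga3B.GaPts
open Groth.Agent.RedSub.H633.PowPts

namespace K195.ProdIso

open Groth.Agent Groth.Agent.RedSub DynH TypeRDec TypeRCell

section Words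

variable {S : Scheme.{u}} {G X Y : Over S} [GrpObj G] (D : Red.SplitRed G)

/-- Splitting off the last factors of a cell. -/
lemma lift_cellMap_append {n m₁ m : ℕ} (eneg : Fin n → D.idx) (e₁ : Fin m₁ → D.idx) (e : Fin m → D.idx)
    (y : Fin n → (X ⟶ Red.Ga S)) (t : X ⟶ D.T) (x₁ : Fin m₁ → (X ⟶ Red.Ga S)) (x : Fin m → (X ⟶ Red.Ga S)) :
    lift (mkPt y) (lift t (mkPt (Fin.append x₁ x))) ≫ _root_.RedSub.cellMap D eneg (Fin.append e₁ e) =
      (lift (mkPt y) (lift t (mkPt x₁)) ≫ _root_.RedSub.cellMap D eneg e₁) *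
        (mkPt x ≫ _root_.RedSub.prodMap (Red.Ga S) m (fun k => D.u (e k))) := by
  rw [lift_cellMap, lift_cellMap, mkPt_comp_prodMap]
  have h1 : (fun k => Fin.append x₁ x k ≫ D.u (Fin.append e₁ e k)) =
      Fin.append (fun k => x₁ k ≫ D.u (e₁ k)) (fun k => x k ≫ D.u (e k)) := by
    funext k
    refine Fin.addCases (fun k => ?_) (fun k => ?_) k
    · rw [Fin.append_left, Fin.append_left, Fin.append_left]
    · rw [Fin.append_right, Fin.append_right, Fin.append_right]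
  rw [h1, List.ofFn_fin_append, List.prod_append]
  simp only [_root_.mul_assoc]

lemma one_ga_u {X : Over S} (a : D.idx) : (1 : X ⟶ Red.Ga S) ≫ D.u a = 1 := by
  have := (D.rootHom a).1
  exact MonObj.one_comp _

/-- The trivial point of a cell. -/
lemma lift_one_cellMap {X : Over S} {n m : ℕ} (eneg : Fin n → D.idx) (epos : Fin m → D.idx) :
    lift (mkPt fun _ => (1 : X ⟶ Red.Ga S)) (lift (1 : X ⟶ D.T) (mkPt fun _ => (1 : X ⟶ Red.Ga S))) ≫
      _root_.RedSub.cellMap D eneg epos = 1 := by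
  have := D.maximalTorus.1
  rw [lift_cellMap, MonObj.one_comp]
  simp only [one_ga_u, List.ofFn_const, List.prod_replicate, one_pow, _root_.mul_one]

end Words

variable {S : Scheme.{u}} [ConnectedSpace S] {G H L U : Over S} [GrpObj G] [GrpObj H] [GrpObj L] [GrpObj U]
  {D : Red.SplitRed G} {mu : D.M →+ ℤ} {h : H ⟶ G} {t : D.T ⟶ H} {l : L ⟶ H} {u : U ⟶ H} {π : H ⟶ L}

omit [ConnectedSpace S] in
lemma exists_lift_L (ht : t ≫ h = D.i) (d : Dec h (coH t mu) l u π) {a : D.idx} {v : Red.Ga S ⟶ H} (hv : v ≫ h = D.u a)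
    (ha : mu (D.P.root a) = 0) : ∃ w : Red.Ga S ⟶ L, w ≫ l ≫ h = D.u a := by
  obtain ⟨w, hw⟩ := (d.memL v).2 (by
    rw [hv, coH_comp t ht]
    have := ptZ_u D mu (𝟙 (Red.Ga S)) a ha
    rwa [Category.id_comp] at this)
  exact ⟨w, by rw [← Category.assoc, hw, hv]⟩

omit [ConnectedSpace S] in
lemma exists_lift_U (ht : t ≫ h = D.i) (d : Dec h (coH t mu) l u π) {a : D.idx} {v : Red.Ga S ⟶ H} (hv : v ≫ h = D.u a)
    (ha : 0 < mu (D.P.root a)) : ∃ w : Red.Ga S ⟶ U, w ≫ u ≫ h = D.u a := by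
  obtain ⟨w, hw⟩ := (d.memU v).2 (by
    rw [hv, coH_comp t ht]
    have := ptU_u D mu (𝟙 (Red.Ga S)) a ha
    rwa [Category.id_comp] at this)
  exact ⟨w, by rw [← Category.assoc, hw, hv]⟩

/-- **The unipotent part is a product of root groups.** -/
theorem exists_prodIso (hH : _root_.RedSub.IsTypeR h) (ht : t ≫ h = D.i) {R' : Set D.idx}
    (hR' : ∀ a : D.idx, (∃ v : Red.Ga S ⟶ H, v ≫ h = D.u a) ↔ a ∈ R') (hmu : ∀ a ∈ R', 0 ≤ mu (D.P.root a))
    (d : Dec h (coH t mu) l u π) (b : D.P.Base) (hb : ∀ a, 0 < mu (D.P.root a) → a ∈ _root_.RedSub.posRoots D.P b)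
    {m : ℕ} (e : Fin m → D.idx) (he : _root_.RedSub.Enumerates {a | a ∈ R' ∧ 0 < mu (D.P.root a)} e) :
    ∃ ψ : _root_.RedSub.pow (Red.Ga S) m ≅ U,
      ψ.hom ≫ u ≫ h = _root_.RedSub.prodMap (Red.Ga S) m (fun k => D.u (e k)) := by
  have hm := hH.1.1
  have himm := hH.1.2
  have hmono : Mono h := mono_imm h
  have hHs := hH.2.1
  have hlm := d.lmon
  have hum := d.umon
  have hpm := d.pmon
  have hlmono := d.lmono
  have humono := d.umono
  have hucl := d.ucl
  have hlcl := d.lcl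
  have hlhm : Mono (l ≫ h) := mono_comp l h
  have huhm : Mono (u ≫ h) := mono_comp u h
  have he' : ∀ k, e k ∈ R' ∧ 0 < mu (D.P.root (e k)) := fun k =>
    (show e k ∈ {a | a ∈ R' ∧ 0 < mu (D.P.root a)} from he.2 ▸ ⟨k, rfl⟩)
  have hpos : ∀ a ∈ R', a ∈ _root_.RedSub.negRoots D.P b → mu (D.P.root a) = 0 := by
    intro a ha hneg
    by_contra hne
    have h1 := hb a (lt_of_le_of_ne (hmu a ha) (Ne.symm hne))
    have h2 := (H633.PosRoots.mem_negRoots_iff b).1 hneg
    have h3 := (H633.PosRoots.mem_posRoots_iff b).1 h1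
    omega
  -- the root groups of `U`
  choose v hv using fun k => (hR' (e k)).2 (he' k).1
  choose w hw using fun k => exists_lift_U ht d (hv k) (he' k).2
  let p : _root_.RedSub.pow (Red.Ga S) m ⟶ U := _root_.RedSub.prodMap (Red.Ga S) m w
  have hp : p ≫ u ≫ h = _root_.RedSub.prodMap (Red.Ga S) m (fun k => D.u (e k)) := by
    have : IsMonHom (u ≫ h) := inferInstance
    rw [prodMap_comp (u ≫ h)]
    congr 1
    funext k
    exact hw k
  have hcl1 := PartBorel.isClosedImmersion_prodMap D b e he.1 fun k => hb _ (he' k).2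
  have hpcl : IsClosedImmersion p.left := by
    have h1 : IsClosedImmersion (p.left ≫ (u ≫ h).left) := by
      rw [← Over.comp_left, hp]
      exact hcl1
    have h2 : IsImmersion (u ≫ h).left := by
      rw [Over.comp_left]
      infer_instance
    exact IsClosedImmersion.of_comp p.left (u ≫ h).left
  have hpmono : Mono p := mono_imm p
  -- the big cell
  obtain ⟨n, eneg, hneg⟩ := H637.PosRoots.exists_enumerates (R' ∩ _root_.RedSub.negRoots D.P b)
  obtain ⟨m₁, e₁, he₁⟩ := H637.PosRoots.exists_enumerates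
    {a | a ∈ R' ∧ a ∈ _root_.RedSub.posRoots D.P b ∧ mu (D.P.root a) = 0}
  have hneg' : ∀ k, eneg k ∈ R' ∩ _root_.RedSub.negRoots D.P b := fun k =>
    (show eneg k ∈ R' ∩ _root_.RedSub.negRoots D.P b from hneg.2 ▸ ⟨k, rfl⟩)
  have he₁' : ∀ k, e₁ k ∈ R' ∧ e₁ k ∈ _root_.RedSub.posRoots D.P b ∧ mu (D.P.root (e₁ k)) = 0 := fun k =>
    (show e₁ k ∈ {a | a ∈ R' ∧ a ∈ _root_.RedSub.posRoots D.P b ∧ mu (D.P.root a) = 0} from he₁.2 ▸ ⟨k, rfl⟩)
  have happ : _root_.RedSub.Enumerates (R' ∩ _root_.RedSub.posRoots D.P b) (Fin.append e₁ e) := by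
    constructor
    · rw [Fin.append_injective_iff]
      refine ⟨he₁.1, he.1, fun i j hij => ?_⟩
      have h1 := (he₁' i).2.2
      have h2 := (he' j).2
      rw [hij] at h1
      omega
    · ext a
      constructor
      · rintro ⟨k, rfl⟩
        refine Fin.addCases (fun k => ?_) (fun k => ?_) k
        · rw [Fin.append_left]
          exact ⟨(he₁' k).1, (he₁' k).2.1⟩
        · rw [Fin.append_right]
          exact ⟨(he' k).1, hb _ (he' k).2⟩
      · rintro ⟨ha, hap⟩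
        rcases eq_or_lt_of_le (hmu a ha) with h0 | h0
        · have h1 : a ∈ Set.range e₁ := he₁.2 ▸ ⟨ha, hap, h0.symm⟩
          obtain ⟨k, rfl⟩ := h1
          exact ⟨Fin.castAdd m k, Fin.append_left _ _ _⟩
        · have h1 : a ∈ Set.range e := he.2 ▸ ⟨ha, h0⟩
          obtain ⟨k, rfl⟩ := h1
          exact ⟨Fin.natAdd m₁ k, Fin.append_right _ _ _⟩
  obtain ⟨f, hf, hfo⟩ := Conn.exists_cell_open D h hH t ht R' hR' b eneg (Fin.append e₁ e) hneg happ
  -- the cell of `L`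
  obtain ⟨tL, htL⟩ := (d.memL t).2 (by rw [ht, coH_comp t ht]; exact ptZ_torus D mu)
  obtain ⟨f₁, hf₁⟩ := exists_cell D (l ≫ h) tL (by rw [← Category.assoc, htL, ht]) eneg e₁
    (fun k => by
      obtain ⟨v, hv⟩ := (hR' (eneg k)).2 (hneg' k).1
      exact exists_lift_L ht d hv (hpos _ (hneg' k).1 (hneg' k).2))
    (fun k => by
      obtain ⟨v, hv⟩ := (hR' (e₁ k)).2 (he₁' k).1
      exact exists_lift_L ht d hv (he₁' k).2.2)
  have hf₁mono : Mono f₁ := by
    have h1 := PartCell.isImmersion_cellMap D b eneg e₁ hneg.1 (fun k => (hneg' k).2) he₁.1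
      (fun k => (he₁' k).2.1)
    have h2 : Mono (f₁ ≫ l ≫ h) := by
      rw [hf₁]
      exact mono_imm _
    exact mono_of_mono f₁ (l ≫ h)
  -- decomposition of the cell
  have hkey : ∀ {X : Over S} (y : Fin n → (X ⟶ Red.Ga S)) (τ : X ⟶ D.T) (x₁ : Fin m₁ → (X ⟶ Red.Ga S))
      (x : Fin m → (X ⟶ Red.Ga S)), lift (mkPt y) (lift τ (mkPt (Fin.append x₁ x))) ≫ f =
        ((lift (mkPt y) (lift τ (mkPt x₁)) ≫ f₁) ≫ l) * (mkPt x ≫ p ≫ u) := by
    intro X y τ x₁ x
    rw [← cancel_mono h, MonObj.mul_comp, Category.assoc, hf, lift_cellMap_append]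
    simp only [Category.assoc]
    rw [hf₁, hp]
  have hone : ∀ {X : Over S}, lift (mkPt fun _ => (1 : X ⟶ Red.Ga S)) (lift (1 : X ⟶ D.T)
      (mkPt fun _ => (1 : X ⟶ Red.Ga S))) ≫ f₁ = 1 := by
    intro X
    rw [← cancel_mono (l ≫ h), Category.assoc, hf₁, lift_one_cellMap, MonObj.one_comp]
  let ι' : _root_.RedSub.pow (Red.Ga S) m ⟶
      _root_.RedSub.pow (Red.Ga S) n ⊗ (D.T ⊗ _root_.RedSub.pow (Red.Ga S) (m₁ + m)) :=
    lift (mkPt fun _ => 1) (lift 1 (mkPt (Fin.append (fun _ => 1) (coord (𝟙 _)))))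
  have hι : ∀ {X : Over S} (x : Fin m → (X ⟶ Red.Ga S)), mkPt x ≫ ι' =
      lift (mkPt fun _ => 1) (lift 1 (mkPt (Fin.append (fun _ => 1) x))) := by
    intro X x
    change mkPt x ≫ lift (mkPt fun _ => 1) (lift 1 (mkPt (Fin.append (fun _ => 1) (coord (𝟙 _))))) = _
    rw [comp_lift, comp_lift, MonObj.comp_one, comp_mkPt, comp_mkPt]
    congr 2
    · funext k
      exact MonObj.comp_one _
    · congr 1
      funext k
      refine Fin.addCases (fun k => ?_) (fun k => ?_) k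
      · rw [Fin.append_left, Fin.append_left, MonObj.comp_one]
      · rw [Fin.append_right, Fin.append_right, ← comp_coord, Category.comp_id, coord_mkPt]
  have hsq : ι' ≫ f = p ≫ u := by
    have h1 := hι (coord (𝟙 (_root_.RedSub.pow (Red.Ga S) m)))
    rw [mkPt_coord, Category.id_comp] at h1
    rw [h1, hkey, hone, MonObj.one_comp, _root_.one_mul, mkPt_coord, Category.id_comp]
  have hup : u ≫ π = 1 := (d.ker u).1 ⟨𝟙 _, Category.id_comp _⟩
  have hmain : ∀ {X : Over S} (ω : X ⟶ _root_.RedSub.pow (Red.Ga S) n ⊗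
      (D.T ⊗ _root_.RedSub.pow (Red.Ga S) (m₁ + m))) (z : X ⟶ U), ω ≫ f = z ≫ u →
      (mkPt fun k => coord (ω ≫ snd _ _ ≫ snd _ _) (Fin.natAdd m₁ k)) ≫ ι' = ω ∧
      (mkPt fun k => coord (ω ≫ snd _ _ ≫ snd _ _) (Fin.natAdd m₁ k)) ≫ p = z := by
    intro X ω z hc
    obtain ⟨y, hy⟩ : ∃ y : Fin n → (X ⟶ Red.Ga S), y = coord (ω ≫ fst _ _) := ⟨_, rfl⟩
    obtain ⟨τ, hτ⟩ : ∃ τ : X ⟶ D.T, τ = ω ≫ snd _ _ ≫ fst _ _ := ⟨_, rfl⟩
    obtain ⟨x₁, hx₁⟩ : ∃ x₁ : Fin m₁ → (X ⟶ Red.Ga S),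
      x₁ = fun k => coord (ω ≫ snd _ _ ≫ snd _ _) (Fin.castAdd m k) := ⟨_, rfl⟩
    obtain ⟨x, hx⟩ : ∃ x : Fin m → (X ⟶ Red.Ga S),
      x = fun k => coord (ω ≫ snd _ _ ≫ snd _ _) (Fin.natAdd m₁ k) := ⟨_, rfl⟩
    rw [← hx]
    have hω : ω = lift (mkPt y) (lift τ (mkPt (Fin.append x₁ x))) := by
      rw [hx₁, hx, Fin.append_castAdd_natAdd, hy, hτ]
      exact eq_lift ω
    have h1 : ω ≫ f = ((lift (mkPt y) (lift τ (mkPt x₁)) ≫ f₁) ≫ l) * (mkPt x ≫ p ≫ u) := by
      rw [hω]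
      exact hkey y τ x₁ x
    have hA : lift (mkPt y) (lift τ (mkPt x₁)) ≫ f₁ = 1 := by
      have h2 : (ω ≫ f) ≫ π = lift (mkPt y) (lift τ (mkPt x₁)) ≫ f₁ := by
        rw [h1, MonObj.mul_comp]
        simp only [Category.assoc, d.lp, hup, MonObj.comp_one, _root_.mul_one, Category.comp_id]
      rw [← h2, hc, Category.assoc, hup, MonObj.comp_one]
    have h2 : lift (mkPt y) (lift τ (mkPt x₁)) = lift (mkPt fun _ => (1 : X ⟶ Red.Ga S))
        (lift (1 : X ⟶ D.T) (mkPt fun _ => (1 : X ⟶ Red.Ga S))) := by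
      rw [← cancel_mono f₁, hA, hone]
    have h3 : mkPt y = mkPt fun _ => (1 : X ⟶ Red.Ga S) := by
      simpa using congrArg (fun z => z ≫ fst _ _) h2
    have h4 : lift τ (mkPt x₁) = lift (1 : X ⟶ D.T) (mkPt fun _ => (1 : X ⟶ Red.Ga S)) := by
      simpa using congrArg (fun z => z ≫ snd _ _) h2
    have h5 : τ = 1 := by
      simpa using congrArg (fun z => z ≫ fst _ _) h4
    have h6 : mkPt x₁ = mkPt fun _ => (1 : X ⟶ Red.Ga S) := by
      simpa using congrArg (fun z => z ≫ snd _ _) h4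
    have h7 : x₁ = fun _ => (1 : X ⟶ Red.Ga S) := by
      funext k
      have := congrArg (fun z => coord z k) h6
      simpa only [coord_mkPt] using this
    constructor
    · rw [hι, hω, h3, h5, h7]
    · rw [← cancel_mono u, Category.assoc, ← hc, h1, hA, MonObj.one_comp, _root_.one_mul]
  have hpb : IsPullback ι' p f u := by
    refine ⟨⟨hsq⟩, ⟨Limits.PullbackCone.IsLimit.mk _
      (fun s => mkPt fun k => coord (s.fst ≫ snd _ _ ≫ snd _ _) (Fin.natAdd m₁ k)) ?_ ?_ ?_⟩⟩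
    · intro s
      exact (hmain s.fst s.snd s.condition).1
    · intro s
      exact (hmain s.fst s.snd s.condition).2
    · intro s k _ hk
      rw [← cancel_mono p, hk]
      exact (hmain s.fst s.snd s.condition).2.symm
  have hpo : IsOpenImmersion p.left :=
    MorphismProperty.of_isPullback (P := @IsOpenImmersion) (Kill.isPullback_left hpb) hfo
  have hsurj : Function.Surjective p.left := by
    intro y
    have h1 : IsClopen (Set.range p.left) :=
      ⟨p.left.isClosedEmbedding.isClosed_range, p.left.isOpenEmbedding.isOpen_range⟩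
    obtain ⟨s, hs⟩ : ∃ s, s = U.hom y := ⟨_, rfl⟩
    let e0 : 𝟙_ (Over S) ⟶ _root_.RedSub.pow (Red.Ga S) m := mkPt fun _ => 1
    have h2 : U.hom (p.left (e0.left s)) = s := by
      have h3 : (e0 ≫ p).left ≫ U.hom = 𝟙 S := Over.w (e0 ≫ p)
      have h4 := congrArg (fun k : S ⟶ S => k s) h3
      exact h4
    have h3 := (d.connU hH.2.2.2.1 s).isPreconnected.subset_isClopen h1
      ⟨p.left (e0.left s), h2, e0.left s, rfl⟩
    exact h3 hs.symm
  have hiso : IsIso p.left := by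
    have : Surjective p.left := ⟨hsurj⟩
    exact (isIso_iff_isOpenImmersion_and_surjective _).2 ⟨hpo, this⟩
  have hiso' : IsIso p := by
    have : IsIso ((Over.forget S).map p) := hiso
    exact isIso_of_reflects_iso p (Over.forget S)
  exact ⟨asIso p, hp⟩

end K195.ProdIso
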