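import Groth.Agent.RedSub.K195.PartCell
import Groth.Agent.S3952

/-!
# Partial Borel maps

The products of the torus and root groups of some positive roots, and of root groups of some positive roots, are closed
immersions: `isClosedImmersion_borelMap`, `isClosedImmersion_prodMap`.
-/

set_option autoImplicit false
universe u

open CategoryTheory MonoidalCategory CartesianMonoidalCategory MonObj GrpObj AlgebraicGeometry Limits

namespace K195.PartBorel

open Groth.Agent Groth.Agent.RedSub Groth.Agent.RedSub.H633.PowPts PartCell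

/-- A section of a morphism from a separated scheme is a closed immersion. -/
lemma isClosedImmersion_of_retr {S : Scheme.{u}} {X Y : Over S} (a : X ⟶ Y) (b : Y ⟶ X) (hab : a ≫ b = 𝟙 X)
    [IsSeparated Y.hom] : IsClosedImmersion a.left := by
  have h5 : a.left ≫ b.left = 𝟙 _ := by
    rw [← Over.comp_left, hab]
    rfl
  have h6 : IsSeparated b.left := by
    have h7 : IsSeparated (b.left ≫ X.hom) := by
      rw [Over.w]
      infer_instance
    exact IsSeparated.of_comp _ X.hom
  have h8 : IsClosedImmersion (a.left ≫ b.left) := by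
    rw [h5]
    infer_instance
  exact IsClosedImmersion.of_comp a.left b.left

variable {S : Scheme.{u}} {G : Over S} [GrpObj G] (D : Red.SplitRed G)

lemma extB_borelMap {m q : ℕ} (e : Fin m → D.idx) (e' : Fin q → D.idx) :
    (𝟙 D.T ⊗ₘ extP (1 : 𝟙_ (Over S) ⟶ Red.Ga S) m q) ≫ _root_.RedSub.borelMap D (Fin.append e e') =
      _root_.RedSub.borelMap D e := by
  unfold _root_.RedSub.borelMap
  rw [append_comp D.u, MonObj.comp_mul]
  simp only [tensorHom_fst_assoc, tensorHom_snd_assoc, Category.id_comp]
  rw [extP_prodMap _ _ _ fun k => one_u D _]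

/-- **Partial Borel maps are closed immersions.** -/
theorem isClosedImmersion_borelMap (b : D.P.Base) {m : ℕ} (e : Fin m → D.idx) (he : Function.Injective e)
    (he' : ∀ k, e k ∈ _root_.RedSub.posRoots D.P b) : IsClosedImmersion (_root_.RedSub.borelMap D e).left := by
  obtain ⟨q, e', h2⟩ := exists_append (_root_.RedSub.posRoots D.P b) e he he'
  have h3 := (Groth.Agent.S3952.result D b _ h2).1
  have hG := D.reductive.1
  have hsep : IsSeparated (D.T ⊗ _root_.RedSub.pow (Red.Ga S) (m + q)).hom := by
    rw [← Over.w (_root_.RedSub.borelMap D (Fin.append e e'))]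
    infer_instance
  have h4 : IsClosedImmersion (𝟙 D.T ⊗ₘ extP (1 : 𝟙_ (Over S) ⟶ Red.Ga S) m q).left := by
    refine isClosedImmersion_of_retr _ (𝟙 D.T ⊗ₘ retP _ m q) ?_
    rw [tensorHom_comp_tensorHom, extP_retP, Category.comp_id, id_tensorHom_id]
  rw [← extB_borelMap D e e', Over.comp_left]
  infer_instance

/-- **Products of root groups of positive roots are closed immersions.** -/
theorem isClosedImmersion_prodMap (b : D.P.Base) {m : ℕ} (e : Fin m → D.idx) (he : Function.Injective e)
    (he' : ∀ k, e k ∈ _root_.RedSub.posRoots D.P b) :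
    IsClosedImmersion (_root_.RedSub.prodMap (Red.Ga S) m (fun k => D.u (e k))).left := by
  have h3 := isClosedImmersion_borelMap D b e he he'
  have hG := D.reductive.1
  have hi := D.maximalTorus.1
  have hsep : IsSeparated (D.T ⊗ _root_.RedSub.pow (Red.Ga S) m).hom := by
    rw [← Over.w (_root_.RedSub.borelMap D e)]
    infer_instance
  have h4 : IsClosedImmersion (lift (1 : _root_.RedSub.pow (Red.Ga S) m ⟶ D.T) (𝟙 _)).left :=
    isClosedImmersion_of_retr _ (snd _ _) (lift_snd _ _)
  have h5 : _root_.RedSub.prodMap (Red.Ga S) m (fun k => D.u (e k)) =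
      lift (1 : _root_.RedSub.pow (Red.Ga S) m ⟶ D.T) (𝟙 _) ≫ _root_.RedSub.borelMap D e := by
    unfold _root_.RedSub.borelMap
    rw [MonObj.comp_mul, lift_fst_assoc, lift_snd_assoc, MonObj.one_comp, Category.id_comp, _root_.one_mul]
  rw [h5, Over.comp_left]
  infer_instance

end K195.PartBorel
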