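import Groth.Agent.RedSub.K195.Conn
import Groth.Agent.RedSub.K195.DynRad
import Groth.Agent.RedSub.K195.PartBorel
import Groth.Agent.RedSub.H641.TypeRBc
import Groth.Agent.Sga3B.BorLB2991
import Groth.Agent.Sga3B.Parab.DynInter998

/-!
# Dynamic decomposition of a subgroup of type (R) containing the torus of a splitting

Connected base, `D` a splitting of `G`, `h : H ⟶ G` of type (R) containing the torus, with root set `R'`;
`mu : M → ℤ` with `mu ≥ 0` on `R'`.

* `ptP_h`: `H ⊆ P_G(mu)`;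
* `exists_dec_typeR`: the decomposition `H = H₁ ⋉ U` for a given subgroup `H₁` of type (R) with root set
  `{a ∈ R' | mu a = 0}`.
-/

set_option autoImplicit false
set_option linter.unusedSectionVars false

universe u

open CategoryTheory MonoidalCategory CartesianMonoidalCategory MonObj GrpObj AlgebraicGeometry
open Groth.Agent.Sga3B Groth.Agent.Sga3B.Parab
open Groth.Agent.Sga3B.Parab.Dyn998 Groth.Agent.Sga3B.Parab.DynExist998
open Groth.Agent.Sga3B.Parab.DynBc998 Groth.Agent.Sga3B.Parab.DynLevi998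
open Groth.Agent.Sga3B.Parab.ConjPt Groth.Agent.Sga3B.Parab.RadExist147
open Groth.Agent.Sga3B.BorRP478 Groth.Agent.Sga3B.DSPts Groth.Agent.Sga3B.GaPts

namespace K195.TypeRDec

open Groth.Agent Groth.Agent.RedSub DynH

variable {S : Scheme.{u}} {G H : Over S} [GrpObj G] [GrpObj H] (D : Red.SplitRed G) (mu : D.M →+ ℤ)

/-- Root groups of weight zero lie in `Z_G(λ)`. -/
theorem ptZ_u {X : Over S} (x : X ⟶ Red.Ga S) (a : D.idx) (h : mu (D.P.root a) = 0) :
    PtZ (coch D mu) (x ≫ D.u a) := by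
  intro C _ c y
  have h1 : OrbConst (coch D mu) ((y ≫ x) ≫ D.u a) := by
    rw [OrbConst, orb_u, h, ofAdd_zero]
    have h2 : tChar C c 1 = 1 := map_one _
    rw [h2, _root_.one_mul, ← gaFn_comp, gaPt_gaFn, Category.assoc]
  rwa [Category.assoc] at h1

lemma isMonHom_coch : IsMonHom (coch D mu) := by
  have := D.maximalTorus.1
  infer_instance

lemma ptZ_torus : PtZ (coch D mu) D.i := fun _ _ _ x => BorLB2991.orbConst_torus D mu x

/-- A root of positive weight is not in `Z_G(λ)`. -/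
lemma not_ptZ_u [Nonempty S] (a : D.idx) (h : 0 < mu (D.P.root a)) : ¬ PtZ (coch D mu) (D.u a) := by
  intro h0
  have hG := D.reductive.1
  have hm := isMonHom_coch D mu
  have h1 : PtU (coch D mu) (D.u a) := by
    have := ptU_u D mu (𝟙 (Red.Ga S)) a h
    rwa [Category.id_comp] at this
  have h2 : D.u a = 1 := DynInter998.eq_one_of_ptU_ptZ h1 h0
  have hu : IsMonHom (D.u a) := (D.rootHom a).1
  have hu2 : IsClosedImmersion (D.u a).left := (D.rootHom a).2.1
  have hu3 : Mono (D.u a) := by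
    have : Mono (D.u a).left := inferInstance
    exact Over.mono_of_mono_left _
  have h3 : gaPt (𝟙_ (Over S)) 1 = gaPt (𝟙_ (Over S)) 0 := by
    rw [← cancel_mono (D.u a), h2, MonObj.comp_one, MonObj.comp_one]
  have h4 := congrArg Red.gaFn h3
  rw [gaFn_gaPt, gaFn_gaPt] at h4
  have h5 : Nonempty ((⊤ : S.Opens) : Scheme.{u}) := ⟨⟨Classical.arbitrary S, trivial⟩⟩
  have h6 : Nontrivial Γ(S, ⊤) := Scheme.component_nontrivial S ⊤
  exact one_ne_zero (α := Γ(S, ⊤)) h4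

section Conn

variable {D} {mu}
variable {h : H ⟶ G} (t : D.T ⟶ H)

/-- The cocharacter of `H` attached to `mu`. -/
noncomputable def coH (mu : D.M →+ ℤ) : Red.Gm S ⟶ H := Red.DSmap S mu ≫ D.split.inv.hom.hom ≫ t

lemma coH_comp (ht : t ≫ h = D.i) : coH t mu ≫ h = coch D mu := by
  rw [coH, coch_eq]
  simp only [Category.assoc, ht]

lemma isMonHom_t [IsMonHom h] [Mono h] (ht : t ≫ h = D.i) : IsMonHom t := by
  have := D.maximalTorus.1
  have : IsMonHom (t ≫ h) := by rw [ht]; infer_instance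
  exact isMonHom_of_comp_mono (p := h)

lemma isMonHom_coH [IsMonHom h] [Mono h] (ht : t ≫ h = D.i) : IsMonHom (coH t mu) := by
  have := isMonHom_t t ht
  unfold coH
  infer_instance

/-- **`H ⊆ P_G(mu)`.** -/
theorem ptP_h [ConnectedSpace S] (hH : _root_.RedSub.IsTypeR h) (ht : t ≫ h = D.i) {R' : Set D.idx}
    (hR' : ∀ a : D.idx, (∃ v : Red.Ga S ⟶ H, v ≫ h = D.u a) ↔ a ∈ R') (hmu : ∀ a ∈ R', 0 ≤ mu (D.P.root a)) :
    PtP (coch D mu) h := by
  obtain ⟨⟨h1, h2⟩, h3, -, h4, -⟩ := hH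
  have hG := D.reductive.1
  have hG2 := D.reductive.2.1
  have hm := isMonHom_coch D mu
  obtain ⟨P, _, p, hp, -⟩ := exists_isDynP (coch D mu)
  have hpm := hp.isMonHom
  have hpmono := hp.mono
  obtain ⟨t₂, ht₂⟩ := (hp.iff_ptP _ _).2 (BorLB2991.ptP_torus D mu)
  obtain ⟨v, hv⟩ := Germs.exists_le_of_dich D h h4 t ht (Conn.dich D h t ht) p t₂ ht₂ fun a ha =>
    exists_lift_P D mu hp a (hmu a ((Conn.E_eq_univ_iff D h t ht hR' a).1 ha))
  exact (hp.iff_ptP _ _).1 ⟨v, hv⟩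

/-- Transport of a decomposition along an isomorphism of the Levi part. -/
lemma dec_congr {L L' U : Over S} [GrpObj L] [GrpObj L'] [GrpObj U] {lam : Red.Gm S ⟶ H} {l : L ⟶ H} {u : U ⟶ H}
    {π : H ⟶ L} (d : Dec h lam l u π) (φ : L' ≅ L) {l' : L' ⟶ H} [IsMonHom l'] (hl' : φ.hom ≫ l = l') :
    Dec h lam l' u (π ≫ φ.inv) := by
  have h1 := d.lmon
  have h2 := d.lmono
  have h3 := d.pmon
  have h4 : IsMonHom φ.hom := by
    have : IsMonHom (φ.hom ≫ l) := by rw [hl']; infer_instance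
    exact isMonHom_of_comp_mono (p := l)
  have h5 : IsMonHom φ.inv := inferInstance
  refine ⟨inferInstance, d.umon, inferInstance, ?_, d.ucl, ?_, fun x => ?_, d.memU, fun x => ?_⟩
  · have := d.lcl
    rw [← hl', Over.comp_left]
    infer_instance
  · rw [← hl', Category.assoc, ← Category.assoc l, d.lp, Category.id_comp, Iso.hom_inv_id]
  · rw [← d.memL]
    constructor
    · rintro ⟨y, rfl⟩
      exact ⟨y ≫ φ.hom, by rw [Category.assoc, hl']⟩
    · rintro ⟨y, rfl⟩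
      exact ⟨y ≫ φ.inv, by rw [← hl', Category.assoc, Iso.inv_hom_id_assoc]⟩
  · rw [d.ker, ← Category.assoc]
    constructor
    · intro hx
      rw [hx, MonObj.one_comp]
    · intro hx
      rw [← cancel_mono φ.inv, hx, MonObj.one_comp]

variable [ConnectedSpace S]

/-- **The dynamic decomposition of a subgroup of type (R).** -/
theorem exists_dec_typeR (hH : _root_.RedSub.IsTypeR h) (ht : t ≫ h = D.i) {R' : Set D.idx}
    (hR' : ∀ a : D.idx, (∃ v : Red.Ga S ⟶ H, v ≫ h = D.u a) ↔ a ∈ R') (hmu : ∀ a ∈ R', 0 ≤ mu (D.P.root a))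
    {H₁ : Over S} [GrpObj H₁] (h₁ : H₁ ⟶ G) (hH₁ : _root_.RedSub.IsTypeR h₁) (t₁ : D.T ⟶ H₁) (ht₁ : t₁ ≫ h₁ = D.i)
    (hR₁ : ∀ a : D.idx, (∃ v : Red.Ga S ⟶ H₁, v ≫ h₁ = D.u a) ↔ (a ∈ R' ∧ mu (D.P.root a) = 0))
    (f₁ : H₁ ⟶ H) (hf₁ : f₁ ≫ h = h₁) :
    ∃ (U : Over S) (_ : GrpObj U) (u : U ⟶ H) (π : H ⟶ H₁), Dec h (coH t mu) f₁ u π := by
  have hP := ptP_h t hH ht hR' hmu
  have hG := D.reductive.1
  have hG2 := D.reductive.2.1
  have h1 := hH.1.1
  have h2 := hH.1.2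
  have h3 := hH.2.1
  have h4 := hH.2.2.1
  have h5 := hH.2.2.2.1
  have hmono : Mono h := mono_imm h
  have htm := isMonHom_t t ht
  have hlm := isMonHom_coH (mu := mu) t ht
  have hco := coH_comp (mu := mu) t ht
  obtain ⟨L, U, _, _, l, u, π, d⟩ := exists_dec (i := h) (lam := coH t mu) (by rw [hco]; exact hP)
  have hlm' := d.lmon
  have hlmono := d.lmono
  have hlcl := d.lcl
  -- the torus is contained in `L`
  obtain ⟨tL, htL⟩ := (d.memL t).2 (by rw [ht, hco]; exact ptZ_torus D mu)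
  have htL' : tL ≫ l ≫ h = D.i := by rw [← Category.assoc, htL, ht]
  have hsub : _root_.RedSub.IsSubgrp (l ≫ h) := ⟨inferInstance, by rw [Over.comp_left]; infer_instance⟩
  have hRL : _root_.RedSub.IsTypeR (l ≫ h) :=
    H641.TypeRBc.isTypeR_of_torus D.reductive hsub d.smoothL d.qcL (d.connL h5) tL
      (by rw [htL']; exact D.maximalTorus)
  obtain ⟨e, he⟩ := H635.Uniq.exists_iso D h₁ (l ≫ h) t₁ tL hH₁ hRL ht₁ htL' (fun a => by
    rw [hR₁ a]
    constructor
    · rintro ⟨ha, h0⟩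
      obtain ⟨v, hv⟩ := (hR' a).2 ha
      obtain ⟨w, hw⟩ := (d.memL v).2 (by
        rw [hv, hco]
        have := ptZ_u D mu (𝟙 (Red.Ga S)) a h0
        rwa [Category.id_comp] at this)
      exact ⟨w, by rw [← Category.assoc, hw, hv]⟩
    · rintro ⟨w, hw⟩
      have ha : a ∈ R' := (hR' a).1 ⟨w ≫ l, by rw [Category.assoc, hw]⟩
      refine ⟨ha, ?_⟩
      have hZ : PtZ (coch D mu) (D.u a) := by
        rw [← hw, ← Category.assoc, ← hco]
        exact (d.memL _).1 ⟨w, rfl⟩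
      by_contra hne
      exact not_ptZ_u D mu a (lt_of_le_of_ne (hmu a ha) (Ne.symm hne)) hZ)
  have hf₁' : e.hom ≫ l = f₁ := by
    rw [← cancel_mono h, Category.assoc, he, hf₁]
  have hf₁m : IsMonHom f₁ := by
    have := hH₁.1.1
    have : IsMonHom (f₁ ≫ h) := by rw [hf₁]; infer_instance
    exact isMonHom_of_comp_mono (p := h)
  exact ⟨U, inferInstance, u, π ≫ e.inv, dec_congr d e hf₁'⟩

end Conn

end K195.TypeRDec
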