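import Groth.Agent.RedSub.K195.ProdIso
import Groth.Agent.Agf.H600.CentRedK
import Groth.Agent.Sga3B.TorClosed636

/-!
# Subgroups of type (R) whose root set is contained in a system of positive roots

Connected base, `D` a splitting of `G`, `h : H ⟶ G` of type (R) containing the torus, root set `R' ⊆ R_+(b)`.

* `exists_dec_solv`: `H = T ⋉ U`, `U = H ∩ U_G(mu)`, `mu` a regular dominant cocharacter;
* `exists_all`: everything needed for S5546.
-/

set_option autoImplicit false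
set_option linter.unusedSectionVars false

universe u

open CategoryTheory MonoidalCategory CartesianMonoidalCategory MonObj GrpObj AlgebraicGeometry
open Groth.Agent.Sga3B Groth.Agent.Sga3B.Parab
open Groth.Agent.Sga3B.Parab.Dyn998 Groth.Agent.Sga3B.Parab.DynExist998
open Groth.Agent.Sga3B.Parab.DynBc998 Groth.Agent.Sga3B.Parab.DynLevi998
open Groth.Agent.Sga3B.Parab.ConjPt Groth.Agent.Sga3B.Parab.RadExist147
open Groth.Agent.Sga3B.BorRP478 Groth.Agent.Sga3B.DSPts Groth.Agent.Sga3B.GaPts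
open Groth.Agent.RedSub.H633.PowPts

namespace K195.Solv

open Groth.Agent Groth.Agent.RedSub DynH TypeRDec TypeRCell ProdIso

/-- The torus of a splitting is reductive. -/
lemma isReductive_torus {S : Scheme.{u}} {G : Over S} [GrpObj G] (D : Red.SplitRed G) : Red.IsReductive D.T := by
  have h1 := D.maximalTorus.1
  have h2 := D.maximalTorus.2.1
  exact Agf.H600.CentRedK.isReductive_of_isCentralizerOf D.reductive D.i D.maximalTorus.2.2.1 D.i
    (TorClosed636.isCentralizerOf_self D.reductive D.maximalTorus)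

variable {S : Scheme.{u}} [ConnectedSpace S] {G H : Over S} [GrpObj G] [GrpObj H] {D : Red.SplitRed G}
  {h : H ⟶ G} {t : D.T ⟶ H}

/-- The decomposition `H = T ⋉ U` when `mu > 0` on `R'` and `mu ≠ 0` on all roots. -/
theorem exists_dec_solv {mu : D.M →+ ℤ} (hH : _root_.RedSub.IsTypeR h) (ht : t ≫ h = D.i) {R' : Set D.idx}
    (hR' : ∀ a : D.idx, (∃ v : Red.Ga S ⟶ H, v ≫ h = D.u a) ↔ a ∈ R') (hmu : ∀ a ∈ R', 0 < mu (D.P.root a)) :
    ∃ (U : Over S) (_ : GrpObj U) (u : U ⟶ H) (π : H ⟶ D.T), Dec h (coH t mu) t u π := by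
  have hP := ptP_h (mu := mu) t hH ht hR' fun a ha => (hmu a ha).le
  have hG := D.reductive.1
  have hG2 := D.reductive.2.1
  have h1 := hH.1.1
  have h2 := hH.1.2
  have h3 := hH.2.1
  have h4 := hH.2.2.1
  have h5 := hH.2.2.2.1
  have hmono : Mono h := mono_imm h
  have htm := isMonHom_t t ht
  have hlm := isMonHom_coH (mu := mu) t ht
  have hco := coH_comp (mu := mu) t ht
  have hTm := D.maximalTorus.1
  have hTmono := D.maximalTorus.2.1
  obtain ⟨L, U, _, _, l, u, π, d⟩ := exists_dec (i := h) (lam := coH t mu) (by rw [hco]; exact hP)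
  have hlm' := d.lmon
  have hlmono := d.lmono
  have hlcl := d.lcl
  have hLs := d.smoothL
  -- the torus is contained in `L`
  obtain ⟨tL, htL⟩ := (d.memL t).2 (by rw [ht, hco]; exact ptZ_torus D mu)
  have htL' : tL ≫ l ≫ h = D.i := by rw [← Category.assoc, htL, ht]
  have himm : IsImmersion (l ≫ h).left := by
    rw [Over.comp_left]
    infer_instance
  obtain ⟨v, hv⟩ := H635.Uniq.exists_le D (l ≫ h) (d.connL h5) tL htL' D.i (𝟙 D.T) (Category.id_comp _) (by
    rintro a ⟨w, hw⟩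
    exfalso
    have ha : a ∈ R' := (hR' a).1 ⟨w ≫ l, by rw [Category.assoc, hw]⟩
    refine not_ptZ_u D mu a (hmu a ha) ?_
    rw [← hw, ← Category.assoc, ← hco]
    exact (d.memL _).1 ⟨w, rfl⟩)
  have hlhm : Mono (l ≫ h) := mono_comp l h
  have e1 : tL ≫ v = 𝟙 D.T := by
    rw [← cancel_mono D.i, Category.assoc, hv, htL', Category.id_comp]
  have e2 : v ≫ tL = 𝟙 L := by
    rw [← cancel_mono (l ≫ h), Category.assoc, htL', hv, Category.id_comp]
  exact ⟨U, inferInstance, u, _, dec_congr d ⟨tL, v, e1, e2⟩ htL⟩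

/-- **`H = T ⋉ U` and `U` is a product of root groups in any order.** -/
theorem exists_all (hH : _root_.RedSub.IsTypeR h) (ht : t ≫ h = D.i) {R' : Set D.idx}
    (hR' : ∀ a : D.idx, (∃ v : Red.Ga S ⟶ H, v ≫ h = D.u a) ↔ a ∈ R') (b : D.P.Base)
    (hb : R' ⊆ _root_.RedSub.posRoots D.P b) :
    ∃ (U : Over S) (_ : GrpObj U) (u : U ⟶ H), IsMonHom u ∧ IsClosedImmersion (u ≫ h).left ∧ Smooth U.hom ∧
      Par.IsUnipotentRadical u ∧ IsIso ((t ⊗ₘ u) ≫ μ[H]) ∧
      ∀ {m : ℕ} (e : Fin m → D.idx), _root_.RedSub.Enumerates R' e →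
        ∃ ψ : _root_.RedSub.pow (Red.Ga S) m ≅ U,
          ψ.hom ≫ u ≫ h = _root_.RedSub.prodMap (Red.Ga S) m (fun k => D.u (e k)) := by
  obtain ⟨mu, -, hmu, -⟩ := H633.PosRoots.exists_lam b
  have hpos : ∀ a ∈ R', 0 < mu (D.P.root a) := fun a ha => (hmu a).1 (hb ha)
  obtain ⟨U, _, u, π, d⟩ := exists_dec_solv (mu := mu) hH ht hR' hpos
  have hG := D.reductive.1
  have hG2 := D.reductive.2.1
  have h1 := hH.1.1
  have h2 := hH.1.2
  have h3 := hH.2.1
  have h4 := hH.2.2.1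
  have hmono : Mono h := mono_imm h
  have hlm := isMonHom_coH (mu := mu) t ht
  have key : ∀ {m : ℕ} (e : Fin m → D.idx), _root_.RedSub.Enumerates R' e →
        ∃ ψ : _root_.RedSub.pow (Red.Ga S) m ≅ U,
          ψ.hom ≫ u ≫ h = _root_.RedSub.prodMap (Red.Ga S) m (fun k => D.u (e k)) := by
    intro m e he
    refine exists_prodIso hH ht hR' (fun a ha => (hpos a ha).le) d b (fun a ha => (hmu a).2 ha) e ?_
    have : {a | a ∈ R' ∧ 0 < mu (D.P.root a)} = R' := by
      ext a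
      exact ⟨fun h => h.1, fun h => ⟨h, hpos a h⟩⟩
    rw [this]
    exact he
  obtain ⟨m, e, he⟩ := H637.PosRoots.exists_enumerates R'
  obtain ⟨ψ, hψ⟩ := key e he
  have hUa : IsAffineHom U.hom := by
    have h5 : IsAffineHom (_root_.RedSub.pow (Red.Ga S) m).hom :=
      PartCell.prop_pow @IsAffineHom inferInstance (MorphismProperty.pullback_snd _ _ (by
        change IsAffineHom (Spec.map _)
        infer_instance)) m
    rw [← Over.w ψ.inv]
    have h6 : IsIso ψ.inv.left := inferInstanceAs (IsIso ((Over.forget S).map ψ.inv))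
    exact MorphismProperty.comp_mem @IsAffineHom _ _ inferInstance h5
  refine ⟨U, inferInstance, u, d.umon, ?_, d.smoothU, d.isUnipotentRadical hH.2.2.2.1 (isReductive_torus D) hUa,
    d.isIso_mul, key⟩
  have h5 : u ≫ h = ψ.inv ≫ _root_.RedSub.prodMap (Red.Ga S) m (fun k => D.u (e k)) := by
    rw [← hψ, Iso.inv_hom_id_assoc]
  have h6 := PartBorel.isClosedImmersion_prodMap D b e he.1 fun k => hb (he.2 ▸ ⟨k, rfl⟩)
  have h7 : IsIso ψ.inv.left := inferInstanceAs (IsIso ((Over.forget S).map ψ.inv))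
  rw [h5, Over.comp_left]
  infer_instance

/-- **`H = T × ∏ 𝔾_a`.** -/
theorem exists_borelIso (hH : _root_.RedSub.IsTypeR h) (ht : t ≫ h = D.i) {R' : Set D.idx}
    (hR' : ∀ a : D.idx, (∃ v : Red.Ga S ⟶ H, v ≫ h = D.u a) ↔ a ∈ R') (b : D.P.Base)
    (hb : R' ⊆ _root_.RedSub.posRoots D.P b) {m : ℕ} (e : Fin m → D.idx) (he : _root_.RedSub.Enumerates R' e) :
    ∃ φ : D.T ⊗ _root_.RedSub.pow (Red.Ga S) m ≅ H, φ.hom ≫ h = _root_.RedSub.borelMap D e := by
  obtain ⟨U, _, u, -, -, -, -, hiso, hψ⟩ := exists_all hH ht hR' b hb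
  have h1 := hH.1.1
  obtain ⟨ψ, hψ⟩ := hψ e he
  refine ⟨(Iso.refl _ ⊗ᵢ ψ) ≪≫ asIso ((t ⊗ₘ u) ≫ μ[H]), ?_⟩
  have h2 : ((Iso.refl D.T ⊗ᵢ ψ) ≪≫ asIso ((t ⊗ₘ u) ≫ μ[H])).hom = (fst _ _ ≫ t) * (snd _ _ ≫ ψ.hom ≫ u) := by
    change (𝟙 D.T ⊗ₘ ψ.hom) ≫ (t ⊗ₘ u) ≫ μ[H] = _
    rw [← Category.assoc, tensorHom_comp_tensorHom, Category.id_comp, Hom.mul_def]
    congr 1
  rw [h2, MonObj.mul_comp]
  unfold _root_.RedSub.borelMap
  rw [← hψ, ← ht]
  simp only [Category.assoc]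

end K195.Solv
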