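import Groth.Agent.RedSub.H633.PosRoots
import Groth.Agent.Sga3B.BaseZ

/-!
# A functional attached to a closed set of roots

`P` a reduced root datum over `ℤ`, `R'` a closed set of roots, `R₁` its symmetric part, `R₂ = R' ∖ R₁`. There is
`mu : M →+ ℤ` with `mu = 0` on `R₁` and `mu > 0` on `R₂` (`exists_mu`), and a base `b` whose positive roots contain
all roots on which `mu` is positive (`exists_base`).
-/

set_option autoImplicit false
set_option linter.unusedSectionVars false

namespace K195.RootFun

open Groth.Agent.Sga3B

variable {ι M N : Type*} [AddCommGroup M] [AddCommGroup N] {P : RootPairing ι ℤ M N} [Finite ι] [P.IsReduced]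

/-- A closed set of roots is stable under the reflections in its elements, applied to roots with nonpositive pairing. -/
lemma refl_mem_of_le {R' : Set ι}
    (hcl : ∀ a b c : ι, a ∈ R' → b ∈ R' → P.root a + P.root b = P.root c → c ∈ R')
    {a b : ι} (ha : a ∈ R') (hb : b ∈ R') (hab : P.pairing b a ≤ 0) : P.reflectionPerm a b ∈ R' := by
  by_cases h : LinearIndependent ℤ ![P.root a, P.root b]
  · obtain ⟨n, hn⟩ := Int.eq_ofNat_of_zero_le (show 0 ≤ -P.pairing b a by omega)
    have hr : P.root (P.reflectionPerm a b) = P.root b + (n : ℤ) • P.root a := by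
      rw [P.root_reflectionPerm, P.reflection_apply_root, ← hn, neg_smul, sub_eq_add_neg]
    have hn1 : (n : ℤ) ∈ Set.Icc (-P.chainBotCoeff a b : ℤ) (P.chainTopCoeff a b) :=
      (RootPairing.root_add_zsmul_mem_range_iff h).1 ⟨_, hr⟩
    have key : ∀ k : ℕ, k ≤ n → ∃ c ∈ R', P.root c = P.root b + (k : ℤ) • P.root a := by
      intro k
      induction k with
      | zero => exact fun _ => ⟨b, hb, by simp⟩
      | succ k ih =>
        intro hk
        obtain ⟨c, hc, hc'⟩ := ih (by omega)
        obtain ⟨d, hd⟩ := (RootPairing.root_add_zsmul_mem_range_iff (P := P) h (z := ((k + 1 : ℕ) : ℤ))).2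
          ⟨by have := hn1.1; omega, by have := hn1.2; omega⟩
        refine ⟨d, hcl c a d hc ha ?_, hd⟩
        rw [hd, hc']
        push_cast
        rw [add_smul, one_smul, add_assoc]
    obtain ⟨c, hc, hc'⟩ := key n le_rfl
    have : c = P.reflectionPerm a b := P.root.injective (by rw [hc', hr])
    exact this ▸ hc
  · rcases RootPairing.IsReduced.eq_or_eq_neg (P := P) a b h with h1 | h1
    · have : a = b := P.root.injective h1
      subst this
      rw [P.pairing_same] at hab
      omega
    · have : P.reflectionPerm a b = a := P.root.injective (by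
        rw [P.root_reflectionPerm, P.reflection_apply_root]
        have h2 : P.root b = - P.root a := by rw [h1, neg_neg]
        have h3 : P.pairing b a = -2 := by
          have h4 : b = P.reflectionPerm a a := P.root.injective (by
            rw [h2, P.root_reflectionPerm, P.reflection_apply_self])
          rw [h4, P.pairing_reflectionPerm_self_left, P.pairing_same]
        rw [h3, h2]
        module)
      rw [this]
      exact ha

lemma refl_refl (a b : ι) : P.reflectionPerm a (P.reflectionPerm a b) = b := by simp

lemma neg_refl (a b : ι) : P.reflectionPerm (P.reflectionPerm a a) b = P.reflectionPerm a b := by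
  apply P.root.injective
  rw [P.root_reflectionPerm, P.root_reflectionPerm, P.reflection_apply_root, P.reflection_apply_root,
    P.pairing_reflectionPerm_self_right, P.root_reflectionPerm, P.reflection_apply_self]
  module

lemma neg_neg_idx (b : ι) : P.reflectionPerm (P.reflectionPerm b b) (P.reflectionPerm b b) = b := by
  rw [neg_refl, refl_refl]

lemma refl_neg (a b : ι) : P.reflectionPerm a (P.reflectionPerm b b) =
    P.reflectionPerm (P.reflectionPerm a b) (P.reflectionPerm a b) := by
  apply P.root.injective
  rw [P.root_reflectionPerm, P.root_reflectionPerm, P.root_reflectionPerm, P.reflection_apply_self,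
    P.reflection_apply_self, map_neg, P.root_reflectionPerm]

variable {R' : Set ι} (hcl : ∀ a b c : ι, a ∈ R' → b ∈ R' → P.root a + P.root b = P.root c → c ∈ R')

include hcl

/-- stability under the reflections in the symmetric part -/
lemma refl_mem_of_symm {a b : ι} (ha : a ∈ R') (ha' : P.reflectionPerm a a ∈ R') (hb : b ∈ R') :
    P.reflectionPerm a b ∈ R' := by
  rcases le_total (P.pairing b a) 0 with h | h
  · exact refl_mem_of_le hcl ha hb h
  · rw [← neg_refl]
    refine refl_mem_of_le hcl ha' hb ?_
    rw [P.pairing_reflectionPerm_self_right]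
    omega

lemma refl_mem_two_iff {a b : ι} (ha : a ∈ R') (ha' : P.reflectionPerm a a ∈ R') :
    (P.reflectionPerm a b ∈ R' ∧ P.reflectionPerm (P.reflectionPerm a b) (P.reflectionPerm a b) ∉ R') ↔
      (b ∈ R' ∧ P.reflectionPerm b b ∉ R') := by
  have key : ∀ c : ι, P.reflectionPerm a c ∈ R' ↔ c ∈ R' := fun c =>
    ⟨fun h => by have := refl_mem_of_symm hcl ha ha' h; rwa [refl_refl] at this,
      fun h => refl_mem_of_symm hcl ha ha' h⟩
  rw [← refl_neg, key, key]

omit hcl in
/-- The functional. -/
lemma exists_form [Fintype ι] (s : Finset ι) : ∃ mu : M →+ ℤ, ∀ a : ι,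
    mu (P.root a) * 2 = P.RootForm (P.root a) (P.root a) * ∑ b ∈ s, P.pairing b a := by
  refine ⟨(P.RootForm (∑ b ∈ s, P.root b)).toAddMonoidHom, fun a => ?_⟩
  change P.RootForm (∑ b ∈ s, P.root b) (P.root a) * 2 = _
  rw [map_sum, LinearMap.sum_apply, Finset.sum_mul, Finset.mul_sum]
  refine Finset.sum_congr rfl fun b _ => ?_
  have h1 := (P.posRootForm ℤ).toInvariantForm.two_mul_apply_root_root b a
  change 2 * P.RootForm (P.root b) (P.root a) = P.pairing b a * P.RootForm (P.root a) (P.root a) at h1
  linarith

/-- **A functional which vanishes on the symmetric part and is positive on the rest.** -/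
theorem exists_mu : ∃ mu : M →+ ℤ, (∀ a ∈ R', P.reflectionPerm a a ∈ R' → mu (P.root a) = 0) ∧
    (∀ a ∈ R', P.reflectionPerm a a ∉ R' → 0 < mu (P.root a)) := by
  classical
  have : Fintype ι := Fintype.ofFinite ι
  let s : Finset ι := Finset.univ.filter fun b => b ∈ R' ∧ P.reflectionPerm b b ∉ R'
  have hs : ∀ b, b ∈ s ↔ (b ∈ R' ∧ P.reflectionPerm b b ∉ R') := fun b => by simp [s]
  obtain ⟨mu, hmu⟩ := exists_form (P := P) s
  refine ⟨mu, fun a ha ha' => ?_, fun a ha ha' => ?_⟩
  · have h1 : ∑ b ∈ s, P.pairing b a = -∑ b ∈ s, P.pairing b a := by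
      rw [← Finset.sum_neg_distrib]
      refine Finset.sum_nbij' (fun b => P.reflectionPerm a b) (fun b => P.reflectionPerm a b) ?_ ?_ ?_ ?_ ?_
      · intro b hb
        exact (hs _).2 ((refl_mem_two_iff hcl ha ha').2 ((hs b).1 hb))
      · intro b hb
        exact (hs _).2 ((refl_mem_two_iff hcl ha ha').2 ((hs b).1 hb))
      · intro b _
        exact refl_refl a b
      · intro b _
        exact refl_refl a b
      · intro b _
        rw [← P.pairing_reflectionPerm a b a, P.pairing_reflectionPerm_self_right, neg_neg]
    have h2 : ∑ b ∈ s, P.pairing b a = 0 := by omega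
    have h3 := hmu a
    rw [h2, mul_zero] at h3
    omega
  · have h1 : 0 < ∑ b ∈ s, P.pairing b a := by
      -- the terms with negative pairing
      let sn := s.filter fun b => P.pairing b a < 0
      let sp := s.filter fun b => ¬ P.pairing b a < 0
      have hsum : ∑ b ∈ s, P.pairing b a = ∑ b ∈ sn, P.pairing b a + ∑ b ∈ sp, P.pairing b a :=
        (Finset.sum_filter_add_sum_filter_not s _ _).symm
      have hpa : ∀ b, P.pairing (P.reflectionPerm a b) a = - P.pairing b a := fun b => by
        rw [← P.pairing_reflectionPerm a b a, P.pairing_reflectionPerm_self_right]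
      have himg : sn.image (P.reflectionPerm a) ⊆ sp.erase a := by
        intro c hc
        obtain ⟨b, hb, rfl⟩ := Finset.mem_image.1 hc
        obtain ⟨hb1, hb2⟩ := Finset.mem_filter.1 hb
        obtain ⟨hb3, hb4⟩ := (hs b).1 hb1
        rw [Finset.mem_erase]
        refine ⟨fun h => ?_, Finset.mem_filter.2 ⟨(hs _).2 ⟨?_, fun h => ?_⟩, ?_⟩⟩
        · have h1 := congrArg (P.reflectionPerm a) h
          rw [refl_refl] at h1
          rw [h1] at hb3
          exact ha' hb3
        · exact refl_mem_of_le hcl ha hb3 hb2.le
        · rw [← refl_neg] at h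
          -- `s_a (-b) ∈ R'`, with positive pairing of `-b`
          apply hb4
          have h1 : P.pairing (P.reflectionPerm a (P.reflectionPerm b b)) a ≤ 0 := by
            rw [hpa, P.pairing_reflectionPerm_self_left]
            omega
          have h2 := refl_mem_of_le hcl ha h h1
          rwa [refl_refl] at h2
        · rw [hpa]
          omega
      have hsp : ∑ b ∈ sp.erase a, P.pairing b a + P.pairing a a = ∑ b ∈ sp, P.pairing b a :=
        Finset.sum_erase_add _ _ (Finset.mem_filter.2 ⟨(hs a).2 ⟨ha, ha'⟩, by rw [P.pairing_same]; omega⟩)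
      have h2 : ∑ b ∈ sn.image (P.reflectionPerm a), P.pairing b a ≤ ∑ b ∈ sp.erase a, P.pairing b a := by
        refine Finset.sum_le_sum_of_subset_of_nonneg himg fun b hb _ => ?_
        have := (Finset.mem_filter.1 (Finset.mem_of_mem_erase hb)).2
        omega
      rw [Finset.sum_image (fun x _ y _ h => (P.reflectionPerm a).injective h)] at h2
      simp only [hpa, Finset.sum_neg_distrib] at h2
      rw [P.pairing_same] at hsp
      omega
    have h2 : 0 < P.RootForm (P.root a) (P.root a) :=
      P.rootForm_pos_of_ne_zero (Submodule.subset_span ⟨a, rfl⟩) (P.ne_zero a)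
    have h3 := hmu a
    have h4 : 0 < mu (P.root a) * 2 := by
      rw [h3]
      exact mul_pos h2 h1
    omega

end K195.RootFun

namespace K195.RootFun

open Groth.Agent.Sga3B

variable {idx M N : Type} [AddCommGroup M] [AddCommGroup N] (P : RootPairing idx ℤ M N) [Finite idx]
  [Module.Free ℤ M] [Module.Finite ℤ M] [P.IsReduced]

/-- A base whose positive roots contain all roots on which `mu` is positive. -/
theorem exists_base (mu : M →+ ℤ) : ∃ b : P.Base, ∀ a, 0 < mu (P.root a) → a ∈ _root_.RedSub.posRoots P b := by
  classical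
  have : Fintype idx := Fintype.ofFinite idx
  obtain ⟨nu, hnu⟩ := BaseZ.exists_functional (P := P)
  let B : ℤ := 1 + ∑ a, |nu (P.root a)|
  have hB : ∀ a, |nu (P.root a)| < B := by
    intro a
    have := Finset.single_le_sum (f := fun a => |nu (P.root a)|) (fun a _ => abs_nonneg _) (Finset.mem_univ a)
    change _ ≤ ∑ a, |nu (P.root a)| at this
    change |nu (P.root a)| < 1 + ∑ a, |nu (P.root a)|
    omega
  let f : M →+ ℤ := B • mu + nu
  have hf : ∀ x, f x = B * mu x + nu x := fun x => by simp [f]
  have hpos : ∀ a, 0 < mu (P.root a) → 0 < f (P.root a) := by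
    intro a ha
    rw [hf]
    have h1 := hB a
    have h2 := (abs_lt.1 h1).1
    have h3 : 0 < B := lt_of_le_of_lt (abs_nonneg _) h1
    have h4 := mul_le_mul_of_nonneg_left (show 1 ≤ mu (P.root a) from ha) h3.le
    linarith
  obtain ⟨b, hb⟩ := BaseZ.exists_base_isPos (P := P) f (by
    intro a h
    rcases lt_trichotomy (mu (P.root a)) 0 with h0 | h0 | h0
    · rw [hf] at h
      have h1 := (abs_lt.1 (hB a)).2
      have h3 : 0 < B := lt_of_le_of_lt (abs_nonneg _) (hB a)
      have h4 := mul_le_mul_of_nonneg_left (show 1 ≤ - mu (P.root a) by omega) h3.le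
      linarith
    · rw [hf, h0, mul_zero, zero_add] at h
      exact hnu a h
    · exact (hpos a h0).ne' h)
  exact ⟨b, fun a ha => (Groth.Agent.RedSub.H633.PosRoots.mem_posRoots_iff_isPos b).2 ((hb a).2 (hpos a ha))⟩

end K195.RootFun
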