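import Groth.Agent.RedSub.K195.Germs
import Groth.Agent.RedSub.H657.FacLoc
import Groth.Agent.RedSub.H648.TypeR
import Groth.Agent.RedSub.H652.FibOpen

/-!
# Inclusions of subgroups containing a split maximal torus

`LeAt h h' z` (`z : Z ⟶ S`): `H ×_S Z` is contained in `H'`.

* `leAt_iff_bc`, `leAt_bc`, `leAt_comp`, `leAt_ext_iff`, `leAt_of_mem`: base change, descent along extensions of fields;
* `exists_le_of_E`: for a splitting `D` of `G` whose torus is contained in the subgroups `H`, `H'` (immersed, smooth, `H`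
  with connected fibres), `H ⊆ H'` as soon as every root is tangent to `H'` where it is tangent to `H`.
* `leAt_geomPt_iff`: the inclusion of the geometric fibres at `s` in terms of the roots tangent at `s`.
-/

set_option autoImplicit false
universe u

open CategoryTheory MonoidalCategory CartesianMonoidalCategory MonObj GrpObj AlgebraicGeometry Limits

namespace K195.Le

open Groth.Agent Groth.Agent.RedSub Groth.Agent.Sga3B Groth.Agent.Sga3B.Cell Groth.Agent.Sga3B.Cell.Datum
  Groth.Agent.Sga3B.PinMod Groth.Agent.Sga3B.DSPts Groth.Agent.Sga3B.GaPts Groth.Agent.Sga3B.BcPts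
  Groth.Agent.Sga3B.SplitBc264 H635 H635.Uniq Tang Germs

section General

variable {S S' : Scheme.{u}} {G H H' : Over S} (h : H ⟶ G) (h' : H' ⟶ G)

/-- Factoring through a monomorphism may be checked after an fpqc covering. -/
theorem exists_fac_of_fpqc {V X Y Z : Scheme.{u}} (π : V ⟶ X) [Flat π] [QuasiCompact π] [Surjective π]
    (x : X ⟶ Z) (i : Y ⟶ Z) [Mono i] (h : ∃ z : V ⟶ Y, z ≫ i = π ≫ x) : ∃ z : X ⟶ Y, z ≫ i = x := by
  obtain ⟨z, hz⟩ := h
  let j := pullback.fst x i
  have hj : Mono j := inferInstance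
  have h1 : IsIso (pullback.fst π j) := by
    have hm : Mono (pullback.fst π j) := inferInstance
    let s : V ⟶ pullback π j := pullback.lift (𝟙 _) (pullback.lift π z hz.symm) (by
      rw [Category.id_comp, pullback.lift_fst])
    have hs : s ≫ pullback.fst π j = 𝟙 _ := pullback.lift_fst _ _ _
    exact ⟨s, by rw [← cancel_mono (pullback.fst π j), Category.assoc, hs, Category.comp_id, Category.id_comp], hs⟩
  have h2 : IsIso j :=
    MorphismProperty.of_pullback_fst_of_descendsAlong (P := MorphismProperty.isomorphisms Scheme.{u})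
      (Q := @Surjective ⊓ @Flat ⊓ @QuasiCompact) (f := π) ⟨⟨inferInstance, inferInstance⟩, inferInstance⟩ h1
  exact ⟨inv j ≫ pullback.snd x i, by rw [Category.assoc, ← pullback.condition, IsIso.inv_hom_id_assoc]⟩

/-- The inclusion of `H` in `H'` over `z : Z ⟶ S`. -/
def LeAt {Z : Scheme.{u}} (z : Z ⟶ S) : Prop :=
  ∃ g : pullback H.hom z ⟶ H'.left, g ≫ h'.left = pullback.fst H.hom z ≫ h.left

lemma leAt_iff_bc {Z : Scheme.{u}} (z : Z ⟶ S) :
    LeAt h h' z ↔ ∃ v : Red.bc z H ⟶ Red.bc z H', v ≫ (Over.pullback z).map h' = (Over.pullback z).map h := by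
  rw [exists_lift_bc_iff]
  have h1 : (BcPts.bcEquiv z (Red.bc z H) G).symm ((Over.pullback z).map h) =
      (BcPts.bcEquiv z (Red.bc z H) H).symm (𝟙 _) ≫ h := by
    rw [← BcPts.bcEquiv_symm_comp, Category.id_comp]
  have h2 : ((BcPts.bcEquiv z (Red.bc z H) H).symm (𝟙 _)).left = pullback.fst H.hom z := by
    change (((Over.mapPullbackAdj z).homEquiv (Red.bc z H) H).symm (𝟙 _)).left = _
    rw [Adjunction.homEquiv_counit, CategoryTheory.Functor.map_id, Category.id_comp]
    rfl
  constructor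
  · rintro ⟨g, hg⟩
    refine ⟨Over.homMk g ?_, ?_⟩
    · rw [← Over.w h', ← Category.assoc, hg, Category.assoc, Over.w h]
      exact pullback.condition
    · ext1
      rw [h1, Over.comp_left, Over.comp_left, h2]
      exact hg
  · rintro ⟨v, hv⟩
    refine ⟨v.left, ?_⟩
    have h3 := congrArg Over.Hom.left hv
    rw [h1, Over.comp_left, Over.comp_left, h2] at h3
    exact h3

/-- Points. -/
lemma leAt_iff_pts {Z : Scheme.{u}} (z : Z ⟶ S) :
    LeAt h h' z ↔ ∀ (T : Over S) (w : T.left ⟶ Z) (_ : w ≫ z = T.hom) (x : T ⟶ H), ∃ y : T ⟶ H', y ≫ h' = x ≫ h := by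
  constructor
  · rintro ⟨g, hg⟩ T w hw x
    refine ⟨Over.homMk (pullback.lift x.left w (by rw [Over.w, hw]) ≫ g) ?_, ?_⟩
    · rw [← Over.w h', Category.assoc, reassoc_of% hg, pullback.lift_fst_assoc, Over.w, Over.w]
    · ext1
      change (pullback.lift x.left w _ ≫ g) ≫ h'.left = x.left ≫ h.left
      rw [Category.assoc, hg, pullback.lift_fst_assoc]
  · intro hh
    obtain ⟨y, hy⟩ := hh (Over.mk (pullback.snd H.hom z ≫ z)) (pullback.snd H.hom z) rfl
      (Over.homMk (pullback.fst H.hom z) pullback.condition)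
    exact ⟨y.left, congrArg Over.Hom.left hy⟩

lemma leAt_comp {Z Z' : Scheme.{u}} (z : Z ⟶ S) (f : Z' ⟶ Z) (hh : LeAt h h' z) : LeAt h h' (f ≫ z) := by
  rw [leAt_iff_pts] at hh ⊢
  intro T w hw x
  exact hh T (w ≫ f) (by rw [Category.assoc, hw]) x

/-- Base change. -/
lemma leAt_bc (f : S' ⟶ S) {Z : Scheme.{u}} (z : Z ⟶ S') :
    LeAt ((Over.pullback f).map h) ((Over.pullback f).map h') z ↔ LeAt h h' (z ≫ f) := by
  rw [leAt_iff_pts, leAt_iff_pts]
  constructor
  · intro hh T w hw x
    let T' : Over S' := Over.mk (w ≫ z)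
    let ε : (Over.map f).obj T' ≅ T := Over.isoMk (Iso.refl _) (by
      change 𝟙 _ ≫ T.hom = (w ≫ z) ≫ f
      rw [Category.id_comp, Category.assoc, hw])
    obtain ⟨y, hy⟩ := hh T' w rfl (BcPts.bcEquiv f T' H (ε.hom ≫ x))
    refine ⟨ε.inv ≫ (BcPts.bcEquiv f T' H').symm y, ?_⟩
    rw [Category.assoc, ← BcPts.bcEquiv_symm_comp, hy, BcPts.bcEquiv_symm_comp, Equiv.symm_apply_apply, Category.assoc,
      Iso.inv_hom_id_assoc]
  · intro hh T w hw x
    obtain ⟨y, hy⟩ := hh ((Over.map f).obj T) w (by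
      change w ≫ z ≫ f = T.hom ≫ f
      rw [← Category.assoc, hw]) ((BcPts.bcEquiv f T H).symm x)
    refine ⟨BcPts.bcEquiv f T H' y, ?_⟩
    rw [← BcPts.bcEquiv_comp, hy, BcPts.bcEquiv_comp, Equiv.apply_symm_apply]

/-- Descent along an fpqc covering. -/
lemma leAt_of_fpqc [Mono h'.left] {Z Z' : Scheme.{u}} (z : Z ⟶ S) (f : Z' ⟶ Z) [Flat f] [QuasiCompact f] [Surjective f]
    (hh : LeAt h h' (f ≫ z)) : LeAt h h' z := by
  obtain ⟨g, hg⟩ := hh
  let π : pullback H.hom (f ≫ z) ⟶ pullback H.hom z :=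
    pullback.lift (pullback.fst _ _) (pullback.snd _ _ ≫ f) (by rw [pullback.condition, Category.assoc])
  have hsq : IsPullback π (pullback.snd H.hom (f ≫ z)) (pullback.snd H.hom z) f := by
    refine IsPullback.of_right (h₁₂ := pullback.fst H.hom z) (v₁₃ := H.hom) (h₂₂ := z) ?_ ?_
      (IsPullback.of_hasPullback _ _)
    · have h1 : π ≫ pullback.fst H.hom z = pullback.fst H.hom (f ≫ z) := pullback.lift_fst _ _ _
      rw [h1]
      exact IsPullback.of_hasPullback _ _
    · exact pullback.lift_snd _ _ _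
  have h1 : Flat π := MorphismProperty.of_isPullback (P := @Flat) hsq.flip ‹_›
  have h2 : QuasiCompact π := MorphismProperty.of_isPullback (P := @QuasiCompact) hsq.flip ‹_›
  have h3 : Surjective π := MorphismProperty.of_isPullback (P := @Surjective) hsq.flip ‹_›
  refine exists_fac_of_fpqc π _ h'.left ⟨g, ?_⟩
  rw [hg, ← Category.assoc]
  congr 1
  exact (pullback.lift_fst _ _ _).symm

lemma leAt_ext_iff [Mono h'.left] {K K' : Type u} [Field K] [Field K'] (x : Spec (CommRingCat.of K) ⟶ S)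
    (φ : Spec (CommRingCat.of K') ⟶ Spec (CommRingCat.of K)) : LeAt h h' (φ ≫ x) ↔ LeAt h h' x := by
  constructor
  · intro hh
    obtain ⟨ψ, rfl⟩ := Spec.map_surjective φ
    obtain ⟨⟨h1, h2⟩, h3⟩ := H652.FibOpen.surj_flat_qc ψ.hom
    have h1' : Surjective (Spec.map ψ) := h1
    have h2' : Flat (Spec.map ψ) := h2
    have h3' : QuasiCompact (Spec.map ψ) := h3
    exact leAt_of_fpqc h h' x (Spec.map ψ) hh
  · exact leAt_comp h h' x φ

/-- The inclusion over field valued points only depends on the underlying point of the base. -/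
theorem leAt_of_eq [Mono h'.left] {K K' : Type u} [Field K] [Field K'] (x : Spec (CommRingCat.of K) ⟶ S)
    (x' : Spec (CommRingCat.of K') ⟶ S) {p : Spec (CommRingCat.of K)} {p' : Spec (CommRingCat.of K')}
    (hp : x p = x' p') (hh : LeAt h h' x) : LeAt h h' x' := by
  obtain ⟨z, -, -⟩ := Scheme.Pullback.exists_preimage_pullback (f := x) (g := x') p p' hp
  let y : Spec (CommRingCat.of ((pullback x x').residueField z)) ⟶ pullback x x' :=
    (pullback x x').fromSpecResidueField z
  have h1 : (y ≫ pullback.snd x x') ≫ x' = (y ≫ pullback.fst x x') ≫ x := by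
    rw [Category.assoc, Category.assoc, pullback.condition]
  refine (leAt_ext_iff h h' x' (y ≫ pullback.snd x x')).1 ?_
  rw [h1]
  exact (leAt_ext_iff h h' x (y ≫ pullback.fst x x')).2 hh

/-- The locus of inclusion. -/
def locus : Set S := {s | LeAt h h' (Red.geomPt s)}

lemma mem_locus_iff [Mono h'.left] {K : Type u} [Field K] (x : Spec (CommRingCat.of K) ⟶ S)
    (p : Spec (CommRingCat.of K)) : x p ∈ locus h h' ↔ LeAt h h' x := by
  have h1 : (Red.geomPt (x p)) (IsLocalRing.closedPoint _) = x p := H652.FibOpen.geomPt_closedPoint (x p)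
  exact ⟨fun hh => leAt_of_eq h h' _ x h1 hh, fun hh => leAt_of_eq h h' x _ h1.symm hh⟩

lemma locus_bc [Mono h'.left] (f : S' ⟶ S) :
    locus ((Over.pullback f).map h) ((Over.pullback f).map h') = f ⁻¹' locus h h' := by
  ext s'
  change LeAt _ _ (Red.geomPt s') ↔ f s' ∈ locus h h'
  rw [leAt_bc]
  have h1 : (Red.geomPt s' ≫ f) (IsLocalRing.closedPoint (AlgebraicClosure (S'.residueField s'))) = f s' :=
    (Scheme.Hom.comp_apply _ _ _).trans (congrArg f (H652.FibOpen.geomPt_closedPoint s'))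
  rw [← h1]
  exact (mem_locus_iff h h' (Red.geomPt s' ≫ f) _).symm

end General

section Split

variable {S : Scheme.{u}} {G H H' : Over S} [GrpObj G] [GrpObj H] [GrpObj H'] (D : Red.SplitRed G)
  (h : H ⟶ G) (h' : H' ⟶ G)

omit [GrpObj H] in
lemma bc_torus {S' : Scheme.{u}} (f : S' ⟶ S) {t : D.T ⟶ H} {h : H ⟶ G} (ht : t ≫ h = D.i) :
    (show (splitBc f D).T ⟶ Red.bc f H from (Over.pullback f).map t) ≫ (Over.pullback f).map h =
      (splitBc f D).i :=
  ((Over.pullback f).map_comp t h).symm.trans (congrArg (Over.pullback f).map ht)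

omit [GrpObj H] [GrpObj H'] in
/-- Tangent roots of a smaller subgroup. -/
theorem mem_E_of_mem_locus [Mono h'.left] {s : S} (hs : s ∈ locus h h') {a : D.idx} (ha : s ∈ E D h a) :
    s ∈ E D h' a := by
  obtain ⟨K, _, x, ⟨p, rfl⟩, v, hv⟩ := ha
  refine ⟨K, inferInstance, x, ⟨p, rfl⟩, ?_⟩
  rw [mem_locus_iff] at hs
  obtain ⟨y, hy⟩ := (leAt_iff_pts h h' x).1 hs (tB x (TrivSqZeroExt K K))
    (Spec.map (CommRingCat.ofHom (algebraMap K (TrivSqZeroExt K K)))) rfl v
  exact ⟨y, hy.trans hv⟩

variable [IsMonHom h] [IsMonHom h'] [IsImmersion h.left] [IsImmersion h'.left] [Smooth H.hom] [Smooth H'.hom]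

/-- Inclusion from tangent roots, with a dichotomy. -/
theorem exists_le_of_E_dich [Nonempty S] (hconn : _root_.RedSub.HasConnectedFibres H) (t : D.T ⟶ H) (ht : t ≫ h = D.i)
    (t' : D.T ⟶ H') (ht' : t' ≫ h' = D.i) (hd : Dich D h) (hE : ∀ a, E D h a ⊆ E D h' a) :
    ∃ v : H ⟶ H', v ≫ h' = h := by
  have : Mono h' := Over.mono_of_mono_left h'
  refine exists_le_of_dich D h hconn t ht hd h' t' ht' fun a ha => ?_
  refine exists_lift_u D h' t' ht' a ?_
  rw [Set.eq_univ_iff_forall] at ha ⊢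
  exact fun s => hE a (ha s)

/-- **Inclusion of subgroups containing the torus of a splitting, from the tangent roots.** -/
theorem exists_le_of_E (hconn : _root_.RedSub.HasConnectedFibres H) (t : D.T ⟶ H) (ht : t ≫ h = D.i)
    (t' : D.T ⟶ H') (ht' : t' ≫ h' = D.i) (hE : ∀ a, E D h a ⊆ E D h' a) : ∃ v : H ⟶ H', v ≫ h' = h := by
  classical
  have hm' : Mono h'.left := inferInstance
  refine H657.FacLoc.inP_of_local h' h fun s => ?_
  -- a neighbourhood on which the tangent roots are constant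
  let W : D.idx → Set S := fun a => if s ∈ E D h a then E D h a else (E D h a)ᶜ
  have hW : ∀ a, IsOpen (W a) := by
    intro a
    have hcl := isClopen_E D h t ht a
    change IsOpen (if s ∈ E D h a then E D h a else (E D h a)ᶜ)
    split_ifs
    · exact hcl.isOpen
    · exact hcl.compl.isOpen
  have hsW : ∀ a, s ∈ W a := by
    intro a
    change s ∈ (if s ∈ E D h a then E D h a else (E D h a)ᶜ)
    split_ifs with hs
    · exact hs
    · exact hs
  let U : S.Opens := ⟨⋂ a, W a, isOpen_iInter_of_finite hW⟩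
  have hsU : s ∈ U := Set.mem_iInter.2 hsW
  have hne : Nonempty (U : Scheme.{u}) := ⟨⟨s, hsU⟩⟩
  refine ⟨U, U.ι, inferInstance, inferInstance, ⟨⟨s, hsU⟩, rfl⟩, ?_⟩
  have e1 : IsImmersion ((Over.pullback U.ι).map h).left := (H648.BorBc.isSubgrp_bc U.ι ⟨‹IsMonHom h›, ‹_›⟩).2
  have e2 : IsImmersion ((Over.pullback U.ι).map h').left := (H648.BorBc.isSubgrp_bc U.ι ⟨‹IsMonHom h'›, ‹_›⟩).2
  have e3 : Smooth (Red.bc U.ι H).hom := inferInstanceAs (Smooth (pullback.snd _ _))
  have e4 : Smooth (Red.bc U.ι H').hom := inferInstanceAs (Smooth (pullback.snd _ _))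
  refine exists_le_of_E_dich (splitBc U.ι D) ((Over.pullback U.ι).map h) ((Over.pullback U.ι).map h')
    (H648.TypeR.hasConnectedFibres_bc U.ι hconn) ((Over.pullback U.ι).map t) (bc_torus D U.ι ht)
    ((Over.pullback U.ι).map t') (bc_torus D U.ι ht') ?_ ?_
  · intro (a : D.idx)
    have hb : E (splitBc U.ι D) ((Over.pullback U.ι).map h) a = U.ι ⁻¹' E D h a := E_bc U.ι D h a
    rw [hb]
    by_cases ha : s ∈ E D h a
    · right
      refine Set.eq_univ_of_forall fun y => ?_
      have h1 : (U.ι y) ∈ W a := Set.mem_iInter.1 y.2 a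
      change (U.ι y) ∈ (if s ∈ E D h a then E D h a else (E D h a)ᶜ) at h1
      rw [if_pos ha] at h1
      exact h1
    · left
      refine Set.eq_empty_of_forall_notMem fun y hy => ?_
      have h1 : (U.ι y) ∈ W a := Set.mem_iInter.1 y.2 a
      change (U.ι y) ∈ (if s ∈ E D h a then E D h a else (E D h a)ᶜ) at h1
      rw [if_neg ha] at h1
      exact h1 hy
  · intro (a : D.idx)
    have hb : E (splitBc U.ι D) ((Over.pullback U.ι).map h) a = U.ι ⁻¹' E D h a := E_bc U.ι D h a
    have hb' : E (splitBc U.ι D) ((Over.pullback U.ι).map h') a = U.ι ⁻¹' E D h' a := E_bc U.ι D h' a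
    rw [hb, hb']
    exact Set.preimage_mono (hE a)

/-- **The inclusion of geometric fibres in terms of roots.** -/
theorem mem_locus_iff_E (hconn : _root_.RedSub.HasConnectedFibres H) (t : D.T ⟶ H) (ht : t ≫ h = D.i)
    (t' : D.T ⟶ H') (ht' : t' ≫ h' = D.i) (s : S) :
    s ∈ locus h h' ↔ ∀ a, s ∈ E D h a → s ∈ E D h' a := by
  constructor
  · intro hs a ha
    exact mem_E_of_mem_locus D h h' hs ha
  · intro hs
    change LeAt h h' (Red.geomPt s)
    rw [leAt_iff_bc]
    have e1 : IsImmersion ((Over.pullback (Red.geomPt s)).map h).left :=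
      (H648.BorBc.isSubgrp_bc (Red.geomPt s) ⟨‹IsMonHom h›, ‹_›⟩).2
    have e2 : IsImmersion ((Over.pullback (Red.geomPt s)).map h').left :=
      (H648.BorBc.isSubgrp_bc (Red.geomPt s) ⟨‹IsMonHom h'›, ‹_›⟩).2
    have e3 : Smooth (Red.bc (Red.geomPt s) H).hom := inferInstanceAs (Smooth (pullback.snd _ _))
    have e4 : Smooth (Red.bc (Red.geomPt s) H').hom := inferInstanceAs (Smooth (pullback.snd _ _))
    refine exists_le_of_E (splitBc (Red.geomPt s) D) ((Over.pullback (Red.geomPt s)).map h)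
      ((Over.pullback (Red.geomPt s)).map h') (H648.TypeR.hasConnectedFibres_bc (Red.geomPt s) hconn)
      ((Over.pullback (Red.geomPt s)).map t) (bc_torus D _ ht) ((Over.pullback (Red.geomPt s)).map t')
      (bc_torus D _ ht') ?_
    intro (a : D.idx) y hy
    have hb : E (splitBc (Red.geomPt s) D) ((Over.pullback (Red.geomPt s)).map h) a = Red.geomPt s ⁻¹' E D h a :=
      E_bc (Red.geomPt s) D h a
    have hb' : E (splitBc (Red.geomPt s) D) ((Over.pullback (Red.geomPt s)).map h') a = Red.geomPt s ⁻¹' E D h' a :=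
      E_bc (Red.geomPt s) D h' a
    rw [hb] at hy
    rw [hb']
    have h1 : (Red.geomPt s) y = s := by
      have h2 : y = IsLocalRing.closedPoint (AlgebraicClosure (S.residueField s)) :=
        (inferInstance : Subsingleton (PrimeSpectrum (AlgebraicClosure (S.residueField s)))).elim _ _
      exact (congrArg (Red.geomPt s) h2).trans (H652.FibOpen.geomPt_closedPoint s)
    change (Red.geomPt s) y ∈ E D h a at hy
    change (Red.geomPt s) y ∈ E D h' a
    rw [h1] at hy ⊢
    exact hs a hy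

/-- The locus of inclusion is open and closed (split case). -/
theorem isClopen_locus (hconn : _root_.RedSub.HasConnectedFibres H) (t : D.T ⟶ H) (ht : t ≫ h = D.i)
    (t' : D.T ⟶ H') (ht' : t' ≫ h' = D.i) : IsClopen (locus h h') := by
  have h1 : locus h h' = ⋂ a, ((E D h a)ᶜ ∪ E D h' a) := by
    ext s
    rw [mem_locus_iff_E D h h' hconn t ht t' ht' s, Set.mem_iInter]
    exact forall_congr' fun a => imp_iff_not_or
  rw [h1]
  exact isClopen_iInter_of_finite fun a => (isClopen_E D h t ht a).compl.union (isClopen_E D h' t' ht' a)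

/-- Inclusion from the inclusion of the geometric fibres (split case). -/
theorem exists_le_of_locus (hconn : _root_.RedSub.HasConnectedFibres H) (t : D.T ⟶ H) (ht : t ≫ h = D.i)
    (t' : D.T ⟶ H') (ht' : t' ≫ h' = D.i) (hl : ∀ s, s ∈ locus h h') : ∃ v : H ⟶ H', v ≫ h' = h :=
  exists_le_of_E D h h' hconn t ht t' ht' fun _ s hs =>
    (mem_locus_iff_E D h h' hconn t ht t' ht' s).1 (hl s) _ hs

end Split

end K195.Le
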