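import Groth.Agent.RedSub.K195.Tang
import Groth.Agent.RedSub.K199.TypeRPull
import Groth.Agent.RedSub.H643.TypeRTorus
import Groth.Agent.RedSub.K193.RCFib
import Groth.Agent.RedSub.K195.TypeLoc

/-!
# Standard form of subgroups of type (R) of base changes of a split reductive group

`D` a splitting of `G` over `S`, `h : H ⟶ G_{S'}` of type (R): étale locally on `S'`, `H` is conjugate to a subgroup
`h'` of type (R) containing the torus of `D`, whose loci `E` are `∅` or everything (`exists_standard`).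
-/

set_option autoImplicit false
universe u

open CategoryTheory MonoidalCategory CartesianMonoidalCategory MonObj GrpObj AlgebraicGeometry Limits

namespace K195.TypeRSt

open Groth.Agent Groth.Agent.Sga3B Groth.Agent.Sga3B.MT Groth.Agent.Sga3B.Cell Groth.Agent.Sga3B.PinMod
  Groth.Agent.Sga3B.DSPts Groth.Agent.Sga3B.GaPts Groth.Agent.Sga3B.SplitBc264
  Groth.Agent.RedSub.H635.Uniq Groth.Agent.RedSub.H647.SubPt Groth.Agent.RedSub.H643.TypeRTorus
  Groth.Agent.RedSub.H643.TranspSmooth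

variable {S S' V : Scheme.{u}} {G : Over S} [GrpObj G]

section tangent

omit [GrpObj G] in
lemma gaPt_left_congr {Z : Scheme.{u}} {w w' : Z ⟶ S} (hw : w = w') (x : Γ(Z, ⊤)) (y : Red.Ga S ⟶ G) :
    (gaPt (Over.mk w) x ≫ y).left = (gaPt (Over.mk w') x ≫ y).left := by
  subst hw
  rfl

/-- the tangent vector condition through `Pt` -/
lemma tg_iff_pt (D : Red.SplitRed G) (f : S' ⟶ S) {H : Over S'} (h : H ⟶ Red.bc f G)
    (a : D.idx) {K : Type u} [Field K] (x : Spec (CommRingCat.of K) ⟶ S') :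
    Tg (splitBc f D) h a K x ↔ Pt h (Spec.map (CommRingCat.ofHom (algebraMap K (TrivSqZeroExt K K))) ≫ x)
      (gaPt (Over.mk ((Spec.map (CommRingCat.ofHom (algebraMap K (TrivSqZeroExt K K))) ≫ x) ≫ f))
        ((Scheme.ΓSpecIso (CommRingCat.of (TrivSqZeroExt K K))).inv (TrivSqZeroExt.inr 1)) ≫ D.u a).left := by
  have h1 := MemAt.iff_of_over h (tB x (TrivSqZeroExt K K))
    (gaPt (tB x (TrivSqZeroExt K K)) (fnOf x (TrivSqZeroExt.inr 1)) ≫ (splitBc f D).u a)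
  rw [K195.Tang.symm_gaPt_u] at h1
  refine Iff.trans h1.symm ?_
  rw [memAt_iff_pt]
  exact Iff.rfl

/-- The loci of subgroups with comparable points. -/
lemma E_eq_preimage (D : Red.SplitRed G) (f : S' ⟶ S) {H : Over S'} (h : H ⟶ Red.bc f G) (j : V ⟶ S') {k : V ⟶ S}
    (hk : j ≫ f = k) {H' : Over V} (h' : H' ⟶ Red.bc k G)
    (e : ∀ (X : Scheme.{u}) (y : X ⟶ V) (c : X ⟶ G.left), Pt h' y c ↔ Pt h (y ≫ j) c) (a : D.idx) :
    E (splitBc k D) h' a = j ⁻¹' E (splitBc f D) h a := by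
  subst hk
  have hT : ∀ {K : Type u} [Field K] (x : Spec (CommRingCat.of K) ⟶ V),
      Tg (splitBc (j ≫ f) D) h' a K x ↔ Tg (splitBc f D) h a K (x ≫ j) := by
    intro K _ x
    rw [tg_iff_pt, tg_iff_pt, e]
    have hw : (Spec.map (CommRingCat.ofHom (algebraMap K (TrivSqZeroExt K K))) ≫ x) ≫ j ≫ f =
        (Spec.map (CommRingCat.ofHom (algebraMap K (TrivSqZeroExt K K))) ≫ x ≫ j) ≫ f := by
      simp only [Category.assoc]
    rw [gaPt_left_congr hw, Category.assoc]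
  ext σ
  constructor
  · rintro ⟨K, _, x, ⟨p, hp⟩, hx⟩
    exact ⟨K, inferInstance, x ≫ j, ⟨p, by rw [Scheme.Hom.comp_apply, hp]⟩, (hT x).1 hx⟩
  · rintro ⟨K, _, x, ⟨p, hp⟩, hx⟩
    obtain ⟨z, hz1, hz2⟩ := Scheme.Pullback.exists_preimage_pullback (f := x) (g := j) p σ hp
    let P := pullback x j
    let K' := P.residueField z
    let y : Spec (CommRingCat.of K') ⟶ P := P.fromSpecResidueField z
    obtain ⟨φ, hφ⟩ := Spec.map_surjective (y ≫ pullback.fst x j)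
    refine ⟨K', inferInstance, y ≫ pullback.snd x j, ⟨(⊥ : PrimeSpectrum K'), ?_⟩, ?_⟩
    · have h1 : y (⊥ : PrimeSpectrum K') = z := Scheme.fromSpecResidueField_apply _ _
      exact (Scheme.Hom.comp_apply y (pullback.snd x j) (⊥ : PrimeSpectrum K')).trans
        ((congrArg (pullback.snd x j) h1).trans hz2)
    · rw [hT]
      have h2 : (y ≫ pullback.snd x j) ≫ j = Spec.map (CommRingCat.ofHom φ.hom) ≫ x := by
        have h3 : Spec.map (CommRingCat.ofHom φ.hom) = y ≫ pullback.fst x j := hφ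
        rw [h3, Category.assoc, Category.assoc, pullback.condition]
      rw [h2]
      exact K195.Tang.tg_ext (splitBc f D) h a x φ.hom hx

end tangent

section conj

variable {f : S' ⟶ S} {H : Over S'} [GrpObj H]

/-- the conjugate of `H_V` by `g⁻¹` -/
noncomputable def cjSub (h : H ⟶ Red.bc f G) (p : V ⟶ S') (g : Over.mk (p ≫ f) ⟶ G) :
    Red.bc p H ⟶ Red.bc (p ≫ f) G := bcSub p h ≫ cj g⁻¹

omit [GrpObj H] in
lemma memAt_cjSub (h : H ⟶ Red.bc f G) (p : V ⟶ S') (g : Over.mk (p ≫ f) ⟶ G) {X : Over S}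
    (y : X ⟶ Over.mk (p ≫ f)) (c : X ⟶ G) :
    MemAt (cjSub h p g) y c ↔ Pt h (y.left ≫ p) ((y ≫ g) * c * (y ≫ g)⁻¹).left := by
  rw [cjSub, memAt_comp_cj, memAt_iff_pt, pt_bcSub]
  rw [GrpObj.comp_inv, _root_.inv_inv]

omit [GrpObj H] in
lemma pt_cjSub (h : H ⟶ Red.bc f G) (p : V ⟶ S') (g : Over.mk (p ≫ f) ⟶ G) {X : Over S}
    (y : X ⟶ Over.mk (p ≫ f)) (c : X ⟶ G) :
    Pt h (y.left ≫ p) c.left ↔ Pt (cjSub h p g) y.left ((y ≫ g)⁻¹ * c * (y ≫ g)).left := by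
  rw [← memAt_iff_pt (cjSub h p g) y, memAt_cjSub]
  have e : (y ≫ g) * ((y ≫ g)⁻¹ * c * (y ≫ g)) * (y ≫ g)⁻¹ = c := by group
  rw [e]

lemma isTypeR_cjSub (hG : Red.IsReductive G) (h : H ⟶ Red.bc f G) (hh : _root_.RedSub.IsTypeR h) (p : V ⟶ S')
    (g : Over.mk (p ≫ f) ⟶ G) : _root_.RedSub.IsTypeR (cjSub h p g) := by
  have : IsMonHom (cjIso (g⁻¹)).hom := isMonHom_cj (g⁻¹)
  refine Groth.Agent.RedSub.H648.TypeR.isTypeR_of_arrow (Iso.refl _) (Grp.mkIso' (cjIso (g⁻¹))) ?_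
    (K199.TypeRPull.isTypeR_bcSub p hG hh)
  exact (Category.id_comp _).symm

omit [GrpObj H] in
/-- restriction of the point `g` -/
lemma cjSub_same (h : H ⟶ Red.bc f G) (p : V ⟶ S') (g : Over.mk (p ≫ f) ⟶ G) {W : Scheme.{u}} (j : W ⟶ V)
    (g' : Over.mk ((j ≫ p) ≫ f) ⟶ G) (hg' : g'.left = j ≫ g.left) (X : Scheme.{u}) (y : X ⟶ W) (c : X ⟶ G.left) :
    Pt (cjSub h (j ≫ p) g') y c ↔ Pt (cjSub h p g) (y ≫ j) c := by
  by_cases w : c ≫ G.hom = y ≫ (j ≫ p) ≫ f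
  · let X' : Over S := Over.mk (y ≫ (j ≫ p) ≫ f)
    let y' : X' ⟶ Over.mk ((j ≫ p) ≫ f) := Over.homMk y
    let y'' : X' ⟶ Over.mk (p ≫ f) := Over.homMk (y ≫ j) (by
      change (y ≫ j) ≫ p ≫ f = y ≫ (j ≫ p) ≫ f
      simp only [Category.assoc])
    let c' : X' ⟶ G := Over.homMk c w
    have h1 := memAt_iff_pt (cjSub h (j ≫ p) g') y' c'
    have h2 := memAt_iff_pt (cjSub h p g) y'' c'
    refine h1.symm.trans (Iff.trans ?_ h2)
    rw [memAt_cjSub, memAt_cjSub]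
    have e1 : y' ≫ g' = y'' ≫ g := by
      apply Over.OverMorphism.ext
      change y ≫ g'.left = (y ≫ j) ≫ g.left
      rw [hg', Category.assoc]
    have e2 : y'.left ≫ j ≫ p = y''.left ≫ p := (Category.assoc _ _ _).symm
    rw [e1, e2]
  · constructor
    · intro h1
      exact (w h1.w.symm).elim
    · intro h1
      refine (w ?_).elim
      rw [← h1.w]
      simp only [Category.assoc]

omit [GrpObj H] in
/-- The torus of the splitting is contained in the conjugate. -/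
lemma exists_torus_cjSub (D : Red.SplitRed G) (h : H ⟶ Red.bc f G) (p : V ⟶ S') (g₁ : Over.mk p ⟶ Red.bc f G)
    (hg₁ : g₁ ∈ transpPts (splitBc f D).i h (Over.mk p)) :
    ∃ t' : (splitBc (p ≫ f) D).T ⟶ Red.bc p H,
      t' ≫ cjSub h p ((BcPts.bcEquiv f (Over.mk p) G).symm g₁) = (splitBc (p ≫ f) D).i := by
  set g : Over.mk (p ≫ f) ⟶ G := (BcPts.bcEquiv f (Over.mk p) G).symm g₁ with hg
  refine (MemAt.iff_of_over (cjSub h p g) (splitBc (p ≫ f) D).T (splitBc (p ≫ f) D).i).1 ?_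
  have e0 : (BcPts.bcEquiv (p ≫ f) (splitBc (p ≫ f) D).T G).symm (splitBc (p ≫ f) D).i =
      (BcPts.bcEquiv (p ≫ f) (splitBc (p ≫ f) D).T D.T).symm (𝟙 _) ≫ D.i := by
    rw [← BcPts.bcEquiv_symm_comp]
    exact congrArg _ (Category.id_comp _).symm
  rw [e0]
  generalize (BcPts.bcEquiv (p ≫ f) (splitBc (p ≫ f) D).T D.T).symm (𝟙 _) = τ
  rw [memAt_cjSub]
  generalize MemAt.strHom (p ≫ f) (splitBc (p ≫ f) D).T = a at *
  have h2 := memAt_iff_pt h (a ≫ ovq p f) ((a ≫ g) * (τ ≫ D.i) * (a ≫ g)⁻¹)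
  refine h2.1 ?_
  rw [memAt_iff, bcPt_mul, bcPt_mul, bcPt_inv]
  let y : Over.mk (a ≫ ovq p f).left ⟶ Over.mk p := Over.homMk a.left rfl
  obtain ⟨b, hb⟩ := hg₁ _ y (bcPt (a ≫ ovq p f) τ)
  refine ⟨b, hb.symm.trans ?_⟩
  have e1 : bcPt (a ≫ ovq p f) τ ≫ (splitBc f D).i = bcPt (a ≫ ovq p f) (τ ≫ D.i) := by
    rw [bcPt, bcPt, ← Category.assoc]
    exact (BcPts.bcEquiv_comp f ((BcPts.overIso (a ≫ ovq p f)).hom ≫ τ) D.i).symm
  have e2 : bcPt (a ≫ ovq p f) (a ≫ g) = y ≫ g₁ := by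
    rw [bcPt, ← Equiv.eq_symm_apply, BcPts.comp_bcEquiv_symm]
    apply Over.OverMorphism.ext
    rfl
  exact congrArg₂ (fun u v => u * v * u⁻¹) e2.symm e1

end conj

section main

/-- **Standard form of subgroups of type (R)**, étale locally. -/
theorem exists_standard {S : Scheme.{u}} {G : Over S} [GrpObj G] (D : Red.SplitRed G) {S' : Scheme.{u}} (f : S' ⟶ S)
    {H : Over S'} [GrpObj H] (h : H ⟶ Red.bc f G) (hH : _root_.RedSub.IsTypeR h) (s : S') :
    ∃ (V : Scheme.{u}) (p : V ⟶ S'), Etale p ∧ s ∈ Set.range p ∧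
      ∃ (H' : Over V) (_ : GrpObj H') (h' : H' ⟶ Red.bc (p ≫ f) G) (t' : (splitBc (p ≫ f) D).T ⟶ H')
        (R0 : Set D.idx) (g : Over.mk (p ≫ f) ⟶ G),
        _root_.RedSub.IsTypeR h' ∧ t' ≫ h' = (splitBc (p ≫ f) D).i ∧
        (∀ a ∈ R0, E (splitBc (p ≫ f) D) h' a = Set.univ) ∧ (∀ a ∉ R0, E (splitBc (p ≫ f) D) h' a = ∅) ∧
        ∀ (X : Over S) (y : X ⟶ Over.mk (p ≫ f)) (c : X ⟶ G),
          Pt h (y.left ≫ p) c.left ↔ Pt h' y.left ((y ≫ g)⁻¹ * c * (y ≫ g)).left := by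
  -- an étale neighbourhood over which the torus is conjugate into `H`
  have hD := (splitBc f D).reductive
  obtain ⟨c, hc⟩ := exists_geom hD h hH (splitBc f D).i (splitBc f D).maximalTorus s
  have hGa := hD.1
  have hGs := hD.2.1
  have hHs := hH.2.1
  have hHm := hH.1.1
  have hHi := hH.1.2
  have m1 : Mono h := Over.mono_of_mono_left h
  have k2 : IsSeparated (Red.bc f G).hom := by
    have : IsAffineHom (Red.bc f G).hom := hD.1
    infer_instance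
  have k4 : IsMonHom (splitBc f D).i := (splitBc f D).maximalTorus.1
  obtain ⟨U, q, hq, ⟨u₀, hu₀⟩, g₂, hg₂⟩ := exists_etale_of_point (splitBc f D).maximalTorus.2.2.1 (splitBc f D).i h
    (Red.geomPt s) c hc s (by rw [IsoFam.range_geomPt]; rfl)
  obtain ⟨g₁, rfl⟩ := sec_surjective (G := Red.bc f G) q g₂
  rw [sec_mem] at hg₂
  set g : Over.mk (q ≫ f) ⟶ G := (BcPts.bcEquiv f (Over.mk q) G).symm g₁ with hg
  obtain ⟨t₀, ht₀⟩ := exists_torus_cjSub D h q g₁ hg₂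
  rw [← hg] at ht₀
  have hR₀ := isTypeR_cjSub D.reductive h hH q g
  have c1 := hR₀.1.1
  have c2 := hR₀.1.2
  have c3 := hR₀.2.1
  -- the roots of `H` at the point
  classical
  let R0 : Set D.idx := {a | u₀ ∈ E (splitBc (q ≫ f) D) (cjSub h q g) a}
  have hE : ∀ a, IsClopen (E (splitBc (q ≫ f) D) (cjSub h q g) a) := fun a =>
    isClopen_E (splitBc (q ≫ f) D) (cjSub h q g) t₀ ht₀ a
  let Fa : D.idx → Set U := fun a =>
    if a ∈ R0 then E (splitBc (q ≫ f) D) (cjSub h q g) a else (E (splitBc (q ≫ f) D) (cjSub h q g) a)ᶜ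
  have hFa : ∀ a, IsOpen (Fa a) := by
    intro a
    by_cases ha : a ∈ R0
    · simp only [Fa, if_pos ha]
      exact (hE a).2
    · simp only [Fa, if_neg ha]
      exact (hE a).1.isOpen_compl
  have : Finite D.idx := inferInstance
  let W : U.Opens := ⟨⋂ a, Fa a, isOpen_iInter_of_finite hFa⟩
  have huW : u₀ ∈ W := by
    refine Set.mem_iInter.2 fun a => ?_
    by_cases ha : a ∈ R0
    · simp only [Fa, if_pos ha]
      exact ha
    · simp only [Fa, if_neg ha]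
      exact ha
  let g' : Over.mk ((W.ι ≫ q) ≫ f) ⟶ G := Over.homMk (W.ι ≫ g.left) (by
    have h1 : g.left ≫ G.hom = q ≫ f := Over.w g
    change (W.ι ≫ g.left) ≫ G.hom = (W.ι ≫ q) ≫ f
    rw [Category.assoc, h1, Category.assoc])
  have hg₂' : (Over.homMk W.ι rfl : Over.mk (W.ι ≫ q) ⟶ Over.mk q) ≫ g₁ ∈
      transpPts (splitBc f D).i h (Over.mk (W.ι ≫ q)) := mem_comp _ _ hg₂ _
  obtain ⟨t', ht'⟩ := exists_torus_cjSub D h (W.ι ≫ q) _ hg₂'
  have hgg : (BcPts.bcEquiv f (Over.mk (W.ι ≫ q)) G).symm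
      ((Over.homMk W.ι rfl : Over.mk (W.ι ≫ q) ⟶ Over.mk q) ≫ g₁) = g' := by
    rw [BcPts.comp_bcEquiv_symm]
    apply Over.OverMorphism.ext
    rfl
  rw [hgg] at ht'
  have hEE : ∀ a, E (splitBc ((W.ι ≫ q) ≫ f) D) (cjSub h (W.ι ≫ q) g') a =
      W.ι ⁻¹' E (splitBc (q ≫ f) D) (cjSub h q g) a := fun a =>
    E_eq_preimage D (q ≫ f) (cjSub h q g) W.ι (Category.assoc _ _ _).symm _
      (fun X y c => cjSub_same h q g W.ι g' rfl X y c) a
  refine ⟨W, W.ι ≫ q, inferInstance, ⟨⟨u₀, huW⟩, ?_⟩, Red.bc (W.ι ≫ q) H, inferInstance,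
    cjSub h (W.ι ≫ q) g', t', R0, g', isTypeR_cjSub D.reductive h hH _ g', ht', ?_, ?_, fun X y c => pt_cjSub h _ g' y c⟩
  · rw [← hu₀]
    exact Scheme.Hom.comp_apply _ _ _
  · intro a ha
    rw [hEE, Set.eq_univ_iff_forall]
    intro w
    have h1 := Set.mem_iInter.1 w.2 a
    simp only [Fa, if_pos ha] at h1
    exact h1
  · intro a ha
    rw [hEE, Set.eq_empty_iff_forall_notMem]
    intro w
    have h1 := Set.mem_iInter.1 w.2 a
    simp only [Fa, if_neg ha] at h1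
    exact h1

end main

end K195.TypeRSt
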