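import Groth.Agent.RedSub.K195.PartCell
import Groth.Agent.RedSub.K195.SplitSub

/-!
# Bruhat cells (S5552)

* `exists_conj`: a point inducing the reflection `s_a` conjugates `u_c` to `u_{s_a c}` up to an automorphism of `𝔾_a`;
* `exists_conj_word`: the same for a word;
* `bruhatMap_eq`: the Bruhat cell map of `l` is a partial cell map translated by `n_l`.
-/

set_option autoImplicit false
set_option linter.unusedSectionVars false

universe u

open CategoryTheory MonoidalCategory CartesianMonoidalCategory MonObj GrpObj AlgebraicGeometry Limits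

namespace K195.Bruhat

open Groth.Agent Groth.Agent.Sga3B Groth.Agent.Sga3B.Cell Groth.Agent.Sga3B.PinMod Groth.Agent.Sga3B.DSPts
  Groth.Agent.Sga3B.GaPts Groth.Agent.Sga3B.SplitBc264 Groth.Agent.Sga3B.Cell.Datum

variable {S : Scheme.{u}} {G : Over S} [GrpObj G] (D : Red.SplitRed G)

lemma exists_conj_aux [Nonempty S] {a : D.idx} {n₀ : 𝟙_ (Over S) ⟶ G} (hn₀ : K194.Refl.IsRefl D a n₀) (c : D.idx) :
    ∃ v : Red.Ga S ⟶ Red.Ga S, (toUnit _ ≫ n₀) * D.u c * (toUnit _ ≫ n₀)⁻¹ = v ≫ D.u (D.P.reflectionPerm a c) := by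
  have hcl := (D.rootHom (D.P.reflectionPerm a c)).2.1
  have : Mono (D.u (D.P.reflectionPerm a c)).left := inferInstance
  have hred := SplitReduced415.isReduced D
  obtain ⟨b⟩ := BaseZ.nonempty_base (P := D.P)
  obtain ⟨v, hv⟩ := K196.Cov.exists_fac (D.u (D.P.reflectionPerm a c)) ((toUnit _ ≫ n₀) * D.u c * (toUnit _ ≫ n₀)⁻¹) (by
    intro R _ s _ B _ _ ψ _
    have : IsAffineHom G.hom := D.reductive.1
    obtain ⟨ch⟩ := exists_chart G s
    set m : Pt R ch.A R := (ch.pts R).symm (toUnit _ ≫ n₀) with hm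
    have hact : (ch.datum D).Acts m (D.P.reflection a).toLinearMap.toAddMonoidHom := hn₀.acts ch
    have hG : (ch.datum D).Good := PinModelOf.good D ch
    obtain ⟨r, hr⟩ := Cell.Datum.pin_conj_of (D := ch.datum D) D.P (fun a => rfl) b hG (fun B _ _ => bp B m)
      (fun φ => map_bp φ m) a (fun t => by
        rw [act_reflection (D := ch.datum D) D.P D.pairing_eq]
        exact PinModelOf.conj_of_acts (D := ch.datum D) D.P (fun a => rfl) D.pairing_eq hact t) c
    obtain ⟨x, hx⟩ := exists_gaPt s ψ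
    have h2 := congrArg (ch.pts B) (hr x)
    have h3 : ch.pts B (bp B m) = toUnit (tB s B) ≫ n₀ := by
      rw [bp, ← ch.pts_nat, hm, MulEquiv.apply_symm_apply, ← Category.assoc]
      congr 1
      exact toUnit_unique _ _
    rw [map_mul, map_mul, map_inv, h3] at h2
    have h4 := ch.pts_uu D c x
    have h5 := ch.pts_uu D (D.P.reflectionPerm a c) (algebraMap R B (r : R) * x)
    refine ⟨gaPt (tB s B) (fnOf s (algebraMap R B (r : R) * x)), ?_⟩
    have h6 : ψ ≫ ((toUnit (Red.Ga S) ≫ n₀) * D.u c * (toUnit (Red.Ga S) ≫ n₀)⁻¹) =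
        (toUnit _ ≫ n₀) * (ψ ≫ D.u c) * (toUnit _ ≫ n₀)⁻¹ := by
      rw [MonObj.comp_mul, MonObj.comp_mul, GrpObj.comp_inv, ← Category.assoc, toUnit_unique (ψ ≫ toUnit _) (toUnit _)]
    rw [h6, hx]
    exact h5.symm.trans (h2.symm.trans (congrArg (fun z => (toUnit _ ≫ n₀) * z * (toUnit _ ≫ n₀)⁻¹) h4)))
  exact ⟨v, hv.symm⟩

lemma homs_eq [IsEmpty S] {X Y : Over S} (f g : X ⟶ Y) : f = g := by
  have : IsEmpty X.left := ⟨fun x => IsEmpty.false (X.hom.base x)⟩
  apply Over.OverMorphism.ext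
  exact (isInitialOfIsEmpty (X := X.left)).hom_ext _ _

lemma exists_conj_one {a : D.idx} {n₀ : 𝟙_ (Over S) ⟶ G} (hn₀ : K194.Refl.IsRefl D a n₀) (c : D.idx) :
    ∃ v : Red.Ga S ⟶ Red.Ga S, (toUnit _ ≫ n₀) * D.u c * (toUnit _ ≫ n₀)⁻¹ = v ≫ D.u (D.P.reflectionPerm a c) := by
  rcases isEmpty_or_nonempty S with hS | hS
  · exact ⟨𝟙 _, homs_eq _ _⟩
  · exact exists_conj_aux D hn₀ c

/-- The inverse of a point inducing the reflection `s_a`. -/
lemma isRefl_inv {a : D.idx} {n : 𝟙_ (Over S) ⟶ G} (hn : K194.Refl.IsRefl D a n) : K194.Refl.IsRefl D a n⁻¹ := by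
  intro X t
  let r := (D.P.reflection a).toLinearMap.toAddMonoidHom
  let t' : X ⟶ D.T := t ≫ D.split.hom.hom.hom ≫ Red.DSmap S r ≫ D.split.inv.hom.hom
  have h1 := hn X t'
  have h2 : D.split.inv.hom.hom ≫ D.split.hom.hom.hom = 𝟙 _ :=
    congrArg (fun f => f.hom.hom) D.split.inv_hom_id
  have h3 : D.split.hom.hom.hom ≫ D.split.inv.hom.hom = 𝟙 _ :=
    congrArg (fun f => f.hom.hom) D.split.hom_inv_id
  have h4 : Red.DSmap S r ≫ Red.DSmap S r = 𝟙 _ := by
    rw [PinTransport.DSmap_comp, ← PinTransport.DSmap_id]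
    congr 1
    ext m
    exact D.P.reflection_same a m
  have h5 : t' ≫ D.split.hom.hom.hom ≫ Red.DSmap S r ≫ D.split.inv.hom.hom ≫ D.i = t ≫ D.i := by
    simp only [t', Category.assoc]
    rw [reassoc_of% h2, reassoc_of% h4, reassoc_of% h3]
  have h6 : t' ≫ D.i = t ≫ D.split.hom.hom.hom ≫ Red.DSmap S r ≫ D.split.inv.hom.hom ≫ D.i := by
    simp only [t', Category.assoc]
  rw [h5] at h1
  refine Eq.trans ?_ h6
  rw [GrpObj.comp_inv, _root_.inv_inv, ← h1]
  group

/-- A point conjugating `u_c` to `u_{σ c}`, up to automorphisms of `𝔾_a`. -/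
def Conj (n : 𝟙_ (Over S) ⟶ G) (σ : Equiv.Perm D.idx) : Prop :=
  ∀ c : D.idx, ∃ v : Red.Ga S ≅ Red.Ga S, (toUnit _ ≫ n) * D.u c * (toUnit _ ≫ n)⁻¹ = v.hom ≫ D.u (σ c)

lemma conj_refl {a : D.idx} {n₀ : 𝟙_ (Over S) ⟶ G} (hn₀ : K194.Refl.IsRefl D a n₀) :
    Conj D n₀ (D.P.reflectionPerm a) := by
  intro c
  obtain ⟨v, hv⟩ := exists_conj_one D hn₀ c
  obtain ⟨w, hw⟩ := exists_conj_one D (isRefl_inv D hn₀) (D.P.reflectionPerm a c)
  have h0 : D.P.reflectionPerm a (D.P.reflectionPerm a c) = c := by simp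
  rw [h0] at hw
  have hcl := (D.rootHom (D.P.reflectionPerm a c)).2.1
  have hcl' := (D.rootHom c).2.1
  have m1 : Mono (D.u (D.P.reflectionPerm a c)) := Over.mono_of_mono_left _
  have m2 : Mono (D.u c) := Over.mono_of_mono_left _
  refine ⟨⟨v, w, ?_, ?_⟩, hv⟩
  · rw [← cancel_mono (D.u c), Category.assoc, ← hw, MonObj.comp_mul, MonObj.comp_mul, ← hv, GrpObj.comp_inv,
      GrpObj.comp_inv, GrpObj.comp_inv, ← Category.assoc, toUnit_unique (v ≫ toUnit _) (toUnit _), GrpObj.comp_inv,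
      ← Category.assoc, toUnit_unique (v ≫ toUnit _) (toUnit _), Category.id_comp]
    group
  · rw [← cancel_mono (D.u (D.P.reflectionPerm a c)), Category.assoc, ← hv, MonObj.comp_mul, MonObj.comp_mul, ← hw,
      GrpObj.comp_inv, GrpObj.comp_inv, ← Category.assoc, toUnit_unique (w ≫ toUnit _) (toUnit _),
      Category.id_comp]
    group

lemma conj_mul {n n' : 𝟙_ (Over S) ⟶ G} {σ σ' : Equiv.Perm D.idx} (h : Conj D n σ) (h' : Conj D n' σ') :
    Conj D (n * n') (σ * σ') := by
  intro c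
  obtain ⟨v', hv'⟩ := h' c
  obtain ⟨v, hv⟩ := h (σ' c)
  refine ⟨v' ≪≫ v, ?_⟩
  have h1 : (toUnit (Red.Ga S) ≫ (n * n')) * D.u c * (toUnit (Red.Ga S) ≫ (n * n'))⁻¹ =
      (toUnit _ ≫ n) * ((toUnit _ ≫ n') * D.u c * (toUnit _ ≫ n')⁻¹) * (toUnit _ ≫ n)⁻¹ := by
    rw [MonObj.comp_mul]
    group
  rw [h1, hv', Iso.trans_hom, Category.assoc]
  change _ = v'.hom ≫ v.hom ≫ D.u (σ (σ' c))
  rw [← hv, MonObj.comp_mul, MonObj.comp_mul, GrpObj.comp_inv, ← Category.assoc,
    toUnit_unique (v'.hom ≫ toUnit _) (toUnit _)]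

lemma conj_one : Conj D (1 : 𝟙_ (Over S) ⟶ G) 1 := by
  intro c
  refine ⟨Iso.refl _, ?_⟩
  rw [MonObj.comp_one, _root_.one_mul, inv_one, _root_.mul_one]
  exact (Category.id_comp _).symm

lemma conj_word {nr : D.idx → (𝟙_ (Over S) ⟶ G)} (hnr : _root_.RedSub.RealisesReflections D nr) (l : List D.idx) :
    Conj D (l.map nr).prod (_root_.RedSub.wordPerm D.P l) := by
  induction l with
  | nil => exact conj_one D
  | cons a l ih =>
    rw [List.map_cons, List.prod_cons, _root_.RedSub.wordPerm, List.map_cons, List.prod_cons]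
    exact conj_mul D (conj_refl D (hnr a)) ih

lemma conj_symm {n : 𝟙_ (Over S) ⟶ G} {σ : Equiv.Perm D.idx} (h : Conj D n σ) (c : D.idx) :
    ∃ v : Red.Ga S ≅ Red.Ga S, D.u c * (toUnit _ ≫ n) = (toUnit _ ≫ n) * (v.hom ≫ D.u (σ.symm c)) := by
  obtain ⟨v, hv⟩ := h (σ.symm c)
  rw [Equiv.apply_symm_apply] at hv
  refine ⟨v.symm, ?_⟩
  have h1 := congrArg (fun z => v.inv ≫ z) hv
  simp only [Iso.inv_hom_id_assoc] at h1
  rw [← h1, MonObj.comp_mul, MonObj.comp_mul, GrpObj.comp_inv, ← Category.assoc,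
    toUnit_unique (v.inv ≫ toUnit _) (toUnit _), Iso.symm_hom]
  group

open Groth.Agent.RedSub.H633.PowPts in
lemma prodMap_mul (n : 𝟙_ (Over S) ⟶ G) {X : Over S} {Y : Over S} {k : ℕ} (f g : Fin k → (X ⟶ G)) (y : Y ⟶ _root_.RedSub.pow X k)
    (h : ∀ j, f j * (toUnit X ≫ n) = (toUnit X ≫ n) * g j) :
    (y ≫ _root_.RedSub.prodMap X k f) * (toUnit _ ≫ n) = (toUnit _ ≫ n) * (y ≫ _root_.RedSub.prodMap X k g) := by
  have key : ∀ (k : ℕ) (f g : Fin k → (X ⟶ G)) (x : Fin k → (Y ⟶ X))
      (_ : ∀ j, f j * (toUnit X ≫ n) = (toUnit X ≫ n) * g j),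
      (List.ofFn fun j => x j ≫ f j).prod * (toUnit _ ≫ n) = (toUnit _ ≫ n) * (List.ofFn fun j => x j ≫ g j).prod := by
    intro k
    induction k with
    | zero =>
      intro f g x _
      rw [List.ofFn_zero, List.ofFn_zero, List.prod_nil, _root_.one_mul, _root_.mul_one]
    | succ k ih =>
      intro f g x hfg
      rw [List.ofFn_succ, List.ofFn_succ, List.prod_cons, List.prod_cons, _root_.mul_assoc,
        ih (fun j => f j.succ) (fun j => g j.succ) (fun j => x j.succ) fun j => hfg j.succ, ← _root_.mul_assoc,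
        ← _root_.mul_assoc]
      congr 1
      have h1 := congrArg (fun z => x 0 ≫ z) (hfg 0)
      simp only [MonObj.comp_mul] at h1
      rw [← Category.assoc, toUnit_unique (x 0 ≫ toUnit _) (toUnit _)] at h1
      exact h1
  rw [comp_prodMap, comp_prodMap]
  exact key k f g _ h

open Groth.Agent.RedSub.H633.PowPts in
/-- Coordinatewise automorphism. -/
noncomputable def powIso {X : Over S} {k : ℕ} (v : Fin k → (X ≅ X)) :
    _root_.RedSub.pow X k ≅ _root_.RedSub.pow X k where
  hom := mkPt fun j => coord (𝟙 _) j ≫ (v j).hom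
  inv := mkPt fun j => coord (𝟙 _) j ≫ (v j).inv
  hom_inv_id := by
    apply Groth.Agent.RedSub.H633.PowPts.hom_ext
    intro j
    rw [comp_mkPt, coord_mkPt, ← Category.assoc, ← comp_coord, Category.comp_id, coord_mkPt, Category.assoc,
      Iso.hom_inv_id, Category.comp_id]
  inv_hom_id := by
    apply Groth.Agent.RedSub.H633.PowPts.hom_ext
    intro j
    rw [comp_mkPt, coord_mkPt, ← Category.assoc, ← comp_coord, Category.comp_id, coord_mkPt, Category.assoc,
      Iso.inv_hom_id, Category.comp_id]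

open Groth.Agent.RedSub.H633.PowPts in
lemma powIso_prodMap {X : Over S} {k : ℕ} (v : Fin k → (X ≅ X)) (f : Fin k → (X ⟶ G)) :
    (powIso v).hom ≫ _root_.RedSub.prodMap X k f = _root_.RedSub.prodMap X k fun j => (v j).hom ≫ f j := by
  rw [powIso]
  dsimp only
  rw [mkPt_comp_prodMap]
  have h1 := comp_prodMap (𝟙 (_root_.RedSub.pow X k)) fun j => (v j).hom ≫ f j
  rw [Category.id_comp] at h1
  rw [h1]
  simp only [Category.assoc]

/-- **The Bruhat cell map as a translated partial cell map.** -/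
theorem bruhatMap_eq {nr : D.idx → (𝟙_ (Over S) ⟶ G)} (hnr : _root_.RedSub.RealisesReflections D nr) (l : List D.idx)
    {k m : ℕ} (e : Fin k → D.idx) (epos : Fin m → D.idx) :
    ∃ v : _root_.RedSub.pow (Red.Ga S) k ≅ _root_.RedSub.pow (Red.Ga S) k,
      _root_.RedSub.bruhatMap D nr l e epos = (v ⊗ᵢ Iso.refl _).hom ≫
        ((toUnit _ ≫ (l.map nr).prod) *
          _root_.RedSub.cellMap D (fun j => (_root_.RedSub.wordPerm D.P l).symm (e j)) epos) := by
  choose v hv using fun j => conj_symm D (conj_word D hnr l) (e j)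
  refine ⟨powIso v, ?_⟩
  rw [_root_.RedSub.bruhatMap, _root_.RedSub.cellMap, ← _root_.mul_assoc, prodMap_mul (l.map nr).prod _ _ _ hv,
    MonObj.comp_mul, MonObj.comp_mul, MonObj.comp_mul, MonoidalCategory.tensorIso_hom, Iso.refl_hom,
    ← Category.assoc _ (toUnit _), toUnit_unique (_ ≫ toUnit _) (toUnit _), tensorHom_fst_assoc, tensorHom_snd_assoc, tensorHom_snd_assoc,
    Category.id_comp, Category.id_comp, powIso_prodMap, _root_.mul_assoc]

/-- The translation by a point, as an automorphism. -/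
noncomputable def transl (n : 𝟙_ (Over S) ⟶ G) : G ≅ G where
  hom := (toUnit _ ≫ n) * 𝟙 G
  inv := (toUnit _ ≫ n)⁻¹ * 𝟙 G
  hom_inv_id := by
    rw [MonObj.comp_mul, Category.comp_id, GrpObj.comp_inv, ← Category.assoc, toUnit_unique (_ ≫ toUnit _) (toUnit _)]
    group
  inv_hom_id := by
    rw [MonObj.comp_mul, Category.comp_id, ← Category.assoc, toUnit_unique (_ ≫ toUnit _) (toUnit _)]
    group

lemma comp_transl (n : 𝟙_ (Over S) ⟶ G) {X : Over S} (x : X ⟶ G) : x ≫ (transl n).hom = (toUnit _ ≫ n) * x := by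
  change x ≫ ((toUnit _ ≫ n) * 𝟙 G) = _
  rw [MonObj.comp_mul, Category.comp_id, ← Category.assoc, toUnit_unique (_ ≫ toUnit _) (toUnit _)]

open Groth.Agent.RedSub PartCell in
/-- **Bruhat cells.** -/
theorem main (b : D.P.Base) {n m : ℕ} (eneg : Fin n → D.idx) (epos : Fin m → D.idx)
    (hneg : _root_.RedSub.Enumerates (_root_.RedSub.negRoots D.P b) eneg)
    (hpos : _root_.RedSub.Enumerates (_root_.RedSub.posRoots D.P b) epos)
    (nr : D.idx → (𝟙_ (Over S) ⟶ G)) (hnr : _root_.RedSub.RealisesReflections D nr) (l : List D.idx) {k : ℕ}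
    (e : Fin k → D.idx)
    (he : _root_.RedSub.Enumerates (_root_.RedSub.negMeetNeg D.P b (_root_.RedSub.wordPerm D.P l)) e) :
    IsImmersion (_root_.RedSub.bruhatMap D nr l e epos).left ∧
      ∃ C : Set ↥G.left, IsClosed C ∧
        Set.range (_root_.RedSub.bruhatMap D nr l e epos).left.base =
          Set.range ((toUnit _ ≫ (l.map nr).prod) * _root_.RedSub.cellMap D eneg epos).left.base ∩ C := by
  obtain ⟨v, hv⟩ := bruhatMap_eq D hnr l e epos
  set e₀ : Fin k → D.idx := fun j => (_root_.RedSub.wordPerm D.P l).symm (e j) with he₀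
  have hinj : Function.Injective e₀ := fun i j hij => he.1 ((_root_.RedSub.wordPerm D.P l).symm.injective hij)
  have hmem : ∀ j, e₀ j ∈ _root_.RedSub.negRoots D.P b := fun j => (he.2.subset ⟨j, rfl⟩).2
  obtain ⟨p, eneg', h1⟩ := exists_append (_root_.RedSub.negRoots D.P b) e₀ hinj hmem
  obtain ⟨q, epos', h2⟩ := exists_append (_root_.RedSub.posRoots D.P b) epos hpos.1 fun k => hpos.2.subset ⟨k, rfl⟩
  have h3 := (Groth.Agent.S3951.result D b _ _ h1 h2).1
  have hG := D.reductive.1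
  have hsep : IsSeparated (_root_.RedSub.pow (Red.Ga S) (k + p) ⊗
      (D.T ⊗ _root_.RedSub.pow (Red.Ga S) (m + q))).hom := by
    rw [← Over.w (_root_.RedSub.cellMap D (Fin.append e₀ eneg') (Fin.append epos epos'))]
    infer_instance
  have h4 : IsClosedImmersion (extC D k m p q).left := by
    have h5 : (extC D k m p q).left ≫ (retC D k m p q).left = 𝟙 _ := by
      rw [← Over.comp_left, extC_retC]
      rfl
    have h6 : IsSeparated (retC D k m p q).left := by
      have h7 : IsSeparated ((retC D k m p q).left ≫ (_root_.RedSub.pow (Red.Ga S) k ⊗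
          (D.T ⊗ _root_.RedSub.pow (Red.Ga S) m)).hom) := by
        rw [Over.w]
        exact hsep
      exact IsSeparated.of_comp _ (_root_.RedSub.pow (Red.Ga S) k ⊗
          (D.T ⊗ _root_.RedSub.pow (Red.Ga S) m)).hom
    have h8 : IsClosedImmersion ((extC D k m p q).left ≫ (retC D k m p q).left) := by
      rw [h5]
      infer_instance
    exact IsClosedImmersion.of_comp (extC D k m p q).left (retC D k m p q).left
  set nl := (l.map nr).prod with hnl
  have h9 : _root_.RedSub.bruhatMap D nr l e epos = ((v ⊗ᵢ Iso.refl _).hom ≫ extC D k m p q) ≫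
      _root_.RedSub.cellMap D (Fin.append e₀ eneg') (Fin.append epos epos') ≫ (transl nl).hom := by
    rw [hv, ← comp_transl, Category.assoc, ← extC_cellMap D e₀ epos eneg' epos', Category.assoc]
  have h10 : IsClosedImmersion ((v ⊗ᵢ Iso.refl _).hom ≫ extC D k m p q).left := by
    rw [Over.comp_left]
    infer_instance
  have h11 : IsOpenImmersion (_root_.RedSub.cellMap D (Fin.append e₀ eneg') (Fin.append epos epos') ≫
      (transl nl).hom).left := by
    rw [Over.comp_left]
    infer_instance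
  set j := _root_.RedSub.cellMap D (Fin.append e₀ eneg') (Fin.append epos epos') ≫ (transl nl).hom with hj
  set cc := (v ⊗ᵢ Iso.refl _).hom ≫ extC D k m p q with hcc
  constructor
  · rw [h9, Over.comp_left]
    infer_instance
  · refine ⟨closure (Set.range (_root_.RedSub.bruhatMap D nr l e epos).left), isClosed_closure, ?_⟩
    have h12 : Set.range ((toUnit _ ≫ nl) * _root_.RedSub.cellMap D eneg epos).left.base = Set.range j.left := by
      rw [← comp_transl, hj, Over.comp_left, Over.comp_left]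
      have h13 := Groth.Agent.RedSub.H633.CellOpenImm.range_cellMap_eq_base b h1 h2 hneg hpos
      rw [Scheme.Hom.comp_base, Scheme.Hom.comp_base]
      change Set.range ((transl nl).hom.left ∘ (_root_.RedSub.cellMap D eneg epos).left) =
        Set.range ((transl nl).hom.left ∘ (_root_.RedSub.cellMap D (Fin.append e₀ eneg') (Fin.append epos epos')).left)
      rw [Set.range_comp, Set.range_comp, h13]
    have h14 : Set.range (_root_.RedSub.bruhatMap D nr l e epos).left = j.left '' Set.range cc.left := by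
      rw [h9, Over.comp_left, ← Set.range_comp]
      rfl
    have h15 : IsClosed (Set.range cc.left) := cc.left.isClosedEmbedding.isClosed_range
    have h16 := j.left.isOpenEmbedding.isInducing.closure_eq_preimage_closure_image (Set.range cc.left)
    rw [h15.closure_eq] at h16
    refine Eq.trans ?_ (congrArg (fun z => z ∩ closure (Set.range (_root_.RedSub.bruhatMap D nr l e epos).left)) h12.symm)
    dsimp only
    rw [h14]
    conv_lhs => rw [h16]
    rw [Set.image_preimage_eq_inter_range, Set.inter_comm]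

end K195.Bruhat
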