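import Groth.Agent.RedSub.K208.EtGlueGrp
import Groth.Agent.FlatA.EtaleSections
import Groth.Agent.Picfga.FiniteDescent
import Groth.Agent.FlatMor.K258.GeomFib
import Groth.Agent.Sga3B.TorusEtSplit
import Groth.Agent.RedSub.K979.ClosedFib
import Groth.Agent.Models.K379.ProjDesc

/-!
# Étale descent of a smooth surjective morphism `M ⟶ C` with given kernel

`Loc M`: an étale covering family `v j : V j ⟶ S` and smooth surjective morphisms `c j : M_(V j) ⟶ C j` which define the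
same relation on the points of `M`.  If the `V j` are affine and the `C j` are affine over `V j`, there is a scheme `C`
affine over `S` and `cl : M ⟶ C` which becomes `c j` over `V j` (`Loc.exists_glue`).
-/

set_option autoImplicit false
universe u

open CategoryTheory CategoryTheory.Limits MonoidalCategory CartesianMonoidalCategory MonObj GrpObj AlgebraicGeometry
  Opposite

namespace K195.ClsDesc

open Groth.Agent.RedSub.H654.PtBc K208.EtGlue
open Groth.Agent.Sga3B.RepDescent (IsEtSheaf exists_glue repBC of_etale_cover)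

variable {S : Scheme.{u}}

/-- Local data for the quotient of `M` by a relation. -/
structure Loc (M : Over S) where
  /-- index type -/
  J : Type u
  /-- the étale schemes -/
  V : J → Scheme.{u}
  /-- the étale maps -/
  v : ∀ j, V j ⟶ S
  /-- the local quotients -/
  C : ∀ j, Over (V j)
  /-- the local quotient maps -/
  c : ∀ j, (Over.pullback (v j)).obj M ⟶ C j
  sm : ∀ j, Smooth (c j).left
  surj : ∀ j, Surjective (c j).left
  ker : ∀ {i j : J} {T : Scheme.{u}} (b : T ⟶ V i) (b' : T ⟶ V j) (m₁ m₂ : T ⟶ M.left) (h₁ : m₁ ≫ M.hom = b ≫ v i)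
    (h₂ : m₂ ≫ M.hom = b ≫ v i) (h₁' : m₁ ≫ M.hom = b' ≫ v j) (h₂' : m₂ ≫ M.hom = b' ≫ v j),
    pullback.lift m₁ b h₁ ≫ (c i).left = pullback.lift m₂ b h₂ ≫ (c i).left →
      pullback.lift m₁ b' h₁' ≫ (c j).left = pullback.lift m₂ b' h₂' ≫ (c j).left

namespace Loc

variable {M : Over S} (D : Loc M)

/-- the local quotient map on points -/
noncomputable def cv (i : D.J) {T : Scheme.{u}} (b : T ⟶ D.V i) (m : T ⟶ M.left) (h : m ≫ M.hom = b ≫ D.v i) :
    T ⟶ (D.C i).left := pullback.lift m b h ≫ (D.c i).left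

lemma comp_cv (i : D.J) {T T' : Scheme.{u}} (r : T' ⟶ T) (b : T ⟶ D.V i) (m : T ⟶ M.left)
    (h : m ≫ M.hom = b ≫ D.v i) : r ≫ D.cv i b m h = D.cv i (r ≫ b) (r ≫ m)
      (by rw [Category.assoc, h, Category.assoc]) := by
  rw [cv, cv, ← Category.assoc]
  congr 1
  apply pullback.hom_ext
  · rw [Category.assoc, pullback.lift_fst, pullback.lift_fst]
  · rw [Category.assoc, pullback.lift_snd, pullback.lift_snd]

lemma cv_hom (i : D.J) {T : Scheme.{u}} (b : T ⟶ D.V i) (m : T ⟶ M.left) (h : m ≫ M.hom = b ≫ D.v i) :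
    D.cv i b m h ≫ (D.C i).hom = b := by
  rw [cv, Category.assoc, Over.w]
  exact pullback.lift_snd _ _ _

lemma cv_congr (i : D.J) {T : Scheme.{u}} {b b' : T ⟶ D.V i} {m m' : T ⟶ M.left} (hb : b = b') (hm : m = m')
    (h : m ≫ M.hom = b ≫ D.v i) (h' : m' ≫ M.hom = b' ≫ D.v i) : D.cv i b m h = D.cv i b' m' h' := by
  subst hb hm
  rfl

/-- points of the local quotient lift étale locally -/
lemma exists_lift (i : D.J) {R : Scheme.{u}} (x : R ⟶ (D.C i).left) (t : R) :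
    ∃ (R' : Scheme.{u}) (r : R' ⟶ R) (t' : R') (m : R' ⟶ M.left) (h : m ≫ M.hom = (r ≫ x ≫ (D.C i).hom) ≫ D.v i),
      Etale r ∧ r t' = t ∧ D.cv i (r ≫ x ≫ (D.C i).hom) m h = r ≫ x := by
  have := D.sm i
  have := D.surj i
  obtain ⟨R', r, t', hr, ht, s, hs⟩ := Groth.Agent.FlatA.EtaleSections.exists_section
    (pullback.fst x (D.c i).left) t ((pullback.fst x (D.c i).left).surjective t)
  have h1 : (s ≫ pullback.snd x (D.c i).left) ≫ (D.c i).left = r ≫ x := by
    rw [Category.assoc, ← pullback.condition, ← Category.assoc, hs]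
  have h2 : (s ≫ pullback.snd x (D.c i).left) ≫ pullback.snd M.hom (D.v i) = r ≫ x ≫ (D.C i).hom := by
    have h3 : (D.c i).left ≫ (D.C i).hom = pullback.snd M.hom (D.v i) := Over.w (D.c i)
    rw [← h3, ← Category.assoc, h1, Category.assoc]
  refine ⟨R', r, t', (s ≫ pullback.snd x (D.c i).left) ≫ pullback.fst M.hom (D.v i), ?_, hr, ht, ?_⟩
  · rw [Category.assoc, pullback.condition, ← Category.assoc, h2]
  · rw [cv, ← h1]
    congr 1
    apply pullback.hom_ext
    · rw [pullback.lift_fst]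
    · rw [pullback.lift_snd, h2]

/-- the relation between points of two local quotients: they come locally from the same point of `M` -/
def Rel {i j : D.J} {R : Scheme.{u}} (b : R ⟶ D.V i) (b' : R ⟶ D.V j) (x : R ⟶ (D.C i).left) (y : R ⟶ (D.C j).left) :
    Prop :=
  ∀ (R' : Scheme.{u}) (r : R' ⟶ R) (m : R' ⟶ M.left) (h : m ≫ M.hom = (r ≫ b) ≫ D.v i)
    (h' : m ≫ M.hom = (r ≫ b') ≫ D.v j), D.cv i (r ≫ b) m h = r ≫ x → D.cv j (r ≫ b') m h' = r ≫ y

lemma Rel.comp {i j : D.J} {R R' : Scheme.{u}} {b : R ⟶ D.V i} {b' : R ⟶ D.V j} {x : R ⟶ (D.C i).left}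
    {y : R ⟶ (D.C j).left} (h : D.Rel b b' x y) (r : R' ⟶ R) : D.Rel (r ≫ b) (r ≫ b') (r ≫ x) (r ≫ y) := by
  intro R'' s m h₁ h₂ hm
  have h1 := h R'' (s ≫ r) m (by rw [h₁]; simp only [Category.assoc]) (by rw [h₂]; simp only [Category.assoc])
    ((D.cv_congr i (by simp only [Category.assoc]) rfl _ _).trans (hm.trans (Category.assoc _ _ _).symm))
  exact (D.cv_congr j (by simp only [Category.assoc]) rfl _ _).trans (h1.trans (Category.assoc _ _ _))

lemma Rel.unique {i j : D.J} {R : Scheme.{u}} {b : R ⟶ D.V i} {b' : R ⟶ D.V j} (hb : b ≫ D.v i = b' ≫ D.v j)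
    {x : R ⟶ (D.C i).left} (hx : x ≫ (D.C i).hom = b) {y y' : R ⟶ (D.C j).left} (h : D.Rel b b' x y)
    (h' : D.Rel b b' x y') : y = y' := by
  choose R' r t' m hm hr ht hc using D.exists_lift i x
  obtain ⟨z, -, hz⟩ := exists_glue R' r hr (fun t => ⟨t, t' t, ht t⟩) (fun t => r t ≫ y) (by
    intro a b T p q hpq
    rw [← Category.assoc, ← Category.assoc, hpq])
  have e1 : ∀ t, m t ≫ M.hom = (r t ≫ b) ≫ D.v i := fun t => by rw [hm t, hx]
  have e2 : ∀ t, m t ≫ M.hom = (r t ≫ b') ≫ D.v j := fun t => by rw [e1 t, Category.assoc, hb, Category.assoc]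
  have e3 : ∀ t, D.cv i (r t ≫ b) (m t) (e1 t) = r t ≫ x := fun t =>
    (D.cv_congr i (by rw [hx]) rfl _ _).trans (hc t)
  rw [hz y fun t => rfl, hz y' fun t => by
    have h1 := h _ (r t) (m t) (e1 t) (e2 t) (e3 t)
    have h2 := h' _ (r t) (m t) (e1 t) (e2 t) (e3 t)
    rw [← h2, h1]]

lemma exists_rel {i j : D.J} {R : Scheme.{u}} {b : R ⟶ D.V i} {b' : R ⟶ D.V j} (hb : b ≫ D.v i = b' ≫ D.v j)
    {x : R ⟶ (D.C i).left} (hx : x ≫ (D.C i).hom = b) : ∃ y : R ⟶ (D.C j).left, y ≫ (D.C j).hom = b' ∧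
      D.Rel b b' x y := by
  choose R' r t' m hm hr ht hc using D.exists_lift i x
  have e1 : ∀ t, m t ≫ M.hom = (r t ≫ b) ≫ D.v i := fun t => by rw [hm t, hx]
  have e2 : ∀ t, m t ≫ M.hom = (r t ≫ b') ≫ D.v j := fun t => by rw [e1 t, Category.assoc, hb, Category.assoc]
  have e3 : ∀ t, D.cv i (r t ≫ b) (m t) (e1 t) = r t ≫ x := fun t =>
    (D.cv_congr i (by rw [hx]) rfl _ _).trans (hc t)
  obtain ⟨y, hy, -⟩ := exists_glue R' r hr (fun t => ⟨t, t' t, ht t⟩) (fun t => D.cv j (r t ≫ b') (m t) (e2 t)) (by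
    intro t₁ t₂ T p q hpq
    rw [D.comp_cv, D.comp_cv]
    have h1 : D.cv i (p ≫ r t₁ ≫ b) (p ≫ m t₁) (by rw [Category.assoc, e1, ← Category.assoc]) =
        D.cv i (p ≫ r t₁ ≫ b) (q ≫ m t₂) (by
          rw [Category.assoc, e1, ← Category.assoc, ← Category.assoc, ← Category.assoc, ← hpq]) := by
      refine (D.comp_cv i p _ _ (e1 t₁)).symm.trans ?_
      rw [e3 t₁]
      refine Eq.trans ?_ (D.cv_congr i (b := q ≫ r t₂ ≫ b) (by rw [← Category.assoc, ← hpq, Category.assoc]) rfl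
        (by rw [Category.assoc, e1, ← Category.assoc]) _)
      refine Eq.trans ?_ (D.comp_cv i q _ _ (e1 t₂))
      rw [e3 t₂, ← Category.assoc, hpq, Category.assoc]
    have h2 := D.ker (p ≫ r t₁ ≫ b) (p ≫ r t₁ ≫ b') (p ≫ m t₁) (q ≫ m t₂) _ _
      (by rw [Category.assoc, e2, ← Category.assoc])
      (by rw [Category.assoc, e2, ← Category.assoc, ← Category.assoc, ← Category.assoc, ← hpq]) h1
    refine h2.trans ?_
    exact D.cv_congr j (by rw [← Category.assoc, hpq, Category.assoc]) rfl _ _)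
  have hyb : y ≫ (D.C j).hom = b' := by
    obtain ⟨z, -, hz⟩ := exists_glue R' r hr (fun t => ⟨t, t' t, ht t⟩) (fun t => r t ≫ b') (by
      intro a b T p q hpq
      rw [← Category.assoc, ← Category.assoc, hpq])
    rw [hz b' fun t => rfl, hz (y ≫ (D.C j).hom) fun t => by rw [← Category.assoc, hy t, D.cv_hom]]
  refine ⟨y, hyb, ?_⟩
  intro R₁ s n h₁ h₂ hn
  -- compare on the étale cover `R₁ ×_R R' t`
  let T : R → Scheme.{u} := fun t => pullback s (r t)
  let p : ∀ t, T t ⟶ R₁ := fun t => pullback.fst s (r t)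
  let q : ∀ t, T t ⟶ R' t := fun t => pullback.snd s (r t)
  have hpq : ∀ t, p t ≫ s = q t ≫ r t := fun t => pullback.condition
  have hcov : ∀ z : R₁, ∃ (t : R) (w : T t), p t w = z := fun z => by
    obtain ⟨w, hw, -⟩ := Scheme.Pullback.exists_preimage_pullback (f := s) (g := r (s z)) z (t' (s z)) (ht (s z)).symm
    exact ⟨s z, w, hw⟩
  have hpe : ∀ t, Etale (p t) := fun t => by
    have := hr t
    exact MorphismProperty.pullback_fst _ _ inferInstance
  obtain ⟨z, -, hz⟩ := exists_glue T p hpe hcov (fun t => p t ≫ s ≫ y) (by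
      intro a b T p q hpq
      rw [← Category.assoc, hpq, Category.assoc])
  rw [hz (s ≫ y) fun t => rfl]
  refine hz _ fun t => ?_
  rw [D.comp_cv]
  have h1 : D.cv i (p t ≫ s ≫ b) (p t ≫ n) (by rw [Category.assoc, h₁, ← Category.assoc]) =
      D.cv i (p t ≫ s ≫ b) (q t ≫ m t) (by
        rw [Category.assoc, e1, ← Category.assoc, ← Category.assoc, ← Category.assoc, ← hpq]) := by
    refine (D.comp_cv i (p t) _ _ h₁).symm.trans ?_
    rw [hn]
    refine Eq.trans ?_ (D.cv_congr i (b := q t ≫ r t ≫ b) (by rw [← Category.assoc, ← hpq, Category.assoc]) rfl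
      (by rw [Category.assoc, e1, ← Category.assoc]) _)
    refine Eq.trans ?_ (D.comp_cv i (q t) _ _ (e1 t))
    rw [e3 t, ← Category.assoc, hpq, Category.assoc]
  have h2 := D.ker (p t ≫ s ≫ b) (p t ≫ s ≫ b') (p t ≫ n) (q t ≫ m t) _ _
    (by rw [Category.assoc, h₂, ← Category.assoc])
    (by rw [Category.assoc, e2, ← Category.assoc, ← Category.assoc, ← Category.assoc, ← hpq]) h1
  refine h2.trans ?_
  refine (D.cv_congr j (b' := q t ≫ r t ≫ b') (by rw [← Category.assoc, hpq, Category.assoc]) rfl _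
    (by rw [Category.assoc, e2, ← Category.assoc])).trans ?_
  refine (D.comp_cv j (q t) _ _ (e2 t)).symm.trans ?_
  rw [← hy t, ← Category.assoc, ← Category.assoc, ← hpq]

/-- the transition map -/
noncomputable def φ {i j : D.J} {R : Scheme.{u}} (b : R ⟶ D.V i) (b' : R ⟶ D.V j) (hb : b ≫ D.v i = b' ≫ D.v j)
    (x : Over.mk b ⟶ D.C i) : Over.mk b' ⟶ D.C j :=
  Over.homMk (D.exists_rel hb (x := x.left) (Over.w x)).choose (D.exists_rel hb (x := x.left) (Over.w x)).choose_spec.1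

lemma rel_φ {i j : D.J} {R : Scheme.{u}} (b : R ⟶ D.V i) (b' : R ⟶ D.V j) (hb : b ≫ D.v i = b' ≫ D.v j)
    (x : Over.mk b ⟶ D.C i) : D.Rel b b' x.left (D.φ b b' hb x).left :=
  (D.exists_rel hb (x := x.left) (Over.w x)).choose_spec.2

lemma φ_eq_of_rel {i j : D.J} {R : Scheme.{u}} (b : R ⟶ D.V i) (b' : R ⟶ D.V j) (hb : b ≫ D.v i = b' ≫ D.v j)
    (x : Over.mk b ⟶ D.C i) (y : Over.mk b' ⟶ D.C j) (h : D.Rel b b' x.left y.left) : D.φ b b' hb x = y := by
  ext
  exact Rel.unique D hb (Over.w x) (D.rel_φ b b' hb x) h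

/-- the gluing datum -/
noncomputable def dat : Dat S where
  J := D.J
  V := D.V
  v := D.v
  E := D.C
  φ := D.φ
  φ_nat r b c h h' x := D.φ_eq_of_rel _ _ _ _ _ ((D.rel_φ b c h x).comp D r)
  φ_self b x := D.φ_eq_of_rel _ _ _ _ _ (fun R' r m h h' hm => hm)
  φ_comp {i j k} R b c d h h' x := by
    refine (D.φ_eq_of_rel _ _ _ _ _ ?_).symm
    intro R' r m h₁ h₂ hm
    have e : m ≫ M.hom = (r ≫ c) ≫ D.v j := by
      rw [h₁, Category.assoc, h, ← Category.assoc]
    exact D.rel_φ c d h' _ R' r m e h₂ (D.rel_φ b c h x R' r m h₁ e hm)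

lemma φ_c {i j : D.J} {R : Scheme.{u}} (b : R ⟶ D.V i) (c : R ⟶ D.V j) (h : b ≫ D.v i = c ≫ D.v j)
    (x : Over.mk b ⟶ (Over.pullback (D.v i)).obj M) (y : Over.mk c ⟶ (Over.pullback (D.v j)).obj M)
    (hxy : x.left ≫ pullback.fst M.hom (D.v i) = y.left ≫ pullback.fst M.hom (D.v j)) :
    D.φ b c h (x ≫ D.c i) = y ≫ D.c j := by
  refine D.φ_eq_of_rel b c h (x ≫ D.c i) (y ≫ D.c j) ?_
  intro R' r m h₁ h₂ hm
  have hx : x.left ≫ pullback.snd M.hom (D.v i) = b := Over.w x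
  have hy : y.left ≫ pullback.snd M.hom (D.v j) = c := Over.w y
  have e1 : (r ≫ x.left ≫ pullback.fst M.hom (D.v i)) ≫ M.hom = (r ≫ b) ≫ D.v i := by
    simp only [Category.assoc]
    rw [pullback.condition, reassoc_of% hx]
  have e2 : (r ≫ x.left ≫ pullback.fst M.hom (D.v i)) ≫ M.hom = (r ≫ c) ≫ D.v j := by
    rw [hxy]
    simp only [Category.assoc]
    rw [pullback.condition, reassoc_of% hy]
  have e3 : (r ≫ y.left ≫ pullback.fst M.hom (D.v j)) ≫ M.hom = (r ≫ c) ≫ D.v j := by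
    rw [← hxy, e2]
  have h3 : D.cv i (r ≫ b) m h₁ = D.cv i (r ≫ b) (r ≫ x.left ≫ pullback.fst M.hom (D.v i)) e1 := by
    rw [hm, cv]
    change r ≫ x.left ≫ (D.c i).left = _
    rw [← Category.assoc]
    congr 1
    apply pullback.hom_ext
    · rw [pullback.lift_fst, Category.assoc]
    · rw [pullback.lift_snd, Category.assoc, hx]
  refine (D.ker (r ≫ b) (r ≫ c) _ _ h₁ e1 h₂ e2 h3).trans ?_
  refine (D.cv_congr j rfl (by rw [hxy]) e2 e3).trans ?_
  have h5 : pullback.lift (r ≫ y.left ≫ pullback.fst M.hom (D.v j)) (r ≫ c) e3 = r ≫ y.left := by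
    apply pullback.hom_ext
    · rw [pullback.lift_fst, Category.assoc]
    · rw [pullback.lift_snd, Category.assoc, hy]
  change D.cv j (r ≫ c) _ e3 = r ≫ y.left ≫ (D.c j).left
  rw [cv, h5, Category.assoc]

lemma compatHom : D.dat.CompatHom (T := M) D.c := fun _ _ _ b c h x y hxy => D.φ_c b c h x y hxy

/-- **Gluing of the local quotients.** -/
theorem exists_glue (he : ∀ j, Etale (D.v j)) (hcov : ∀ s : S, ∃ j, s ∈ Set.range (D.v j))
    (hV : ∀ j, IsAffine (D.V j)) (hC : ∀ j, IsAffineHom (D.C j).hom) :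
    ∃ (A : Over S) (cl : M ⟶ A) (e : ∀ j, (Over.pullback (D.v j)).obj A ≅ D.C j),
      ∀ j, (Over.pullback (D.v j)).map cl ≫ (e j).hom = D.c j := by
  obtain ⟨A, ⟨r⟩⟩ := D.dat.exists_rep he hcov hV hC
  obtain ⟨cl, hcl⟩ := Dat.exists_hom r D.c D.compatHom
  exact ⟨A, cl, fun j => Dat.loc r j, hcl⟩

end Loc

instance : IsZariskiLocalAtTarget @GeometricallyConnected.{u} := by
  rw [GeometricallyConnected.eq_geometrically]
  infer_instance

instance : MorphismProperty.DescendsAlong @GeometricallyConnected.{u} (@Surjective ⊓ @Flat ⊓ @QuasiCompact) where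
  of_isPullback h hf hg := by
    have : Surjective _ := hf.1.1
    exact K258.GeomFib.conn_of_isPullback h.flip hg

namespace Loc

variable {M : Over S} (D : Loc M) {A : Over S} {cl : M ⟶ A}

/-- descent of properties of the structure morphism -/
lemma prop_hom (P : MorphismProperty Scheme.{u}) [IsZariskiLocalAtTarget P]
    [P.IsStableUnderBaseChange] [P.DescendsAlong (@Surjective ⊓ @Flat ⊓ @QuasiCompact)] (he : ∀ j, Etale (D.v j))
    (hcov : ∀ s : S, ∃ j, s ∈ Set.range (D.v j)) (e : ∀ j, (Over.pullback (D.v j)).obj A ≅ D.C j)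
    (h : ∀ j, P (D.C j).hom) : P A.hom := by
  refine of_etale_cover A.hom fun s => ?_
  obtain ⟨j, hj⟩ := hcov s
  refine ⟨D.V j, D.v j, he j, hj, ?_⟩
  have h1 : IsIso (e j).hom.left := (Over.forget _).map_isIso (e j).hom
  have h2 : (e j).hom.left ≫ (D.C j).hom = pullback.snd A.hom (D.v j) := Over.w (e j).hom
  rw [← h2]
  exact (MorphismProperty.cancel_left_of_respectsIso P _ _).2 (h j)

/-- descent of properties of the quotient map -/
lemma prop_cl (P : MorphismProperty Scheme.{u}) [IsZariskiLocalAtTarget P]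
    [P.IsStableUnderBaseChange] [P.DescendsAlong (@Surjective ⊓ @Flat ⊓ @QuasiCompact)] (he : ∀ j, Etale (D.v j))
    (hcov : ∀ s : S, ∃ j, s ∈ Set.range (D.v j)) (e : ∀ j, (Over.pullback (D.v j)).obj A ≅ D.C j)
    (hcl : ∀ j, (Over.pullback (D.v j)).map cl ≫ (e j).hom = D.c j) (h : ∀ j, P (D.c j).left) : P cl.left := by
  refine of_etale_cover cl.left fun a => ?_
  obtain ⟨j, z, hz⟩ := hcov (A.hom a)
  have := he j
  refine ⟨pullback A.hom (D.v j), pullback.fst A.hom (D.v j), inferInstance, ?_, ?_⟩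
  · obtain ⟨w, hw, -⟩ := Scheme.Pullback.exists_preimage_pullback (f := A.hom) (g := D.v j) a z hz.symm
    exact ⟨w, hw⟩
  · have h1 : IsIso (e j).inv.left := (Over.forget _).map_isIso (e j).inv
    have h2 : ((Over.pullback (D.v j)).map cl).left = (D.c j).left ≫ (e j).inv.left := by
      rw [← Over.comp_left, ← hcl j, Category.assoc, Iso.hom_inv_id, Category.comp_id]
    have h3 : P ((Over.pullback (D.v j)).map cl).left := by
      rw [h2]
      exact (MorphismProperty.cancel_right_of_respectsIso P _ _).2 (h j)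
    have h4 := Groth.Agent.Sga3B.TorusEtSplit.isPullback_map (D.v j) cl
    have h5 : IsPullback (pullback.fst cl.left (pullback.fst A.hom (D.v j)))
        (pullback.snd cl.left (pullback.fst A.hom (D.v j))) cl.left (pullback.fst A.hom (D.v j)) :=
      IsPullback.of_hasPullback _ _
    have h6 := IsPullback.isoIsPullback_hom_snd _ _ h5 h4
    rw [← h6]
    exact (MorphismProperty.cancel_left_of_respectsIso P _ _).2 h3

/-- the kernel of the quotient map -/
lemma cl_eq_iff (he : ∀ j, Etale (D.v j))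
    (hcov : ∀ s : S, ∃ j, s ∈ Set.range (D.v j)) (e : ∀ j, (Over.pullback (D.v j)).obj A ≅ D.C j)
    (hcl : ∀ j, (Over.pullback (D.v j)).map cl ≫ (e j).hom = D.c j) {T : Scheme.{u}} (g₁ g₂ : T ⟶ M.left)
    (hg : g₁ ≫ M.hom = g₂ ≫ M.hom) : g₁ ≫ cl.left = g₂ ≫ cl.left ↔
      ∀ (j : D.J) (T' : Scheme.{u}) (a : T' ⟶ T) (b : T' ⟶ D.V j) (h₁ : (a ≫ g₁) ≫ M.hom = b ≫ D.v j)
        (h₂ : (a ≫ g₂) ≫ M.hom = b ≫ D.v j), D.cv j b (a ≫ g₁) h₁ = D.cv j b (a ≫ g₂) h₂ := by
  have key : ∀ (j : D.J) (T' : Scheme.{u}) (b : T' ⟶ D.V j) (m₁ m₂ : T' ⟶ M.left) (h₁ : m₁ ≫ M.hom = b ≫ D.v j)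
      (h₂ : m₂ ≫ M.hom = b ≫ D.v j), D.cv j b m₁ h₁ = D.cv j b m₂ h₂ ↔ m₁ ≫ cl.left = m₂ ≫ cl.left := by
    intro j T' b m₁ m₂ h₁ h₂
    have h3 : ∀ (m : T' ⟶ M.left) (h : m ≫ M.hom = b ≫ D.v j), D.cv j b m h =
        pullback.lift (m ≫ cl.left) b (by rw [Category.assoc, Over.w, h]) ≫ (e j).hom.left := by
      intro m h
      rw [cv, ← hcl j, Over.comp_left, ← Category.assoc]
      congr 1
      apply pullback.hom_ext
      · rw [Category.assoc, pullback.lift_fst]
        have h4 : ((Over.pullback (D.v j)).map cl).left ≫ pullback.fst A.hom (D.v j) =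
          pullback.fst M.hom (D.v j) ≫ cl.left := pullback.lift_fst _ _ _
        rw [h4, pullback.lift_fst_assoc]
      · rw [Category.assoc, pullback.lift_snd]
        have h4 : ((Over.pullback (D.v j)).map cl).left ≫ pullback.snd A.hom (D.v j) =
          pullback.snd M.hom (D.v j) := pullback.lift_snd _ _ _
        rw [h4, pullback.lift_snd]
    have h5 : IsIso (e j).hom.left := (Over.forget _).map_isIso (e j).hom
    rw [h3, h3, cancel_mono]
    constructor
    · intro h6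
      have h7 := congrArg (· ≫ pullback.fst A.hom (D.v j)) h6
      simpa only [pullback.lift_fst] using h7
    · intro h6
      apply pullback.hom_ext
      · rw [pullback.lift_fst, pullback.lift_fst, h6]
      · rw [pullback.lift_snd, pullback.lift_snd]
  constructor
  · intro h j T' a b h₁ h₂
    rw [key, Category.assoc, Category.assoc, h]
  · intro h
    -- the étale cover `T × V j` of `T`
    let T' : T → Scheme.{u} := fun t => pullback (g₁ ≫ M.hom) (D.v (hcov ((g₁ ≫ M.hom) t)).choose)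
    let p : ∀ t, T' t ⟶ T := fun t => pullback.fst _ _
    have hpe : ∀ t, Etale (p t) := fun t => by
      have := he (hcov ((g₁ ≫ M.hom) t)).choose
      exact MorphismProperty.pullback_fst _ _ inferInstance
    have hpc : ∀ z : T, ∃ (t : T) (w : T' t), p t w = z := fun z => by
      obtain ⟨x, hx⟩ := (hcov ((g₁ ≫ M.hom) z)).choose_spec
      obtain ⟨w, hw, -⟩ := Scheme.Pullback.exists_preimage_pullback (f := g₁ ≫ M.hom)
        (g := D.v (hcov ((g₁ ≫ M.hom) z)).choose) z x hx.symm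
      exact ⟨z, w, hw⟩
    obtain ⟨z, -, hz⟩ := Groth.Agent.Sga3B.RepDescent.exists_glue T' p hpe hpc (fun t => p t ≫ g₁ ≫ cl.left) (by
      intro a b T p q hpq
      rw [← Category.assoc, hpq, Category.assoc])
    rw [hz (g₁ ≫ cl.left) fun t => rfl]
    refine (hz _ fun t => ?_).symm
    have h1 := h _ (T' t) (p t) (pullback.snd _ _) ((Category.assoc _ _ _).trans pullback.condition)
      ((Category.assoc _ _ _).trans ((congrArg (p t ≫ ·) hg.symm).trans pullback.condition))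
    rw [key, Category.assoc, Category.assoc] at h1
    exact h1.symm


end Loc

/-- a morphism `M ⟶ A` of `S`-schemes is locally quasi-projective if `M` is so over `S` -/
theorem isLQP_cl {M A : Over S} (cl : M ⟶ A) (h : RedSub.IsLocallyQuasiProjective M) :
    RedSub.IsLocallyQuasiProjective (Over.mk cl.left) := by
  intro a
  obtain ⟨V, hV, n, e, he, hev⟩ := h (A.hom a)
  let φ : ((A.hom ⁻¹ᵁ V : A.left.Opens) : Scheme.{u}) ⟶ (V : Scheme.{u}) := A.hom ∣_ V
  have h1 : IsPullback φ (A.hom ⁻¹ᵁ V).ι V.ι A.hom := isPullback_morphismRestrict A.hom V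
  have h2 : IsPullback (pullback.fst cl.left (A.hom ⁻¹ᵁ V).ι) (pullback.snd cl.left (A.hom ⁻¹ᵁ V).ι) cl.left
      (A.hom ⁻¹ᵁ V).ι := IsPullback.of_hasPullback _ _
  have h3 : IsPullback (pullback.fst cl.left (A.hom ⁻¹ᵁ V).ι) (pullback.snd cl.left (A.hom ⁻¹ᵁ V).ι ≫ φ)
      (cl.left ≫ A.hom) V.ι := h2.paste_vert h1.flip
  rw [Over.w cl] at h3
  have h4 : IsPullback (pullback.fst M.hom V.ι) (pullback.snd M.hom V.ι) M.hom V.ι := IsPullback.of_hasPullback _ _
  let α := h3.isoIsPullback _ _ h4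
  have hα : α.hom ≫ pullback.snd M.hom V.ι = pullback.snd cl.left (A.hom ⁻¹ᵁ V).ι ≫ φ :=
    IsPullback.isoIsPullback_hom_snd _ _ h3 h4
  have hP := K379.ProjDesc.isPullback_projMap (n := n) φ
  have hw : (α.hom ≫ e) ≫ CohB1.ProjSpaceOver.toBase n (V : Scheme.{u}) =
      pullback.snd cl.left (A.hom ⁻¹ᵁ V).ι ≫ φ := by
    rw [Category.assoc, hev]
    exact hα
  refine ⟨A.hom ⁻¹ᵁ V, hV, n, hP.lift (α.hom ≫ e) (pullback.snd cl.left (A.hom ⁻¹ᵁ V).ι) hw, ?_, ?_⟩
  · have h5 : IsImmersion (hP.lift (α.hom ≫ e) (pullback.snd cl.left (A.hom ⁻¹ᵁ V).ι) hw ≫ FGA.projMap n φ) := by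
      rw [hP.lift_fst]
      infer_instance
    exact IsImmersion.of_comp _ (FGA.projMap n φ)
  · exact hP.lift_snd _ _ _

/-- A finite étale quotient of `M` by the relation `P`, étale locally at `s`. -/
structure Piece (M : Over S) (P : ∀ ⦃T : Scheme.{u}⦄, (T ⟶ M.left) → (T ⟶ M.left) → Prop) (s : S) where
  V : Scheme.{u}
  v : V ⟶ S
  isAffine : IsAffine V
  etale : Etale v
  mem : s ∈ Set.range v
  C : Over V
  c : (Over.pullback v).obj M ⟶ C
  finC : IsFinite C.hom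
  etC : Etale C.hom
  sm : Smooth c.left
  surj : Surjective c.left
  qc : QuasiCompact c.left
  gc : GeometricallyConnected c.left
  ker : ∀ {T : Scheme.{u}} (b : T ⟶ V) (m₁ m₂ : T ⟶ M.left) (h₁ : m₁ ≫ M.hom = b ≫ v) (h₂ : m₂ ≫ M.hom = b ≫ v),
    pullback.lift m₁ b h₁ ≫ c.left = pullback.lift m₂ b h₂ ≫ c.left ↔ P m₁ m₂

/-- **The finite étale quotient of `M` by a relation `P` which exists étale locally.** -/
theorem main {M : Over S} {P : ∀ ⦃T : Scheme.{u}⦄, (T ⟶ M.left) → (T ⟶ M.left) → Prop}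
    (hqp : RedSub.IsLocallyQuasiProjective M) (hp : ∀ s : S, Nonempty (Piece M P s))
    (hbc : ∀ {T T' : Scheme.{u}} (a : T' ⟶ T) (m₁ m₂ : T ⟶ M.left), m₁ ≫ M.hom = m₂ ≫ M.hom → P m₁ m₂ →
      P (a ≫ m₁) (a ≫ m₂))
    (hloc : ∀ {T : Scheme.{u}} (m₁ m₂ : T ⟶ M.left), m₁ ≫ M.hom = m₂ ≫ M.hom →
      (∀ t : T, ∃ (T' : Scheme.{u}) (a : T' ⟶ T), Etale a ∧ t ∈ Set.range a ∧ P (a ≫ m₁) (a ≫ m₂)) → P m₁ m₂) :
    ∃ (Cl : Over S) (cl : M ⟶ Cl), IsFinite Cl.hom ∧ Etale Cl.hom ∧ Smooth cl.left ∧ Surjective cl.left ∧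
      QuasiCompact cl.left ∧ LocallyOfFinitePresentation cl.left ∧ RedSub.IsLocallyQuasiProjective (Over.mk cl.left) ∧
      (∀ c : ↥Cl.left, ConnectedSpace ↥(Red.geomFibre c (Over.mk cl.left)).left) ∧
      ∀ {T : Scheme.{u}} (m₁ m₂ : T ⟶ M.left), m₁ ≫ M.hom = m₂ ≫ M.hom →
        (m₁ ≫ cl.left = m₂ ≫ cl.left ↔ P m₁ m₂) := by
  let p : ∀ s : S, Piece M P s := fun s => (hp s).some
  let D : Loc M :=
    { J := S
      V := fun s => (p s).V
      v := fun s => (p s).v
      C := fun s => (p s).C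
      c := fun s => (p s).c
      sm := fun s => (p s).sm
      surj := fun s => (p s).surj
      ker := fun {i j T} b b' m₁ m₂ h₁ h₂ h₁' h₂' h =>
        ((p j).ker b' m₁ m₂ h₁' h₂').2 (((p i).ker b m₁ m₂ h₁ h₂).1 h) }
  have he : ∀ j, Etale (D.v j) := fun s => (p s).etale
  have hcov : ∀ s : S, ∃ j, s ∈ Set.range (D.v j) := fun s => ⟨s, (p s).mem⟩
  obtain ⟨A, cl, e, hcl⟩ := D.exists_glue he hcov (fun s => (p s).isAffine) fun s => by
    have := (p s).finC
    exact (inferInstance : IsAffineHom (p s).C.hom)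
  have hsm : Smooth cl.left := D.prop_cl @Smooth he hcov e hcl fun s => (p s).sm
  have hgc : GeometricallyConnected cl.left := D.prop_cl @GeometricallyConnected he hcov e hcl fun s => (p s).gc
  refine ⟨A, cl, D.prop_hom @IsFinite he hcov e fun s => (p s).finC, D.prop_hom @Etale he hcov e fun s => (p s).etC,
    hsm, D.prop_cl @Surjective he hcov e hcl fun s => (p s).surj,
    D.prop_cl @QuasiCompact he hcov e hcl fun s => (p s).qc, inferInstance, isLQP_cl cl hqp,
    fun c => K979.ClosedSet.connected_geomFibre (U := Over.mk cl.left) hgc c, ?_⟩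
  intro T m₁ m₂ hm
  rw [D.cl_eq_iff he hcov e hcl m₁ m₂ hm]
  constructor
  · intro h
    refine hloc m₁ m₂ hm fun t => ?_
    obtain ⟨x, hx⟩ := (p (M.hom (m₁ t))).mem
    obtain ⟨w, hw, -⟩ := Scheme.Pullback.exists_preimage_pullback (f := m₁ ≫ M.hom)
      (g := (p (M.hom (m₁ t))).v) t x (by rw [hx]; rfl)
    have := (p (M.hom (m₁ t))).etale
    refine ⟨pullback (m₁ ≫ M.hom) (p (M.hom (m₁ t))).v, pullback.fst _ _, inferInstance, ⟨w, hw⟩, ?_⟩
    have h1 : (pullback.fst (m₁ ≫ M.hom) (p (M.hom (m₁ t))).v ≫ m₁) ≫ M.hom = pullback.snd _ _ ≫ (p (M.hom (m₁ t))).v :=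
      (Category.assoc _ _ _).trans pullback.condition
    have h2 : (pullback.fst (m₁ ≫ M.hom) (p (M.hom (m₁ t))).v ≫ m₂) ≫ M.hom = pullback.snd _ _ ≫ (p (M.hom (m₁ t))).v :=
      (Category.assoc _ _ _).trans ((congrArg (pullback.fst (m₁ ≫ M.hom) (p (M.hom (m₁ t))).v ≫ ·) hm.symm).trans
        pullback.condition)
    exact ((p (M.hom (m₁ t))).ker (pullback.snd _ _) _ _ h1 h2).1 (h (M.hom (m₁ t)) _ (pullback.fst _ _) _ h1 h2)
  · intro h j T' a b h₁ h₂
    exact ((p j).ker b _ _ h₁ h₂).2 (hbc a m₁ m₂ hm h)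

end K195.ClsDesc
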