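import Groth.Agent.Redsub.H673.LocConj
import Groth.Agent.RedSub.H652.CommonTorus
import Groth.Agent.RedSub.H645.ConjEqIff
import Groth.Agent.RedSub.H641.TypeRBc
import Groth.Agent.FlatA.EtaleSections
import Groth.Agent.Sga3B.RedBc892U

/-!
# A maximal torus and its conjugate by a point normalising `H` are conjugate in `H`, étale-locally (S5554)
-/

set_option autoImplicit false
set_option linter.unusedSectionVars false

universe u

open CategoryTheory MonoidalCategory CartesianMonoidalCategory MonObj GrpObj AlgebraicGeometry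

namespace K195.ConjTor

open Groth.Agent Groth.Agent.Sga3B Groth.Agent.Sga3B.Parab.ConjPt

variable {S : Scheme.{u}} {G H T : Over S} [GrpObj G] [GrpObj H] [GrpObj T]

/-- Étale-local conjugacy of `T` and `g⁻¹ T g` in `H`, for a point `g` with `g⁻¹ H g ⊆ H`. -/
theorem exists_etale (hG : Red.IsReductive G) (h : H ⟶ G) (hH : _root_.RedSub.IsTypeR h) (t : T ⟶ H) [IsMonHom t]
    (hT : Red.IsMaximalTorus (t ≫ h)) (X : Over S) (g : X ⟶ G)
    (hg : ∀ (X' : Over S) (x : X' ⟶ X) (y : X' ⟶ H), ∃ y' : X' ⟶ H, (x ≫ g)⁻¹ * (y ≫ h) * (x ≫ g) = y' ≫ h)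
    (p : X.left) :
    ∃ (Y : Scheme.{u}) (f : Y ⟶ X.left) (_ : Etale f), p ∈ Set.range f.base ∧
      ∃ y : Over.mk (f ≫ X.hom) ⟶ H, _root_.RedSub.ConjEq (t ≫ h) (t ≫ h) ((Over.homMk f ≫ g) * (y ≫ h)⁻¹) := by
  have h1 := hH.1.1
  have h2 := hH.1.2
  have h3 := hH.2.1
  have h4 := RedSub.H641.TypeRBc.geomIrr_of_conn hH.2.2.2.1
  have hmono : Mono h := Over.mono_of_mono_left h
  let q : X.left ⟶ S := X.hom
  let c : (Over.map q).obj (𝟙_ (Over X.left)) ⟶ X := Over.homMk (𝟙 X.left) (by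
    change 𝟙 _ ≫ X.hom = 𝟙 _ ≫ X.hom
    rfl)
  let σ : 𝟙_ (Over X.left) ⟶ Red.bc q G := DSPts.bcEquiv q _ G (c ≫ g)
  let tb : Red.bc q T ⟶ Red.bc q H := (Over.pullback q).map t
  let hb : Red.bc q H ⟶ Red.bc q G := (Over.pullback q).map h
  have htb : tb ≫ hb = (Over.pullback q).map (t ≫ h) := ((Over.pullback q).map_comp t h).symm
  have hGb := RedBc892U.isReductive_bc q hG
  have hTb : Red.IsMaximalTorus (tb ≫ hb) := by
    rw [htb]
    exact MaxTorBc636.isMaximalTorus_bc q hG hT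
  have hbm : IsMonHom hb := inferInstanceAs (IsMonHom ((Over.pullback q).map h))
  have htbm : IsMonHom tb := inferInstanceAs (IsMonHom ((Over.pullback q).map t))
  have hb1 : _root_.RedSub.IsSubgrp hb := RedSub.H641.TypeRBc.isSubgrp_bc q hH.1
  have hbi : IsImmersion hb.left := hb1.2
  have hbmono : Mono hb := Over.mono_of_mono_left hb
  -- the second torus
  obtain ⟨v₀, hv₀⟩ := hg _ ((Over.map q).map (toUnit (Red.bc q T)) ≫ c) ((DSPts.bcEquiv q _ H).symm tb)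
  let t' : Red.bc q T ⟶ Red.bc q H := DSPts.bcEquiv q _ H v₀
  have ht' : t' ≫ hb = Sga3B.RG.BrHc.conjHom σ⁻¹ (tb ≫ hb) := by
    have e1 : DSPts.bcEquiv q _ G (((Over.map q).map (toUnit (Red.bc q T)) ≫ c) ≫ g) = toUnit _ ≫ σ := by
      change _ = toUnit _ ≫ DSPts.bcEquiv q _ G (c ≫ g)
      rw [DSPts.bcEquiv_naturality, Category.assoc]
    have e2 : DSPts.bcEquiv q _ G ((DSPts.bcEquiv q _ H).symm tb ≫ h) = tb ≫ hb := by
      rw [← DSPts.bcEquiv_comp, MulEquiv.apply_symm_apply]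
    have e3 : t' ≫ hb = DSPts.bcEquiv q _ G (v₀ ≫ h) := DSPts.bcEquiv_comp q _ v₀ h
    rw [e3, ← hv₀, map_mul, map_mul, map_inv, e1, e2, Sga3B.RG.BrHc.conjHom, GrpObj.comp_inv, _root_.inv_inv]
  have hTb' : Red.IsMaximalTorus (t' ≫ hb) := by
    rw [ht']
    exact RedSub.H652.CommonTorus.isMaximalTorus_conjHom σ⁻¹ hTb
  have ht'm : IsMonHom t' := by
    have := hTb'.1
    apply Sga3B.Pts.isMonHom_of_points
    intro X x y
    rw [← cancel_mono hb, Category.assoc, MonObj.mul_comp x y (t' ≫ hb), MonObj.mul_comp, Category.assoc, Category.assoc]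
  have hyp : Redsub.H673.LocConj.Hyp₀ hb := ⟨hGb, hbm, hbi, inferInstanceAs (Smooth (Limits.pullback.snd _ _)),
    inferInstanceAs (GeometricallyIrreducible (Limits.pullback.snd _ _))⟩
  obtain ⟨Z, hZs, hZp, z, hz⟩ := Redsub.H673.LocConj.loc hyp tb t' hTb hTb' p
  -- `σ z` normalises the torus
  have hconj : _root_.RedSub.ConjEq ((Over.pullback q).map (t ≫ h)) ((Over.pullback q).map (t ≫ h))
      ((toUnit Z ≫ σ) * (z ≫ hb)) := by
    rw [← htb]
    intro W w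
    have e0 : w ≫ toUnit Z ≫ σ = toUnit W ≫ σ := by
      rw [← Category.assoc, toUnit_unique (w ≫ toUnit Z) (toUnit W)]
    have e4 : ∀ τ : W ⟶ Red.bc q T, τ ≫ t' ≫ hb = (toUnit W ≫ σ)⁻¹ * (τ ≫ tb ≫ hb) * (toUnit W ≫ σ) := by
      intro τ
      rw [ht', Sga3B.RG.BrHc.comp_conjHom, GrpObj.comp_inv, _root_.inv_inv]
    constructor
    · intro τ
      obtain ⟨τ', hτ'⟩ := (hz W w).1 τ
      refine ⟨τ', ?_⟩
      have e5 := congrArg (fun k => k ≫ hb) hτ'
      simp only [MonObj.mul_comp, GrpObj.inv_comp, Category.assoc] at e5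
      rw [e4] at e5
      rw [MonObj.comp_mul, e0, _root_.mul_inv_rev]
      calc (toUnit W ≫ σ) * (w ≫ z ≫ hb) * (τ ≫ tb ≫ hb) * ((w ≫ z ≫ hb)⁻¹ * (toUnit W ≫ σ)⁻¹)
          = (toUnit W ≫ σ) * ((w ≫ z ≫ hb) * (τ ≫ tb ≫ hb) * (w ≫ z ≫ hb)⁻¹) * (toUnit W ≫ σ)⁻¹ := by group
        _ = τ' ≫ tb ≫ hb := by rw [e5]; group
    · intro τ'
      obtain ⟨τ, hτ⟩ := (hz W w).2 τ'
      refine ⟨τ, ?_⟩
      have e5 := congrArg (fun k => k ≫ hb) hτ
      simp only [MonObj.mul_comp, GrpObj.inv_comp, Category.assoc] at e5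
      rw [e4] at e5
      rw [MonObj.comp_mul, e0, _root_.mul_inv_rev, ← e5]
      group
  obtain ⟨Y, f, y₀, hf, hy₀, k, hk⟩ := FlatA.EtaleSections.exists_section Z.hom p hZp
  let κ : Over.mk f ⟶ Z := Over.homMk k hk
  refine ⟨Y, f, hf, ⟨y₀, hy₀⟩, ((DSPts.bcEquiv q (Over.mk f) H).symm (κ ≫ z))⁻¹, ?_⟩
  have h5 : _root_.RedSub.ConjEq ((Over.pullback q).map (t ≫ h)) ((Over.pullback q).map (t ≫ h))
      (κ ≫ ((toUnit Z ≫ σ) * (z ≫ hb))) := by
    intro W w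
    have := hconj W (w ≫ κ)
    simpa only [Category.assoc] using this
  have h6 := (RedSub.H645.ConjEqIff.conjEq_bc_iff q _).1 h5
  have h7 : (DSPts.bcEquiv q (Over.mk f) G).symm (κ ≫ ((toUnit Z ≫ σ) * (z ≫ hb))) =
      (Over.homMk f ≫ g) * ((((DSPts.bcEquiv q (Over.mk f) H).symm (κ ≫ z))⁻¹ ≫ h)⁻¹ :
        (Over.map q).obj (Over.mk f) ⟶ G) := by
    apply (DSPts.bcEquiv q (Over.mk f) G).injective
    rw [MulEquiv.apply_symm_apply, MonObj.comp_mul, map_mul, GrpObj.inv_comp, _root_.inv_inv,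
      ← DSPts.bcEquiv_comp q (Over.mk f) ((DSPts.bcEquiv q (Over.mk f) H).symm (κ ≫ z)) h,
      MulEquiv.apply_symm_apply, Category.assoc]
    congr 1
    rw [← Category.assoc, toUnit_unique (κ ≫ toUnit Z) (toUnit _)]
    change toUnit _ ≫ DSPts.bcEquiv q _ G (c ≫ g) = _
    rw [DSPts.bcEquiv_naturality, ← Category.assoc]
    congr 2
  rw [h7] at h6
  exact h6

end K195.ConjTor
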