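import Groth.Agent.RedSub.K195.TypeRCell

/-!
# The big cell of a subgroup of type (R): root set given by the root groups contained in it

`Root D h R' := ∀ a, (∃ v, v ≫ h = D.u a) ↔ a ∈ R'`.  Over a connected base:

* `dich`: every root is tangent everywhere or nowhere; `E_eq_univ_iff`: tangent everywhere iff in `R'`;
* `exists_cell_open`: the big cell of `H` (negative roots, torus, positive roots of `R'`, in any order) is an open
  immersion;
* `exists_cell_open'`: the same with two disjoint lists whose cell map is an immersion.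
-/

set_option autoImplicit false
universe u

open CategoryTheory MonoidalCategory CartesianMonoidalCategory MonObj GrpObj AlgebraicGeometry Limits

namespace K195.Conn

open Groth.Agent Groth.Agent.RedSub Groth.Agent.Sga3B H635 H635.Uniq Germs TypeRCell

variable {S : Scheme.{u}} [ConnectedSpace S] {G H : Over S} [GrpObj G] [GrpObj H] (D : Red.SplitRed G) (h : H ⟶ G)

lemma E_eq_univ_iff [IsMonHom h] [IsImmersion h.left] [Smooth H.hom] (t : D.T ⟶ H) (ht : t ≫ h = D.i)
    {R' : Set D.idx} (hR' : ∀ a : D.idx, (∃ v : Red.Ga S ⟶ H, v ≫ h = D.u a) ↔ a ∈ R') (a : D.idx) :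
    E D h a = Set.univ ↔ a ∈ R' := by
  rw [← hR' a]
  constructor
  · exact exists_lift_u D h t ht a
  · exact fun hv => Set.eq_univ_of_forall fun σ => mem_E_of_lift D h a hv σ

lemma dich [IsMonHom h] [IsImmersion h.left] [Smooth H.hom] (t : D.T ⟶ H) (ht : t ≫ h = D.i) : Dich D h :=
  fun a => E_eq D h t ht a

/-- The big cell of `H`, for two disjoint lists of roots exhausting `R'`. -/
theorem exists_cell_open' (hH : _root_.RedSub.IsTypeR h) (t : D.T ⟶ H) (ht : t ≫ h = D.i) (R' : Set D.idx)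
    (hR' : ∀ a : D.idx, (∃ v : Red.Ga S ⟶ H, v ≫ h = D.u a) ↔ a ∈ R') {n m : ℕ} (eneg : Fin n → D.idx)
    (epos : Fin m → D.idx) (he : _root_.RedSub.Enumerates R' (Fin.append eneg epos))
    (himm : IsImmersion (_root_.RedSub.cellMap D eneg epos).left) :
    ∃ f : _root_.RedSub.pow (Red.Ga S) n ⊗ (D.T ⊗ _root_.RedSub.pow (Red.Ga S) m) ⟶ H,
      f ≫ h = _root_.RedSub.cellMap D eneg epos ∧ IsOpenImmersion f.left := by
  obtain ⟨⟨h1, h2⟩, h3, -, h4, -⟩ := hH
  obtain ⟨f, hf⟩ := exists_cell D h t ht eneg epos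
    (fun k => (hR' _).2 (he.2 ▸ ⟨Fin.castAdd m k, Fin.append_left _ _ _⟩))
    (fun k => (hR' _).2 (he.2 ▸ ⟨Fin.natAdd n k, Fin.append_right _ _ _⟩))
  refine ⟨f, hf, isOpenImmersion_cell D h h4 t ht (dich D h t ht) eneg epos he.1 (fun a => ?_) f hf⟩
  rw [he.2]
  exact E_eq_univ_iff D h t ht hR' a

omit [ConnectedSpace S] in
lemma enumerates_append (b : D.P.Base) (R' : Set D.idx) {n m : ℕ} (eneg : Fin n → D.idx) (epos : Fin m → D.idx)
    (hneg : _root_.RedSub.Enumerates (R' ∩ _root_.RedSub.negRoots D.P b) eneg)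
    (hpos : _root_.RedSub.Enumerates (R' ∩ _root_.RedSub.posRoots D.P b) epos) :
    _root_.RedSub.Enumerates R' (Fin.append eneg epos) := by
  constructor
  · rw [Fin.append_injective_iff]
    refine ⟨hneg.1, hpos.1, fun i j hij => ?_⟩
    have h1 : eneg i ∈ R' ∩ _root_.RedSub.negRoots D.P b := hneg.2 ▸ ⟨i, rfl⟩
    have h2 : epos j ∈ R' ∩ _root_.RedSub.posRoots D.P b := hpos.2 ▸ ⟨j, rfl⟩
    have h3 := (H633.PosRoots.mem_negRoots_iff b).1 h1.2
    have h4 := (H633.PosRoots.mem_posRoots_iff b).1 h2.2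
    rw [hij] at h3
    omega
  · ext a
    constructor
    · rintro ⟨k, rfl⟩
      refine Fin.addCases (fun k => ?_) (fun k => ?_) k
      · rw [Fin.append_left]
        exact (show eneg k ∈ R' ∩ _root_.RedSub.negRoots D.P b from hneg.2 ▸ ⟨k, rfl⟩).1
      · rw [Fin.append_right]
        exact (show epos k ∈ R' ∩ _root_.RedSub.posRoots D.P b from hpos.2 ▸ ⟨k, rfl⟩).1
    · intro ha
      rcases H633.PosRoots.mem_posRoots_or_mem_negRoots b a with h1 | h1
      · have h2 : a ∈ Set.range epos := hpos.2 ▸ ⟨ha, h1⟩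
        obtain ⟨k, rfl⟩ := h2
        exact ⟨Fin.natAdd n k, Fin.append_right _ _ _⟩
      · have h2 : a ∈ Set.range eneg := hneg.2 ▸ ⟨ha, h1⟩
        obtain ⟨k, rfl⟩ := h2
        exact ⟨Fin.castAdd m k, Fin.append_left _ _ _⟩

/-- **The big cell of `H`.** -/
theorem exists_cell_open (hH : _root_.RedSub.IsTypeR h) (t : D.T ⟶ H) (ht : t ≫ h = D.i) (R' : Set D.idx)
    (hR' : ∀ a : D.idx, (∃ v : Red.Ga S ⟶ H, v ≫ h = D.u a) ↔ a ∈ R') (b : D.P.Base) {n m : ℕ}
    (eneg : Fin n → D.idx) (epos : Fin m → D.idx)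
    (hneg : _root_.RedSub.Enumerates (R' ∩ _root_.RedSub.negRoots D.P b) eneg)
    (hpos : _root_.RedSub.Enumerates (R' ∩ _root_.RedSub.posRoots D.P b) epos) :
    ∃ f : _root_.RedSub.pow (Red.Ga S) n ⊗ (D.T ⊗ _root_.RedSub.pow (Red.Ga S) m) ⟶ H,
      f ≫ h = _root_.RedSub.cellMap D eneg epos ∧ IsOpenImmersion f.left := by
  refine exists_cell_open' D h hH t ht R' hR' eneg epos (enumerates_append D b R' eneg epos hneg hpos) ?_
  refine PartCell.isImmersion_cellMap D b eneg epos hneg.1 (fun k => ?_) hpos.1 fun k => ?_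
  · exact (show eneg k ∈ R' ∩ _root_.RedSub.negRoots D.P b from hneg.2 ▸ ⟨k, rfl⟩).2
  · exact (show epos k ∈ R' ∩ _root_.RedSub.posRoots D.P b from hpos.2 ▸ ⟨k, rfl⟩).2

end K195.Conn
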