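import Groth.Agent.Redsub.H673.VRad

/-!
# The dynamic decomposition of an immersed subgroup

`i : H ⟶ G` an immersed subgroup of an affine smooth group, `λ : 𝔾_m ⟶ H` a cocharacter.

* `levi_mem`: the Levi component in `G` of a point of `H ∩ P_G(λ)` lies in `H`;
* `Dec i lam l u π`: `l : L ⟶ H`, `u : U ⟶ H` are `H ∩ Z_G(λ)`, `H ∩ U_G(λ)` and `π : H ⟶ L` is a retraction with kernel `U`;
* `exists_dec`: existence when `H ⊆ P_G(λ)`;
* `Dec.isIso_mul`: `H = L ⋉ U`; smoothness, connectedness, normality.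
-/

set_option autoImplicit false
set_option linter.unusedSectionVars false

universe u

open CategoryTheory MonoidalCategory CartesianMonoidalCategory MonObj GrpObj AlgebraicGeometry
open Groth.Agent.Sga3B Groth.Agent.Sga3B.Parab
open Groth.Agent.Sga3B.Parab.Dyn998 Groth.Agent.Sga3B.Parab.DynExist998
open Groth.Agent.Sga3B.Parab.DynBc998 Groth.Agent.Sga3B.Parab.DynLevi998
open Groth.Agent.Sga3B.Parab.ConjPt Groth.Agent.Sga3B.Parab.RadExist147

namespace K195.DynH

open Groth.Agent Groth.Agent.Redsub.H673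

variable {S : Scheme.{u}} {G H L U : Over S} [GrpObj G] [GrpObj H] [GrpObj L] [GrpObj U]
  {i : H ⟶ G} {lam : Red.Gm S ⟶ H}

lemma mono_imm {X Y : Over S} (f : X ⟶ Y) [IsImmersion f.left] : Mono f := by
  have : Mono ((Over.forget S).map f) := inferInstanceAs (Mono f.left)
  exact (Over.forget S).mono_of_mono_map this

/-- **The Levi component of a point of `W ∩ P_G(λ)` lies in `W`**, for `W` an immersed subgroup normalised by `λ`. -/
theorem levi_mem' {W : Over S} [GrpObj W] (w : W ⟶ G) [IsMonHom w] [IsImmersion w.left] {mu : Red.Gm S ⟶ G}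
    (hn : ∀ (C : Type u) [CommRing C] (c : Spec (CommRingCat.of C) ⟶ S) (x : aff C c ⟶ W),
      ∃ y : gmo C c ⟶ W, y ≫ w = orb mu (x ≫ w)) {X : Over S} {x : X ⟶ W} {z v : X ⟶ G}
    (hz : PtZ mu z) (hv : PtU mu v) (h : z * v = x ≫ w) : ∃ z' : X ⟶ W, z' ≫ w = z := by
  have him : Mono w := mono_imm w
  refine AffPts998.exists_lift_of_aff w _ fun C _ c t => ?_
  obtain ⟨k, hk, hk0⟩ : LimOne mu (t ≫ v) := Dyn998.ptU_iff.1 (hv.comp t)
  have hZ : OrbConst mu (t ≫ z) := Dyn998.ptZ_iff.1 (hz.comp t)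
  obtain ⟨y, hy⟩ := hn C c (t ≫ x)
  have h4 : toLin C c ≫ ((linPr C c ≫ t ≫ z) * k) = y ≫ w := by
    rw [hy, MonObj.comp_mul, hk, ← Category.assoc (toLin C c), Dyn998.toLin_linPr,
      Category.assoc, ← h, MonObj.comp_mul, Dyn998.orb_mul, hZ]
  obtain ⟨l', hl'⟩ := RangeLim.exists_lim w _ _ h4
  refine ⟨zeroSec C c ≫ l', ?_⟩
  rw [Category.assoc, hl', MonObj.comp_mul, hk0, _root_.mul_one, ← Category.assoc,
    Dyn998.zeroSec_linPr, Category.id_comp]

/-- **The Levi component of a point of `H ∩ P_G(λ)` lies in `H`.** -/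
theorem levi_mem [IsMonHom i] [IsImmersion i.left] [IsMonHom lam] {X : Over S} {x : X ⟶ H} {z v : X ⟶ G}
    (hz : PtZ (lam ≫ i) z) (hv : PtU (lam ≫ i) v) (h : z * v = x ≫ i) : ∃ z' : X ⟶ H, z' ≫ i = z :=
  levi_mem' i (fun C _ c x => ⟨orb lam x, (Func.orb_map _ _).symm⟩) hz hv h

/-- The dynamic decomposition of `H ⊆ P_G(λ)`. -/
structure Dec (i : H ⟶ G) (lam : Red.Gm S ⟶ H) (l : L ⟶ H) (u : U ⟶ H) (π : H ⟶ L) : Prop where
  lmon : IsMonHom l
  umon : IsMonHom u
  pmon : IsMonHom π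
  lcl : IsClosedImmersion l.left
  ucl : IsClosedImmersion u.left
  lp : l ≫ π = 𝟙 L
  memL : ∀ {X : Over S} (x : X ⟶ H), Mem l x ↔ PtZ (lam ≫ i) (x ≫ i)
  memU : ∀ {X : Over S} (x : X ⟶ H), Mem u x ↔ PtU (lam ≫ i) (x ≫ i)
  ker : ∀ {X : Over S} (x : X ⟶ H), Mem u x ↔ x ≫ π = 1

/-- Existence of the dynamic decomposition. -/
theorem exists_dec [IsAffineHom G.hom] [Smooth G.hom] [IsMonHom i] [IsImmersion i.left] [IsMonHom lam]
    (hP : PtP (lam ≫ i) i) :
    ∃ (L U : Over S) (_ : GrpObj L) (_ : GrpObj U) (l : L ⟶ H) (u : U ⟶ H) (π : H ⟶ L), Dec i lam l u π := by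
  have him : Mono i := mono_imm i
  obtain ⟨P, _, p, hp, -⟩ := exists_isDynP (lam ≫ i)
  have hpm := hp.isMonHom
  have hpmono := hp.mono
  obtain ⟨j, hj⟩ := (hp.iff_ptP _ _).2 hP
  obtain ⟨Z₀, _, z₀, hz₀, hz₀cl⟩ := exists_isDynZ (lam ≫ i)
  obtain ⟨z, hz⟩ := exists_zP hp hz₀
  obtain ⟨U₀, _, u₀, hu₀, hu₀cl⟩ := exists_isDynU (lam ≫ i)
  obtain ⟨v, hv⟩ := exists_uP hp hu₀
  have hz' : IsDynZ (lam ≫ i) (z ≫ p) := by
    rw [hz]
    exact hz₀
  have hv' : IsDynU (lam ≫ i) (v ≫ p) := by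
    rw [hv]
    exact hu₀
  have hz₀m := hz₀.isMonHom
  have hz₀mono := hz₀.mono
  have hu₀m := hu₀.isMonHom
  have hu₀mono := hu₀.mono
  have hiso := isIso_levi hp hz' hv'
  have hn := isNormalHom_uP hp hv'
  have hzm : IsMonHom z := isMonHom_zP hp hz'
  have hum : IsMonHom v := isMonHom_uP hp hv'
  have hjm : IsMonHom j := by
    have : IsMonHom (j ≫ p) := by rw [hj]; infer_instance
    exact isMonHom_of_comp_mono (p := p)
  have hprm := Semi.isMonHom_pr z v hn
  -- the intersections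
  obtain ⟨L, _, l, b, hlm, hbm, hL⟩ := Inter.exists_inter i z₀
  obtain ⟨U, _, w, b', hwm, hbm', hU⟩ := Inter.exists_inter i u₀
  have hlcl : IsClosedImmersion l.left :=
    MorphismProperty.of_isPullback (P := @IsClosedImmersion) (Kill.isPullback_left hL).flip hz₀cl
  have hwcl : IsClosedImmersion w.left :=
    MorphismProperty.of_isPullback (P := @IsClosedImmersion) (Kill.isPullback_left hU).flip hu₀cl
  have hlmono : Mono l := RadDesc.mono_of_closed hlcl
  -- the projection lands in `H`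
  obtain ⟨ρ, hρ⟩ : ∃ ρ : H ⟶ H, ρ ≫ i = j ≫ Semi.pr z v ≫ z ≫ p := by
    refine levi_mem (i := i) (lam := lam) (x := 𝟙 H) (v := j ≫ Semi.qr z v ≫ v ≫ p) ?_ ?_ ?_
    · rw [← Category.assoc, ← Category.assoc, Category.assoc _ z p]
      exact hz'.ptZ.comp _
    · rw [← Category.assoc, ← Category.assoc, Category.assoc _ v p]
      exact hv'.ptU.comp _
    · have h1 := Semi.pr_mul_qr z v j
      rw [Category.id_comp, ← hj]
      have h2 : (j ≫ Semi.pr z v ≫ z) * (j ≫ Semi.qr z v ≫ v) = j := by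
        simpa only [Category.assoc] using h1
      conv_rhs => rw [← h2]
      rw [MonObj.mul_comp]
      simp only [Category.assoc]
  have hz0 : ∀ {X : Over S} (x : X ⟶ H), Mem l x ↔ PtZ (lam ≫ i) (x ≫ i) := by
    intro X x
    rw [← hz₀.iff_ptZ]
    constructor
    · rintro ⟨y, rfl⟩
      exact ⟨y ≫ b, by rw [Category.assoc, ← hL.w, Category.assoc]⟩
    · rintro ⟨y, hy⟩
      exact ⟨hL.lift x y hy.symm, hL.lift_fst _ _ _⟩
  have hu0 : ∀ {X : Over S} (x : X ⟶ H), Mem w x ↔ PtU (lam ≫ i) (x ≫ i) := by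
    intro X x
    rw [← hu₀.iff_ptU]
    constructor
    · rintro ⟨y, rfl⟩
      exact ⟨y ≫ b', by rw [Category.assoc, ← hU.w, Category.assoc]⟩
    · rintro ⟨y, hy⟩
      exact ⟨hU.lift x y hy.symm, hU.lift_fst _ _ _⟩
  obtain ⟨π, hπ⟩ : Mem l ρ := by
    rw [hz0, hρ, ← Category.assoc, ← Category.assoc, Category.assoc _ z p]
    exact hz'.ptZ.comp _
  have hπi : π ≫ l ≫ i = j ≫ Semi.pr z v ≫ z ≫ p := by
    rw [← Category.assoc, hπ, hρ]
  have hπm : IsMonHom π := by
    have h2 : Mono (l ≫ i) := mono_comp l i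
    have h3 : IsMonHom (π ≫ l ≫ i) := by
      rw [hπi]
      infer_instance
    exact isMonHom_of_comp_mono (p := l ≫ i)
  have hzp : Mono (z ≫ p) := hz'.mono
  refine ⟨L, U, inferInstance, inferInstance, l, w, π, hlm, hwm, hπm, hlcl, hwcl, ?_, hz0, hu0, ?_⟩
  · -- `l ≫ π = 𝟙`
    have h1 : PtZ (lam ≫ i) (l ≫ i) := (hz0 l).1 ⟨𝟙 L, Category.id_comp _⟩
    obtain ⟨y, hy⟩ := (hz'.iff_ptZ _ _).2 h1
    have h2 : l ≫ j = y ≫ z := by
      rw [← cancel_mono p, Category.assoc, hj, Category.assoc, hy]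
    rw [← cancel_mono l, ← cancel_mono i, Category.assoc, Category.assoc, hπi, Category.id_comp,
      ← Category.assoc l j, h2, Category.assoc, ← Category.assoc z, Semi.l_pr, Category.id_comp, hy]
  · intro X x
    rw [hu0]
    constructor
    · intro hx
      obtain ⟨y, hy⟩ := (hv'.iff_ptU _ _).2 hx
      have h1 : x ≫ j = y ≫ v := by
        rw [← cancel_mono p, Category.assoc, hj, Category.assoc, hy]
      have h2 : Mono (l ≫ i) := mono_comp l i
      rw [← cancel_mono (l ≫ i), Category.assoc, hπi, ← Category.assoc x, h1, Category.assoc,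
        ← Category.assoc v, Semi.u_pr, MonObj.one_comp, MonObj.comp_one, MonObj.one_comp]
    · intro hx
      have h2 : (x ≫ j) ≫ Semi.pr z v = 1 := by
        rw [← cancel_mono (z ≫ p), MonObj.one_comp]
        have h3 : x ≫ π ≫ l ≫ i = 1 := by rw [← Category.assoc, hx, MonObj.one_comp]
        rw [hπi] at h3
        simpa only [Category.assoc] using h3
      have h4 := Semi.exists_of_pr_eq_one z v (x ≫ j) h2
      have h5 : x ≫ i = ((x ≫ j) ≫ Semi.qr z v) ≫ v ≫ p := by
        rw [← Category.assoc, ← h4, Category.assoc, hj]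
      rw [h5]
      exact hv'.ptU.comp _

namespace Dec

variable {l : L ⟶ H} {u : U ⟶ H} {π : H ⟶ L}

lemma lmono (d : Dec i lam l u π) : Mono l := RadDesc.mono_of_closed d.lcl

lemma umono (d : Dec i lam l u π) : Mono u := RadDesc.mono_of_closed d.ucl

/-- The retraction of `H` onto `U`. -/
lemma exists_retr (d : Dec i lam l u π) : ∃ r : H ⟶ U, r ≫ u = (π ≫ l)⁻¹ * 𝟙 H ∧ u ≫ r = 𝟙 U := by
  have := d.lmon
  have := d.umon
  have := d.pmon
  have := d.umono
  obtain ⟨r, hr⟩ := (d.ker ((π ≫ l)⁻¹ * 𝟙 H)).2 (by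
    rw [MonObj.mul_comp, GrpObj.inv_comp, Category.assoc, d.lp, Category.comp_id, Category.id_comp,
      inv_mul_cancel])
  have h1 : u ≫ π = 1 := (d.ker u).1 ⟨𝟙 _, Category.id_comp _⟩
  refine ⟨r, hr, ?_⟩
  rw [← cancel_mono u, Category.assoc, hr, MonObj.comp_mul, GrpObj.comp_inv, ← Category.assoc, h1,
    MonObj.one_comp, inv_one, _root_.one_mul, Category.comp_id, Category.id_comp]

lemma normal (d : Dec i lam l u π) : AlgGrp.IsNormalHom u := by
  have := d.pmon
  intro X g n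
  have h1 : u ≫ π = 1 := (d.ker u).1 ⟨𝟙 _, Category.id_comp _⟩
  obtain ⟨x, hx⟩ := (d.ker (g * (n ≫ u) * g⁻¹)).2 (by
    rw [MonObj.mul_comp, MonObj.mul_comp, Category.assoc, h1, MonObj.comp_one, _root_.mul_one,
      GrpObj.inv_comp, mul_inv_cancel])
  exact ⟨x, hx.symm⟩

/-- `H = L ⋉ U`. -/
theorem isIso_mul (d : Dec i lam l u π) : IsIso ((l ⊗ₘ u) ≫ μ[H]) := by
  have := d.lmon
  have := d.umon
  have := d.pmon
  have := d.umono
  obtain ⟨r, hr, hur⟩ := d.exists_retr
  have h1 : u ≫ π = 1 := (d.ker u).1 ⟨𝟙 _, Category.id_comp _⟩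
  have key : ∀ {X : Over S} (x : X ⟶ L) (y : X ⟶ U), lift x y ≫ (l ⊗ₘ u) ≫ μ[H] = (x ≫ l) * (y ≫ u) :=
    fun x y => by rw [Hom.mul_def, ← Category.assoc, lift_map]
  refine ⟨lift π r, ?_, ?_⟩
  · have h2 : (l ⊗ₘ u) ≫ μ[H] = (fst L U ≫ l) * (snd L U ≫ u) := by
      rw [← key, ← Category.assoc, lift_fst_snd, Category.id_comp]
    have h3 : ((l ⊗ₘ u) ≫ μ[H]) ≫ π = fst L U := by
      rw [h2, MonObj.mul_comp, Category.assoc, Category.assoc, d.lp, h1, MonObj.comp_one, _root_.mul_one,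
        Category.comp_id]
    have h4 : ((l ⊗ₘ u) ≫ μ[H]) ≫ r = snd L U := by
      rw [← cancel_mono u, Category.assoc, hr, MonObj.comp_mul, GrpObj.comp_inv, Category.comp_id,
        ← Category.assoc _ π l, h3, h2, inv_mul_cancel_left]
    rw [comp_lift, h3, h4, lift_fst_snd]
  · rw [key, hr, mul_inv_cancel_left]

section Props

variable [Smooth H.hom]

lemma smooth_of_retr {N : Over S} (a : N ⟶ H) (b : H ⟶ N) (hab : a ≫ b = 𝟙 N)
    (ha : IsClosedImmersion a.left) : Smooth N.hom := by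
  have h1 : LocallyOfFiniteType N.hom := by
    rw [← Over.w a]
    infer_instance
  have h2 : LocallyOfFiniteType b.left := by
    have : LocallyOfFiniteType (b.left ≫ N.hom) := by
      rw [Over.w]
      infer_instance
    exact locallyOfFiniteType_of_comp b.left N.hom
  have h3 : LocallyOfFinitePresentation (a.left ≫ b.left) := by
    rw [← Over.comp_left, hab]
    exact inferInstanceAs (LocallyOfFinitePresentation (𝟙 _))
  have h4 : LocallyOfFinitePresentation a.left :=
    Ega43.FPOfComp.locallyOfFinitePresentation_of_comp a.left b.left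
  have h5 : LocallyOfFinitePresentation N.hom := by
    rw [← Over.w a]
    infer_instance
  exact smooth_of_retract a b hab h5 inferInstance

lemma smoothL (d : Dec i lam l u π) : Smooth L.hom := smooth_of_retr l π d.lp d.lcl

lemma smoothU (d : Dec i lam l u π) : Smooth U.hom := by
  obtain ⟨r, -, hr⟩ := d.exists_retr
  exact smooth_of_retr u r hr d.ucl

omit [Smooth H.hom] in
lemma qcL (d : Dec i lam l u π) [QuasiCompact H.hom] : QuasiCompact L.hom := by
  have := d.lcl
  rw [← Over.w l]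
  infer_instance

omit [Smooth H.hom] in
lemma qcU (d : Dec i lam l u π) [QuasiCompact H.hom] : QuasiCompact U.hom := by
  have := d.ucl
  rw [← Over.w u]
  infer_instance

omit [Smooth H.hom] [GrpObj H] in
lemma conn_of_retr {N : Over S} (a : N ⟶ H) (b : H ⟶ N) (hab : a ≫ b = 𝟙 N)
    (hH : _root_.RedSub.HasConnectedFibres H) : _root_.RedSub.HasConnectedFibres N := by
  intro s
  have h1 : N.hom.base ⁻¹' {s} = b.left.base '' (H.hom.base ⁻¹' {s}) := by
    ext y
    constructor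
    · intro hy
      refine ⟨a.left y, ?_, ?_⟩
      · have h2 : H.hom (a.left y) = N.hom y := by
          rw [← Scheme.Hom.comp_apply, Over.w]
        exact h2.trans hy
      · have h2 : a.left ≫ b.left = 𝟙 _ := congrArg CommaMorphism.left hab
        change b.left (a.left y) = y
        rw [← Scheme.Hom.comp_apply, h2]
        rfl
    · rintro ⟨x, hx, rfl⟩
      have h2 : N.hom (b.left x) = H.hom x := by
        rw [← Scheme.Hom.comp_apply, Over.w]
      exact h2.trans hx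
  rw [h1]
  exact (hH s).image _ b.left.continuous.continuousOn

omit [Smooth H.hom] in
lemma connL (d : Dec i lam l u π) (hH : _root_.RedSub.HasConnectedFibres H) :
    _root_.RedSub.HasConnectedFibres L := conn_of_retr l π d.lp hH

omit [Smooth H.hom] in
lemma connU (d : Dec i lam l u π) (hH : _root_.RedSub.HasConnectedFibres H) :
    _root_.RedSub.HasConnectedFibres U := by
  obtain ⟨r, -, hr⟩ := d.exists_retr
  exact conn_of_retr u r hr hH

end Props

end Dec

end K195.DynH
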