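import Groth.Agent.RedSub.K195.Tang

/-!
# Étale germs of a smooth subgroup containing the torus of a splitting

`D` a splitting of `G` over a nonempty base `S`, `i : H ⟶ G` an immersed smooth subgroup containing the torus, such that
every root is tangent to `H` everywhere or nowhere (`Dich`).

* `exists_germs`: étale maps to `H`, whose images meet all the fibres, which are products of root group elements
  of tangent roots and of a torus element;
* `exists_le_of_dich`: `H` is contained in every subgroup containing the torus and the root groups of the tangent roots.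
-/

set_option autoImplicit false
universe u

open CategoryTheory MonoidalCategory CartesianMonoidalCategory MonObj GrpObj AlgebraicGeometry Limits

namespace K195.Germs

open Groth.Agent Groth.Agent.RedSub Groth.Agent.Sga3B Groth.Agent.Sga3B.Cell Groth.Agent.Sga3B.Cell.Datum
  Groth.Agent.Sga3B.PinMod Groth.Agent.Sga3B.DSPts Groth.Agent.Sga3B.GaPts H635 H635.ConjCoact H635.Wt H635.Loc
  H635.SchNbd H635.Uniq

variable {S : Scheme.{u}} {G H : Over S} [GrpObj G] [GrpObj H] (D : Red.SplitRed G) (i : H ⟶ G)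

/-- every root is tangent everywhere or nowhere -/
def Dich : Prop := ∀ a, E D i a = ∅ ∨ E D i a = Set.univ

/-- **Étale germs.** -/
theorem exists_germs [Nonempty S] [IsMonHom i] [IsImmersion i.left] [Smooth H.hom] (t : D.T ⟶ H) (ht : t ≫ i = D.i)
    (hd : Dich D i) (L : List D.idx) (hL : L.Nodup) (hL' : ∀ a, a ∈ L) :
    ∃ (ξ : Type u) (R : ξ → Type u) (_ : ∀ j, CommRing (R j)) (s : ∀ j, Spec (CommRingCat.of (R j)) ⟶ S)
      (c : ∀ j, Chart G (s j)) (E' : ξ → Type u) (_ : ∀ j, CommRing (E' j)) (_ : ∀ j, Algebra (R j) (E' j))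
      (w : ∀ j, tB (s j) (E' j) ⟶ H) (x : ∀ j, D.idx → E' j) (y : ∀ j, TPt D.M (E' j)),
      (∀ j, Etale (w j).left) ∧ (∀ σ : S, ∃ j, ∃ z : (tB (s j) (E' j)).left, (tB (s j) (E' j)).hom z = σ) ∧
      (∀ j b, E D i b = ∅ → x j b = 0) ∧
      ∀ j, w j ≫ i = (c j).pts (E' j) (((c j).datum D).cell L (x j) (y j)) := by
  let c := S.affineOpenCover
  let s : ∀ j : c.I₀, Spec (CommRingCat.of (c.X j)) ⟶ S := fun j => c.f j
  have hs : ∀ j, IsOpenImmersion (s j) := fun j => inferInstanceAs (IsOpenImmersion (c.f j))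
  have hch := fun j : c.I₀ => exists_chart_nbd D i (s j)
  choose ch N m hm hm' using hch
  let Rs : D.idx → Prop := fun a => E D i a = Set.univ
  have hin : ∀ j, ∀ b, Rs b → ∀ {C : Type u} [CommRing C] [Algebra (c.X j) C] (x : C),
      (sub (ch j) i).mem (((ch j).datum D).uu b C x) := by
    intro j b hb C _ _ x
    obtain ⟨v, hv⟩ := exists_lift_u D i t ht b hb
    rw [mem_sub, (ch j).pts_uu]
    exact ⟨gaPt _ _ ≫ v, by rw [Category.assoc, hv]⟩
  have hout : ∀ j, ∀ b, ¬ Rs b → ∃ f ∈ (N j).J 1, IsW ((ch j).datum D) (((ch j).datum D).root b) f ∧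
      lin ((ch j).datum D) b f = 1 := by
    intro j b hb
    have h1 : E D i b = ∅ := (hd b).resolve_right hb
    exact one_mem_aI_of_E D i t ht b h1 (s j) (ch j) (N j)
  have hgerm := fun j : c.I₀ => Germ.exists_germ (N j) ((ch j).good D)
    (fun y => hT_sub D i (ch j) t ht y) Rs (hin j) (hout j) L hL hL'
  choose E' hE1 hE2 l x y e hl hx hly he using hgerm
  refine ⟨c.I₀, fun j => c.X j, fun j => inferInstance, s, ch, E', hE1, hE2, fun j => tMap (s j) (l j) ≫ m j, x, y,
    fun j => ?_, ?_, ?_, ?_⟩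
  · have h1 := hm' j (hs j)
    have h2 : Etale (tMap (s j) (l j)).left := by
      rw [tMap_left, HasRingHomProperty.Spec_iff (P := @Etale)]
      exact hl j
    rw [Over.comp_left]
    infer_instance
  · intro σ
    obtain ⟨j, p, hp⟩ := c.openCover.exists_eq σ
    let j' : c.I₀ := j
    refine ⟨j', Spec.map (CommRingCat.ofHom (e j' : E' j' →+* c.X j')) p, ?_⟩
    have h1 : Spec.map (CommRingCat.ofHom (e j' : E' j' →+* c.X j')) ≫
        Spec.map (CommRingCat.ofHom (algebraMap (c.X j') (E' j'))) = 𝟙 _ := by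
      rw [← Spec.map_comp, ← CommRingCat.ofHom_comp, AlgHom.comp_algebraMap]
      exact Spec.map_id _
    have h2 := congrArg (fun k : Spec (CommRingCat.of (c.X j')) ⟶ Spec (CommRingCat.of (c.X j')) =>
      k p) h1
    change Spec.map (CommRingCat.ofHom (algebraMap (c.X j') (E' j')))
      (Spec.map (CommRingCat.ofHom (e j' : E' j' →+* c.X j')) p) = p at h2
    exact (congrArg (s j') h2).trans hp
  · intro j b hb
    refine hx j b fun h => ?_
    have h1 : (∅ : Set S) = Set.univ := hb.symm.trans h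
    exact Set.empty_ne_univ h1
  · intro j
    rw [Category.assoc, hm j, (ch j).pts_nat, hly j]

/-- **TR3, with the dichotomy as a hypothesis.** -/
theorem exists_le_of_dich [Nonempty S] [IsMonHom i] [IsImmersion i.left] [Smooth H.hom]
    (hconn : _root_.RedSub.HasConnectedFibres H) (t : D.T ⟶ H) (ht : t ≫ i = D.i) (hd : Dich D i)
    {H₂ : Over S} [GrpObj H₂] (i₂ : H₂ ⟶ G) [IsMonHom i₂] [Mono i₂] (t₂ : D.T ⟶ H₂) (ht₂ : t₂ ≫ i₂ = D.i)
    (hu : ∀ a, E D i a = Set.univ → ∃ v : Red.Ga S ⟶ H₂, v ≫ i₂ = D.u a) :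
    ∃ v : H ⟶ H₂, v ≫ i₂ = i := by
  classical
  obtain ⟨L, hL, hL'⟩ : ∃ L : List D.idx, L.Nodup ∧ ∀ a, a ∈ L :=
    ⟨Finset.univ.toList, Finset.nodup_toList _, fun a => Finset.mem_toList.2 (Finset.mem_univ a)⟩
  obtain ⟨ξ, R, _, s, c, E', _, _, w, x, y, hw, hσ, hx, hwi⟩ := exists_germs D i t ht hd L hL hL'
  have hmem : ∀ j, (sub (c j) i₂).mem (((c j).datum D).cell L (x j) (y j)) := by
    intro j
    apply Germ.mem_cell (fun y => hT_sub D i₂ (c j) t₂ ht₂ y)
    intro (b : D.idx)
    have h0 : (sub (c j) i₂).mem (((c j).datum D).uu b (E' j) 0) := by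
      have h1 := uu_zero ((c j).datum D) (B := E' j) b
      exact h1.symm ▸ (sub (c j) i₂).one_mem
    rcases hd b with hb | hb
    · have h2 : x j b = 0 := hx j b hb
      exact h2.symm ▸ h0
    · obtain ⟨v, hv⟩ := hu b hb
      have h3 : ∀ z : E' j, (sub (c j) i₂).mem (((c j).datum D).uu b (E' j) z) := by
        intro z
        rw [mem_sub, (c j).pts_uu]
        exact ⟨gaPt _ _ ≫ v, by rw [Category.assoc, hv]⟩
      exact h3 (x j b)
  choose r hr using hmem
  refine exists_lift_of_local_germs i i₂ hconn (fun j => tB (s j) (E' j)) w (fun j => ?_) (fun j => ?_) hσ r ?_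
  · have := hw j
    infer_instance
  · have := hw j
    infer_instance
  · intro j
    rw [hr j, hwi j]

end K195.Germs
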