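import Groth.Agent.RedSub.K195.CentTor
import Groth.Agent.Agf.H590.CentConn
import Groth.Agent.Redsub.H673.RangeLim
import Groth.Agent.Sga3B.BorSub908

/-!
# The intersection of a subgroup of type (R) with the centralizer of a subtorus (S5549)
-/

set_option autoImplicit false
set_option linter.unusedSectionVars false

universe u

open CategoryTheory MonoidalCategory CartesianMonoidalCategory MonObj GrpObj AlgebraicGeometry

namespace K195.InterCent

open Groth.Agent Groth.Agent.Sga3B

variable {S : Scheme.{u}} {G T Q Z H P : Over S} [GrpObj G] [GrpObj T] [GrpObj Q] [GrpObj Z] [GrpObj H] [GrpObj P]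

/-- The intersection of `H` with the centralizer of `Q ⊆ H` is the centralizer of `Q` in `H`. -/
lemma isCentralizerOf_of_isPullback {q : Q ⟶ H} [IsMonHom q] {h : H ⟶ G} [IsMonHom h] [Mono h] {z : Z ⟶ G}
    (hZ : Red.IsCentralizerOf (q ≫ h) z) {a : P ⟶ H} {b : P ⟶ Z} [IsMonHom a] (hP : IsPullback a b h z) :
    Red.IsCentralizerOf q a := by
  have hzm := hZ.2.1
  refine ⟨inferInstance, ?_, fun X g => ⟨?_, ?_⟩⟩
  · constructor
    intro W x y hxy
    refine hP.hom_ext hxy ?_
    rw [← cancel_mono z, Category.assoc, Category.assoc, ← hP.w, ← Category.assoc, hxy, Category.assoc]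
  · rintro ⟨w, rfl⟩ X' x y
    rw [← cancel_mono h, MonObj.mul_comp, MonObj.mul_comp]
    have h1 := (hZ.2.2 X ((w ≫ b) ≫ z)).1 ⟨w ≫ b, rfl⟩ X' x y
    rw [Category.assoc, ← hP.w] at h1
    simpa only [Category.assoc] using h1
  · intro hg
    obtain ⟨w, hw⟩ := (hZ.2.2 X (g ≫ h)).2 (fun X' x y => by
      have h1 := congrArg (fun k => k ≫ h) (hg X' x y)
      simpa only [MonObj.mul_comp, Category.assoc] using h1)
    exact ⟨hP.lift g w hw.symm, hP.lift_fst _ _ _⟩

/-- Geometric fibres of centralizers of tori in smooth connected immersed subgroups of a reductive group. -/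
lemma hasConnectedFibres (hG : Red.IsReductive G) {h : H ⟶ G} (hH : _root_.RedSub.IsTypeR h) {q : Q ⟶ H} [IsMonHom q]
    [Mono q] (hQ : Red.IsTorus Q) {a : P ⟶ H} (ha : Red.IsCentralizerOf q a) :
    _root_.RedSub.HasConnectedFibres P := by
  intro s
  refine IsoFam.isConnected_fibre P s ?_
  have h1 := hH.1.1
  have h2 := hH.1.2
  have h3 := hH.2.1
  have h4 := RedSub.H641.TypeRBc.geomIrr_of_conn hH.2.2.2.1
  have hG0 := hG.2.2 s
  obtain ⟨hA, -, -, -⟩ := hG0
  have hA' : IsAffine (Red.bc (Red.geomPt s) G).left := hA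
  have hcl := Redsub.H673.RangeLim.isClosedImmersion_field h _ (Red.geomPt s)
  have hAH : IsAffine (Red.bc (Red.geomPt s) H).left := by
    have h1 : IsAffineHom ((Over.pullback (Red.geomPt s)).map h).left := inferInstance
    exact isAffine_of_isAffineHom ((Over.pullback (Red.geomPt s)).map h).left
  have hS' : Smooth (Red.bc (Red.geomPt s) H).hom := MorphismProperty.pullback_snd (P := @Smooth) _ _ h3
  have h5 : GeometricallyIrreducible (Red.geomFibre s H).hom :=
    MorphismProperty.pullback_snd (P := @GeometricallyIrreducible) _ _ h4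
  have h6 : IrreducibleSpace (Red.geomFibre s H).left :=
    GeometricallyIrreducible.irreducibleSpace_of_subsingleton (Red.geomFibre s H).hom
  have h7 : ConnectedSpace (Red.geomFibre s H).left := inferInstance
  exact Agf.H590.CentConn.connectedSpace_of_isCentralizerOf_algClosed _ (Red.bc (Red.geomPt s) H)
    (Red.bc (Red.geomPt s) Q) ((Over.pullback (Red.geomPt s)).map q) (TorusBc.isTorus_bc _ hQ) _
    ((Over.pullback (Red.geomPt s)).map a) (SplitBc264.isCentralizerOf_bc _ ha)

/-- **`H ∩ Z_G(Q)` is of type (R) in `Z_G(Q)`.** -/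
theorem isTypeR (hG : Red.IsReductive G) (i : T ⟶ G) (hT : Red.IsMaximalTorus i) (q : Q ⟶ T) [IsMonHom q]
    [Mono q] (hQ : Red.IsTorus Q) (z : Z ⟶ G) (hZ : Red.IsCentralizerOf (q ≫ i) z) (h : H ⟶ G)
    (hH : _root_.RedSub.IsTypeR h) (t : T ⟶ H) (ht : t ≫ h = i) (a : P ⟶ H) (b : P ⟶ Z) [IsMonHom a] [IsMonHom b]
    (hP : IsPullback a b h z) : _root_.RedSub.IsTypeR b := by
  have h1 := hH.1.1
  have h2 := hH.1.2
  have h3 := hH.2.1
  have h4 := hH.2.2.1
  have hmono : Mono h := Over.mono_of_mono_left h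
  have him := hT.1
  have himono := hT.2.1
  have hzm := hZ.1
  have hzmono := hZ.2.1
  have hGa : IsAffineHom G.hom := hG.1
  have hGs : Smooth G.hom := hG.2.1
  have htm : IsMonHom t := by
    have : IsMonHom (t ≫ h) := by rw [ht]; infer_instance
    apply Pts.isMonHom_of_points
    intro X x y
    rw [← cancel_mono h, Category.assoc, MonObj.mul_comp x y (t ≫ h), MonObj.mul_comp, Category.assoc, Category.assoc]
  have htmono : Mono t := by
    have : Mono (t ≫ h) := by rw [ht]; infer_instance
    exact mono_of_mono t h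
  have hqi : Mono (q ≫ i) := mono_comp q i
  have hZred := Agf.H600.CentRedK.isReductive_of_isCentralizerOf hG (q ≫ i) hQ z hZ
  obtain ⟨hzcl, hzs⟩ := Agf.H600.CentRedK.isClosedImmersion_smooth_of_isCentralizerOf (q ≫ i) hQ z hZ
  have hzlfp : LocallyOfFinitePresentation z.left := by
    obtain ⟨⟨Z', _, z', hz', h4', h5'⟩, -⟩ := CentNorm900.exists_centralizer_normalizer_torus hQ (q ≫ i)
    obtain ⟨e, he1, he2, he⟩ := Agf.H600.CentRedK.exists_iso_of_isCentralizerOf hZ hz'
    have hi : IsIso e.hom.left := inferInstanceAs (IsIso ((Over.forget _).map e.hom))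
    rw [← he, Over.comp_left]
    infer_instance
  have ha : Red.IsCentralizerOf (q ≫ t) a := isCentralizerOf_of_isPullback (q := q ≫ t) (by
    rw [Category.assoc, ht]
    exact hZ) hP
  have hsq := hP.map (Over.forget S)
  have hacl : IsClosedImmersion a.left := MorphismProperty.of_isPullback (P := @IsClosedImmersion) hsq.flip hzcl
  have halfp : LocallyOfFinitePresentation a.left :=
    MorphismProperty.of_isPullback (P := @LocallyOfFinitePresentation) hsq.flip hzlfp
  have hbimm : IsImmersion b.left := MorphismProperty.of_isPullback (P := @IsImmersion) hsq h2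
  have hsep : IsSeparated H.hom := by
    rw [← Over.w h]
    infer_instance
  have hPs : Smooth P.hom := Agf.H600.CentRedK.smooth_of_isCentralizerOf (q ≫ t) hQ a ha
  have hPq : QuasiCompact P.hom := by
    rw [← Over.w a]
    infer_instance
  have hqt : Mono (q ≫ t) := mono_comp q t
  have hPc := hasConnectedFibres (q := q ≫ t) hG hH hQ ha
  -- the torus in `P`
  obtain ⟨tZ, htZ⟩ := (hZ.2.2 T i).2 (fun X' x y => by
    rw [← Category.assoc y q i, ← MonObj.mul_comp, ← MonObj.mul_comp, MaxTorNear900.mul_comm_of_isTorus hT.2.2.1])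
  refine RedSub.H641.TypeRBc.isTypeR_of_torus hZred ⟨inferInstance, hbimm⟩ hPs hPq hPc
    (hP.lift t tZ (by rw [ht, htZ])) ?_
  rw [hP.lift_snd]
  exact BorSub908.isMaximalTorus_of_comp z tZ (by rw [htZ]; exact hT)

end K195.InterCent
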