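import Groth.Agent.RedSub.K195.Le
import Groth.Agent.S5543

/-!
# Inclusions of subgroups containing a maximal torus

For `G` reductive over `S`, `T` a maximal torus, `H`, `H'` smooth immersed subgroups with connected fibres containing `T`:

* `isClopen_locus`: the locus where `H_s̄ ⊆ H'_s̄` is open and closed;
* `exists_le_of_locus`: `H ⊆ H'` if this holds on geometric fibres.
-/

set_option autoImplicit false
universe u

open CategoryTheory MonoidalCategory CartesianMonoidalCategory MonObj GrpObj AlgebraicGeometry Limits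

namespace K195.LeLoc

open Groth.Agent Groth.Agent.RedSub Groth.Agent.Sga3B Le

lemma isClopen_of_etale_local {S : Scheme.{u}} (A : Set S)
    (h : ∀ s : S, ∃ (U : Scheme.{u}) (f : U ⟶ S) (_ : Etale f), s ∈ Set.range f.base ∧ IsClopen (f.base ⁻¹' A)) :
    IsClopen A := by
  have key : ∀ B : Set S, (∀ s : S, ∃ (U : Scheme.{u}) (f : U ⟶ S) (_ : Etale f), s ∈ Set.range f.base ∧
      IsOpen (f.base ⁻¹' B)) → IsOpen B := by
    intro B hB
    rw [isOpen_iff_forall_mem_open]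
    intro s hs
    obtain ⟨U, f, hf, ⟨y, hy⟩, ho⟩ := hB s
    refine ⟨f.base '' (f.base ⁻¹' B), Set.image_preimage_subset _ _, f.isOpenMap _ ho, ⟨y, ?_, hy⟩⟩
    rw [Set.mem_preimage, hy]
    exact hs
  refine ⟨⟨key Aᶜ fun s => ?_⟩, key A fun s => ?_⟩
  · obtain ⟨U, f, hf, h1, h2⟩ := h s
    exact ⟨U, f, hf, h1, h2.compl.isOpen⟩
  · obtain ⟨U, f, hf, h1, h2⟩ := h s
    exact ⟨U, f, hf, h1, h2.isOpen⟩

/-- An isomorphism of subobjects is a pair of inclusions. -/
lemma iso_iff_leAt {S : Scheme.{u}} {G H H' : Over S} (h : H ⟶ G) (h' : H' ⟶ G) [Mono h.left] [Mono h'.left]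
    {Z : Scheme.{u}} (z : Z ⟶ S) :
    (∃ e : Red.bc z H ≅ Red.bc z H', e.hom ≫ (Over.pullback z).map h' = (Over.pullback z).map h) ↔
      LeAt h h' z ∧ LeAt h' h z := by
  rw [leAt_iff_bc, leAt_iff_bc]
  constructor
  · rintro ⟨e, he⟩
    exact ⟨⟨e.hom, he⟩, ⟨e.inv, by rw [← he, Iso.inv_hom_id_assoc]⟩⟩
  · rintro ⟨⟨v, hv⟩, ⟨w, hw⟩⟩
    have m1 : Mono h := Over.mono_of_mono_left h
    have m2 : Mono h' := Over.mono_of_mono_left h'
    refine ⟨⟨v, w, ?_, ?_⟩, hv⟩
    · rw [← cancel_mono ((Over.pullback z).map h), Category.assoc, hw, hv, Category.id_comp]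
    · rw [← cancel_mono ((Over.pullback z).map h'), Category.assoc, hv, hw, Category.id_comp]

variable {S : Scheme.{u}} {G T H H' : Over S} [GrpObj G] [GrpObj T] [GrpObj H] [GrpObj H']
  (hG : Red.IsReductive G) (i : T ⟶ G) (hT : Red.IsMaximalTorus i) (h : H ⟶ G) (h' : H' ⟶ G)
  [IsMonHom h] [IsMonHom h'] [IsImmersion h.left] [IsImmersion h'.left] [Smooth H.hom] [Smooth H'.hom]
  (hconn : _root_.RedSub.HasConnectedFibres H) (t : T ⟶ H) (t' : T ⟶ H') (ht : t ≫ h = i) (ht' : t' ≫ h' = i)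

include hG hT hconn ht ht'

/-- The data on an étale neighbourhood. -/
lemma exists_etale (s : S) : ∃ (U : Scheme.{u}) (f : U ⟶ S) (_ : Etale f), s ∈ Set.range f.base ∧
    ∃ (D : Red.SplitRed (Red.bc f G)) (τ : D.T ⟶ Red.bc f H) (τ' : D.T ⟶ Red.bc f H'),
      τ ≫ (Over.pullback f).map h = D.i ∧ τ' ≫ (Over.pullback f).map h' = D.i ∧
      IsImmersion ((Over.pullback f).map h).left ∧ IsImmersion ((Over.pullback f).map h').left ∧
      Smooth (Red.bc f H).hom ∧ Smooth (Red.bc f H').hom ∧ _root_.RedSub.HasConnectedFibres (Red.bc f H) := by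
  obtain ⟨U, f, hf, hs, D, e, hD⟩ := Groth.Agent.S5543.result hG i hT s
  refine ⟨U, f, hf, hs, D, e.hom ≫ (Over.pullback f).map t, e.hom ≫ (Over.pullback f).map t', ?_, ?_,
    (H648.BorBc.isSubgrp_bc f ⟨‹IsMonHom h›, ‹_›⟩).2, (H648.BorBc.isSubgrp_bc f ⟨‹IsMonHom h'›, ‹_›⟩).2,
    inferInstanceAs (Smooth (pullback.snd _ _)), inferInstanceAs (Smooth (pullback.snd _ _)),
    H648.TypeR.hasConnectedFibres_bc f hconn⟩
  · rw [Category.assoc, ← Functor.map_comp, ht, hD]
  · rw [Category.assoc, ← Functor.map_comp, ht', hD]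

/-- The locus of inclusion is open and closed. -/
theorem isClopen_locus : IsClopen (locus h h') := by
  refine isClopen_of_etale_local _ fun s => ?_
  obtain ⟨U, f, hf, hs, D, τ, τ', h1, h2, e1, e2, e3, e4, e5⟩ :=
    exists_etale hG i hT h h' hconn t t' ht ht' s
  refine ⟨U, f, hf, hs, ?_⟩
  have h3 := Le.isClopen_locus D ((Over.pullback f).map h) ((Over.pullback f).map h') e5 τ h1 τ' h2
  rw [locus_bc] at h3
  exact h3

/-- Inclusion from geometric fibres. -/
theorem exists_le_of_locus (hl : ∀ s, s ∈ locus h h') : ∃ v : H ⟶ H', v ≫ h' = h := by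
  have hm' : Mono h'.left := inferInstance
  refine H657.FacLoc.inP_of_local h' h fun s => ?_
  obtain ⟨U, f, hf, hs, D, τ, τ', h1, h2, e1, e2, e3, e4, e5⟩ :=
    exists_etale hG i hT h h' hconn t t' ht ht' s
  refine ⟨U, f, inferInstance, inferInstance, hs, ?_⟩
  refine Le.exists_le_of_locus D ((Over.pullback f).map h) ((Over.pullback f).map h') e5 τ h1 τ' h2 fun u => ?_
  rw [locus_bc]
  exact hl _

end K195.LeLoc
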