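import Groth.Agent.RedSub.K195.Solv
import Groth.Agent.RedSub.K195.RootFun

/-!
# The Levi decomposition of a subgroup of type (R) with closed root set (S5553)

`levi`: S5553 given that `H₁` is reductive.
-/

set_option autoImplicit false
set_option linter.unusedSectionVars false

universe u

open CategoryTheory MonoidalCategory CartesianMonoidalCategory MonObj GrpObj AlgebraicGeometry
open Groth.Agent.Sga3B Groth.Agent.Sga3B.Parab
open Groth.Agent.Sga3B.Parab.Dyn998 Groth.Agent.Sga3B.Parab.DynExist998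
open Groth.Agent.Sga3B.Parab.DynBc998 Groth.Agent.Sga3B.Parab.DynLevi998
open Groth.Agent.Sga3B.Parab.ConjPt Groth.Agent.Sga3B.Parab.RadExist147
open Groth.Agent.Sga3B.BorRP478 Groth.Agent.Sga3B.DSPts Groth.Agent.Sga3B.GaPts
open Groth.Agent.RedSub.H633.PowPts

namespace K195.Levi

open Groth.Agent Groth.Agent.RedSub DynH TypeRDec TypeRCell ProdIso

section Norm

variable {S : Scheme.{u}} {G H L U : Over S} [GrpObj G] [GrpObj H] [GrpObj L] [GrpObj U] {D : Red.SplitRed G}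
  {lam : Red.Gm S ⟶ H} {h : H ⟶ G} {t : D.T ⟶ H} {l : L ⟶ H} {u : U ⟶ H} {π : H ⟶ L}

/-- A point of `U` which normalises `L ⊇ T` is trivial. -/
theorem eq_one_of_normalizes [IsMonHom h] [Mono h] (ht : t ≫ h = D.i) (d : Dec h lam l u π) (tL : D.T ⟶ L)
    (htL : tL ≫ l = t) (X : Over S) (x : X ⟶ U)
    (hx : ∀ (X' : Over S) (y : X' ⟶ X) (z : X' ⟶ L),
      ∃ z' : X' ⟶ L, (y ≫ x ≫ u ≫ h) * (z ≫ l ≫ h) * (y ≫ x ≫ u ≫ h)⁻¹ = z' ≫ l ≫ h) : x = 1 := by
  have hlm := d.lmon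
  have hum := d.umon
  have hpm := d.pmon
  have hlmono := d.lmono
  have humono := d.umono
  -- `x` commutes with the points of `L`
  have hcomm : ∀ (X' : Over S) (y : X' ⟶ X) (z : X' ⟶ L), (y ≫ x ≫ u) * (z ≫ l) = (z ≫ l) * (y ≫ x ≫ u) := by
    intro X' y z
    obtain ⟨z', hz'⟩ := hx X' y z
    have h1 : (y ≫ x ≫ u) * (z ≫ l) * (y ≫ x ≫ u)⁻¹ = z' ≫ l := by
      rw [← cancel_mono h]
      simp only [MonObj.mul_comp, GrpObj.inv_comp, Category.assoc]
      exact hz'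
    have h2 : (y ≫ x ≫ u) ≫ π = 1 := (d.ker _).1 ⟨y ≫ x, by rw [Category.assoc]⟩
    have h3 := congrArg (fun w => w ≫ π) h1
    simp only [MonObj.mul_comp, GrpObj.inv_comp, h2, _root_.one_mul, inv_one, _root_.mul_one, Category.assoc, d.lp,
      Category.comp_id] at h3
    rw [← h3] at h1
    exact mul_inv_eq_iff_eq_mul.1 h1
  -- hence it lies in the torus
  obtain ⟨τ, hτ⟩ := ((TorClosed636.isCentralizerOf_self D.reductive D.maximalTorus).2.2 X (x ≫ u ≫ h)).2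
    (fun X' y τ => by
      have h1 := congrArg (fun w => w ≫ h) (hcomm X' y (τ ≫ tL))
      simp only [MonObj.mul_comp, Category.assoc, htL, ht] at h1
      exact h1)
  have h1 : x ≫ u = τ ≫ tL ≫ l := by
    rw [← cancel_mono h]
    simp only [Category.assoc]
    rw [← hτ, ← Category.assoc tL l h, htL, ht]
  have h2 : (x ≫ u) ≫ π = 1 := (d.ker _).1 ⟨x, rfl⟩
  have h3 : τ ≫ tL = 1 := by
    rw [h1] at h2
    simpa only [Category.assoc, d.lp, Category.comp_id] using h2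
  rw [← cancel_mono u, h1, ← Category.assoc, h3, MonObj.one_comp, MonObj.one_comp]

end Norm

variable {S : Scheme.{u}} [ConnectedSpace S] {G H' H₁ : Over S} [GrpObj G] [GrpObj H'] [GrpObj H₁]

/-- **The Levi decomposition of a subgroup of type (R) with closed root set.** -/
theorem levi (D : Red.SplitRed G) (R' : Set D.idx)
    (hcl : ∀ a b c : D.idx, a ∈ R' → b ∈ R' → D.P.root a + D.P.root b = D.P.root c → c ∈ R')
    (h' : H' ⟶ G) (hH' : _root_.RedSub.IsTypeR h') (t' : D.T ⟶ H') (ht' : t' ≫ h' = D.i)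
    (hR' : ∀ a : D.idx, (∃ v : Red.Ga S ⟶ H', v ≫ h' = D.u a) ↔ a ∈ R')
    (h₁ : H₁ ⟶ G) (hH₁ : _root_.RedSub.IsTypeR h₁) (t₁ : D.T ⟶ H₁) (ht₁ : t₁ ≫ h₁ = D.i)
    (hR₁ : ∀ a : D.idx, (∃ v : Red.Ga S ⟶ H₁, v ≫ h₁ = D.u a) ↔ (a ∈ R' ∧ D.P.reflectionPerm a a ∈ R'))
    (f₁ : H₁ ⟶ H') (hf₁ : f₁ ≫ h' = h₁) (hred : Red.IsReductive H₁) :
    ∃ (mu : D.M →+ ℤ) (U₂ : Over S) (_ : GrpObj U₂) (u₂ : U₂ ⟶ H') (π : H' ⟶ H₁),
      (∀ a ∈ R', D.P.reflectionPerm a a ∈ R' → mu (D.P.root a) = 0) ∧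
      (∀ a ∈ R', D.P.reflectionPerm a a ∉ R' → 0 < mu (D.P.root a)) ∧
      Dec h' (coH t' mu) f₁ u₂ π ∧ Par.IsUnipotentRadical u₂ ∧
      (∀ {m : ℕ} (e : Fin m → D.idx), _root_.RedSub.Enumerates {a | a ∈ R' ∧ D.P.reflectionPerm a a ∉ R'} e →
        ∃ ψ : _root_.RedSub.pow (Red.Ga S) m ≅ U₂,
          ψ.hom ≫ u₂ ≫ h' = _root_.RedSub.prodMap (Red.Ga S) m (fun k => D.u (e k))) := by
  have hPred := SplitReduced415.isReduced D
  obtain ⟨mu, hmu0, hmu1⟩ := RootFun.exists_mu (P := D.P) hcl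
  have hmu : ∀ a ∈ R', 0 ≤ mu (D.P.root a) := by
    intro a ha
    by_cases h : D.P.reflectionPerm a a ∈ R'
    · exact (hmu0 a ha h).ge
    · exact (hmu1 a ha h).le
  have hR₁' : ∀ a : D.idx, (∃ v : Red.Ga S ⟶ H₁, v ≫ h₁ = D.u a) ↔ (a ∈ R' ∧ mu (D.P.root a) = 0) := by
    intro a
    rw [hR₁ a]
    constructor
    · rintro ⟨ha, hna⟩
      exact ⟨ha, hmu0 a ha hna⟩
    · rintro ⟨ha, h0⟩
      refine ⟨ha, ?_⟩
      by_contra h
      have := hmu1 a ha h
      omega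
  obtain ⟨U, _, u, π, d⟩ := exists_dec_typeR (mu := mu) t' hH' ht' hR' hmu h₁ hH₁ t₁ ht₁ hR₁' f₁ hf₁
  have hG := D.reductive.1
  have hG2 := D.reductive.2.1
  have h1 := hH'.1.1
  have h2 := hH'.1.2
  have h3 := hH'.2.1
  have h4 := hH'.2.2.1
  have hmono : Mono h' := mono_imm h'
  have hlm := isMonHom_coH (mu := mu) t' ht'
  have hfin : Module.Finite ℤ D.M := D.finiteM
  have hfree : Module.Free ℤ D.M := D.freeM
  obtain ⟨b, hb⟩ := RootFun.exists_base D.P mu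
  have hset : {a | a ∈ R' ∧ D.P.reflectionPerm a a ∉ R'} = {a | a ∈ R' ∧ 0 < mu (D.P.root a)} := by
    ext a
    constructor
    · rintro ⟨ha, hna⟩
      exact ⟨ha, hmu1 a ha hna⟩
    · rintro ⟨ha, h0⟩
      refine ⟨ha, fun h => ?_⟩
      have := hmu0 a ha h
      omega
  have key : ∀ {m : ℕ} (e : Fin m → D.idx),
      _root_.RedSub.Enumerates {a | a ∈ R' ∧ D.P.reflectionPerm a a ∉ R'} e →
        ∃ ψ : _root_.RedSub.pow (Red.Ga S) m ≅ U,
          ψ.hom ≫ u ≫ h' = _root_.RedSub.prodMap (Red.Ga S) m (fun k => D.u (e k)) := by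
    intro m e he
    rw [hset] at he
    exact exists_prodIso hH' ht' hR' hmu d b hb e he
  obtain ⟨m, e, he⟩ := H637.PosRoots.exists_enumerates {a | a ∈ R' ∧ D.P.reflectionPerm a a ∉ R'}
  obtain ⟨ψ, hψ⟩ := key e he
  have hUa : IsAffineHom U.hom := by
    have h5 : IsAffineHom (_root_.RedSub.pow (Red.Ga S) m).hom :=
      PartCell.prop_pow @IsAffineHom inferInstance (MorphismProperty.pullback_snd _ _ (by
        change IsAffineHom (Spec.map _)
        infer_instance)) m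
    rw [← Over.w ψ.inv]
    have h6 : IsIso ψ.inv.left := inferInstanceAs (IsIso ((Over.forget S).map ψ.inv))
    exact MorphismProperty.comp_mem @IsAffineHom _ _ inferInstance h5
  exact ⟨mu, U, inferInstance, u, π, hmu0, hmu1, d, d.isUnipotentRadical hH'.2.2.2.1 hred hUa, key⟩

end K195.Levi
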