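import Groth.Agent.RedSub.K195.QuotDesc
import Groth.Agent.Sga3B.AdQuot
import Groth.Agent.SGA3x.K5.MTNorm
import Groth.Agent.SGA3x.K5.CentNorm
import Groth.Agent.SGA3x.K10.MTLoc
import Groth.Agent.Sga3B.IsoFam
import Groth.Agent.S5236
import Groth.Agent.S14762
import Groth.Agent.S0115
import Groth.Agent.Sga3B.SplitBc264

/-!
# Quotients by normal subgroups of multiplicative type

* `central_of_normal`: a normal subgroup of multiplicative type of a group with connected fibres is central;
* `exists_quotient`: the quotient of an affine smooth group by a subgroup of multiplicative type exists and is affine;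
* `main`: the quotient of a reductive group by a normal subgroup of multiplicative type is reductive.
-/

set_option autoImplicit false
set_option linter.unusedSectionVars false

universe u

open CategoryTheory MonoidalCategory CartesianMonoidalCategory MonObj GrpObj AlgebraicGeometry Limits

namespace K195.MultQuot

open Groth.Agent Groth.Agent.Sga3B

variable {S : Scheme.{u}} {G H : Over S} [GrpObj G] [GrpObj H]

/-- **A normal subgroup of multiplicative type is central.** -/
theorem central_of_normal (hconn : ∀ s : S, _root_.IsConnected (G.hom.base ⁻¹' {s})) (i : H ⟶ G) [IsMonHom i] [Mono i]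
    (hn : AlgGrp.IsNormalHom i) (hH : SGA3x.IsMultTypeFT H) (T : Over S) (g : T ⟶ G) (h : T ⟶ H) :
    g * (h ≫ i) = (h ≫ i) * g := by
  obtain ⟨U, hU, hU'⟩ := SGA3x.K5.CentNorm.exists_clopen_centralize i hH (𝟙 G) fun T t h => hn T (t ≫ 𝟙 G) h
  have h1 : Set.range η[G].left ⊆ (U : Set G.left) := by
    rw [← hU' (𝟙_ (Over S)) η[G]]
    intro T' b h
    have h2 : b ≫ η[G] ≫ 𝟙 G = 1 := by
      rw [Category.comp_id, Hom.one_def, toUnit_unique b (toUnit T')]
    rw [h2, _root_.one_mul, _root_.mul_one]
  have h2 : (U : Set G.left) = Set.univ := by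
    rw [Set.eq_univ_iff_forall]
    intro x
    have h3 : G.hom.base (η[G].left (G.hom x)) = G.hom x := by
      have h4 : η[G].left ≫ G.hom = 𝟙 S := Over.w η[G]
      have h5 := congrArg (fun z : S ⟶ S => z (G.hom x)) h4
      exact h5
    have h4 := (hconn (G.hom x)).isPreconnected.subset_isClopen (t := (U : Set G.left)) ⟨hU, U.2⟩
      ⟨η[G].left (G.hom x), h3, h1 ⟨_, rfl⟩⟩
    exact h4 rfl
  have h3 := (hU' T g).2 (by rw [h2]; exact Set.subset_univ _) T (𝟙 T) h
  rwa [Category.id_comp, Category.comp_id] at h3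

theorem isQuotient_of_isQuot {Q : Over S} {i : H ⟶ G} [Mono i] {q : G ⟶ Q} (h : AdQuot.IsQuot i q) :
    _root_.RedSub.IsQuotient i q :=
  ⟨h.surj, h.flat, h.lfp, RedSub.H650.QuotPts.isPullback_of_ptQuot h.agree⟩

/-- **Quotients by subgroups of multiplicative type.** -/
theorem exists_quotient [IsAffineHom G.hom] [Smooth G.hom] (i : H ⟶ G) [IsMonHom i] [Mono i]
    (hH : SGA3x.IsMultTypeFT H) :
    ∃ (Q : Over S) (p : G ⟶ Q), _root_.RedSub.IsQuotient i p ∧ IsAffineHom Q.hom ∧ Smooth Q.hom := by
  have hf : Flat H.hom := K10.MTLoc.flat hH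
  have hp : LocallyOfFinitePresentation H.hom := K10.MTLoc.locallyOfFinitePresentation hH
  have hc : IsClosedImmersion i.left := SGA3x.K5.MTNorm.isClosedImmersion_of_mono i hH
  obtain ⟨Q, p, hq, hQ⟩ := QuotDesc.exists_quotient_of_local i fun s => by
    obtain ⟨B, _, v, M, _, hv, hs, hM, hsp⟩ := K10.MTLoc.exists_etale_split hH s
    have h1 : IsClosedImmersion ((Over.pullback v).map i).left :=
      MorphismProperty.of_isPullback (P := @IsClosedImmersion) (SplitBc264.isPullback_map_left v i) hc
    have h2 : Smooth (Red.bc v G).hom := inferInstanceAs (Smooth (pullback.snd G.hom v))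
    have h3 : IsAffineHom (Red.bc v G).hom := inferInstanceAs (IsAffineHom (pullback.snd G.hom v))
    obtain ⟨Q', q', hq', hQ', -⟩ := AdQuot.exists_quot B (Red.bc v G) (Red.bc v H) h3 h2 ((Over.pullback v).map i) h1
      M hsp
    exact ⟨_, v, hv, hs, Q', q', isQuotient_of_isQuot hq', hQ'⟩
  refine ⟨Q, p, hq, hQ, ?_⟩
  have h1 := hq.1
  have h2 := hq.2.1
  have h3 := hq.2.2.1
  have h4 : Smooth (p.left ≫ Q.hom) := by rw [Over.w]; infer_instance
  exact Groth.Agent.S0115.result p.left Q.hom

/-- **The quotient of a reductive group by a normal subgroup of multiplicative type.** -/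
theorem main (hG : Red.IsReductive G) (q : H ⟶ G) [IsMonHom q] [Mono q] (hnorm : AlgGrp.IsNormalHom q)
    (hQ : SGA3x.IsMultTypeFT H) :
    (∀ (X X' : Over S) (x : X ⟶ H) (y : X' ⟶ X) (g : X' ⟶ G), (y ≫ x ≫ q) * g = g * (y ≫ x ≫ q)) ∧
      ∃ (G' : Over S) (_ : GrpObj G') (p : G ⟶ G'), IsMonHom p ∧ _root_.RedSub.IsQuotient q p ∧
        Red.IsReductive G' := by
  refine ⟨fun X X' x y g => ?_, ?_⟩
  · have := central_of_normal (IsoFam.isConnected_fibre_of_isReductive hG) q hnorm hQ X' g (y ≫ x)
    rw [Category.assoc] at this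
    exact this.symm
  · have hGa : IsAffineHom G.hom := hG.1
    have hGs : Smooth G.hom := hG.2.1
    obtain ⟨G', p, hp, hG'a, hG's⟩ := exists_quotient q hQ
    obtain ⟨grp, hmon, -⟩ := Groth.Agent.S5236.result q hnorm p hp
    refine ⟨G', grp, p, hmon, hp, hG'a, hG's, fun s => ?_⟩
    have h1 : Flat ((Over.pullback (Red.geomPt s)).map p).left :=
      MorphismProperty.of_isPullback (P := @Flat) (SplitBc264.isPullback_map_left (Red.geomPt s) p) hp.2.1
    have h2 : Surjective ((Over.pullback (Red.geomPt s)).map p).left :=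
      MorphismProperty.of_isPullback (P := @Surjective) (SplitBc264.isPullback_map_left (Red.geomPt s) p) hp.1
    have h3 : QuasiCompact (Red.geomFibre s G').hom := inferInstanceAs (QuasiCompact (pullback.snd G'.hom _))
    have h4 : LocallyOfFiniteType (Red.geomFibre s G').hom :=
      inferInstanceAs (LocallyOfFiniteType (pullback.snd G'.hom _))
    exact Groth.Agent.S14762.result _ (Red.geomFibre s G) (Red.geomFibre s G') (hG.2.2 s)
      ((Over.pullback (Red.geomPt s)).map p)

end K195.MultQuot
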