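import Groth.Agent.RedSub.K195.NormPt
import Groth.Agent.RedSub.H643.TypeRTorus
import Groth.Agent.RedSub.H652.FibOpen
import Groth.Agent.AGF.K501.NormPts
import Groth.Agent.AlgSp.K597.EffDesc
import Groth.Agent.AlgSp.K595.DescInst
import Groth.Agent.FormalA.ProperOver
import Groth.Agent.RedSub.H650.QuotPts
import Groth.Agent.AlgSp.K618.Sch

/-!
# The quotient `N/H` for `H` a closed subgroup of type (R) with normaliser `N` is finite
-/

set_option autoImplicit false
set_option linter.unusedSectionVars false

universe u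

open CategoryTheory MonoidalCategory CartesianMonoidalCategory MonObj GrpObj AlgebraicGeometry Limits

namespace K195.NormFin

open Groth.Agent Groth.Agent.Sga3B Groth.Agent.Sga3B.IsomCore Groth.Agent.RedSub.H647.WeylLoc
  Groth.Agent.RedSub.H647.NormQuot

variable {S : Scheme.{u}} {G H N : Over S} [GrpObj G] [GrpObj H] [GrpObj N]

lemma map_comp_iso {S' S'' : Scheme.{u}} (f : S' ⟶ S) (g : S'' ⟶ S') {X Y : Over S} (k : X ⟶ Y)
    (h : IsOpenImmersion ((Over.pullback g).map ((Over.pullback f).map k)).left) :
    IsOpenImmersion ((Over.pullback (g ≫ f)).map k).left := by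
  have h1 := (Over.pullbackComp g f).hom.naturality k
  have h2 : (Over.pullback (g ≫ f)).map k = (Over.pullbackComp g f).hom.app X ≫
      (Over.pullback g).map ((Over.pullback f).map k) ≫ (Over.pullbackComp g f).inv.app Y := by
    have h3 := congrArg (fun z => z ≫ (Over.pullbackComp g f).inv.app Y) h1
    simp only [Category.assoc, Iso.hom_inv_id_app, Category.comp_id] at h3
    exact h3
  rw [h2, Over.comp_left, Over.comp_left]
  have h4 : IsIso ((Over.pullbackComp g f).hom.app X).left :=
    inferInstanceAs (IsIso ((Over.forget _).map ((Over.pullbackComp g f).hom.app X)))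
  have h5 : IsIso ((Over.pullbackComp g f).inv.app Y).left :=
    inferInstanceAs (IsIso ((Over.forget _).map ((Over.pullbackComp g f).inv.app Y)))
  infer_instance

/-- **A closed subgroup of type (R) is open in its normaliser.** -/
theorem isOpenImmersion_norm (hG : Red.IsReductive G) (h : H ⟶ G) (hH : _root_.RedSub.IsTypeR h)
    (hcl : IsClosedImmersion h.left) (n : N ⟶ G) (hN : Red.IsNormalizerOf h n) (hncl : IsClosedImmersion n.left)
    (hNs : Smooth N.hom) (kN : H ⟶ N) (hkN : kN ≫ n = h) : IsOpenImmersion kN.left := by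
  have hHs : Smooth H.hom := hH.2.1
  refine RedSub.H652.FibOpen.isOpenImmersion_of_fibres kN fun s => ?_
  obtain ⟨U, f, hf, ⟨v, rfl⟩, D, t, ht⟩ := RedSub.H643.TypeRTorus.exists_splitRed_into hG h hH s
  refine ⟨_, inferInstance, Red.geomPt v ≫ f, ?_, ?_⟩
  · rw [Scheme.Hom.comp_apply, RedSub.H652.FibOpen.geomPt_closedPoint]
  · apply map_comp_iso
    have g1 := RedSub.H648.TypeR.isTypeR_bc f hG hH
    have g2 := RedSub.H648.TypeR.isTypeR_bc (Red.geomPt v) (RedBc892U.isReductive_bc f hG) g1
    have c1 : IsClosedImmersion ((Over.pullback f).map h).left :=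
      MorphismProperty.of_isPullback (SplitBc264.isPullback_map_left f h) hcl
    have c2 : IsClosedImmersion ((Over.pullback (Red.geomPt v)).map ((Over.pullback f).map h)).left :=
      MorphismProperty.of_isPullback (SplitBc264.isPullback_map_left _ _) c1
    have d1 : IsClosedImmersion ((Over.pullback f).map n).left :=
      MorphismProperty.of_isPullback (SplitBc264.isPullback_map_left f n) hncl
    have d2 : IsClosedImmersion ((Over.pullback (Red.geomPt v)).map ((Over.pullback f).map n)).left :=
      MorphismProperty.of_isPullback (SplitBc264.isPullback_map_left _ _) d1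
    have e1 := K501.NormPts.isNormalizerOf_bc f hN
    have e2 := K501.NormPts.isNormalizerOf_bc (Red.geomPt v) e1
    have s1 : Smooth (Red.bc f N).hom := inferInstanceAs (Smooth (pullback.snd _ _))
    have s2 : Smooth (Red.bc (Red.geomPt v) (Red.bc f N)).hom := inferInstanceAs (Smooth (pullback.snd _ _))
    refine NormPt.isOpenImmersion_field (SplitBc264.splitBc (Red.geomPt v) D)
      ((Over.pullback (Red.geomPt v)).map ((Over.pullback f).map h)) g2 c2
      ((Over.pullback (Red.geomPt v)).map t) ?_ ((Over.pullback (Red.geomPt v)).map ((Over.pullback f).map n)) e2 s2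
      ((Over.pullback (Red.geomPt v)).map ((Over.pullback f).map kN)) ?_ d2
    · exact ((Over.pullback (Red.geomPt v)).map_comp t _).symm.trans (congrArg _ ht)
    · rw [← Functor.map_comp, ← Functor.map_comp, hkN]

/-- The points `n_w` in `N`, and the morphism to `N/H`, are jointly surjective. -/
theorem exists_preimage (D : Red.SplitRed G) (h : H ⟶ G) (hH : _root_.RedSub.IsTypeR h) (t : D.T ⟶ H)
    (ht : t ≫ h = D.i) (n : N ⟶ G) (hN : Red.IsNormalizerOf h n) (kN : H ⟶ N) (hkN : kN ≫ n = h) {Q : Over S}
    (p : N ⟶ Q) (hp : _root_.RedSub.IsQuotient kN p) (x : Q.left) :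
    ∃ w : D.P.weylGroup, x ∈ Set.range (pullback.snd (nw D w).left n.left ≫ p.left) := by
  have hnm := hN.1
  have hhm := hH.1.1
  obtain ⟨x', hx'⟩ := hp.1.surj x
  let K : Type u := AlgebraicClosure (N.left.residueField x')
  let a₀ : Spec (CommRingCat.of K) ⟶ N.left := Red.geomPt x'
  have ha₀ : a₀ (IsLocalRing.closedPoint K) = x' := RedSub.H652.FibOpen.geomPt_closedPoint x'
  let a : Over.mk (a₀ ≫ N.hom) ⟶ N := Over.homMk a₀
  obtain ⟨w, y, hy⟩ := NormPt.exists_rep D h hH t ht (a₀ ≫ N.hom) (a ≫ n)
    (fun X' x' y => ((hN.2.2 _ (a ≫ n)).1 ⟨a, rfl⟩ X' x' y).2)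
  let b : Over.mk (a₀ ≫ N.hom) ⟶ N := a * (y⁻¹ ≫ kN)
  have hkm : IsMonHom kN := by
    have := hN.2.1
    have := hH.1.1
    apply Pts.isMonHom_of_points
    intro X x y
    rw [← cancel_mono n, Category.assoc, hkN, MonObj.mul_comp, MonObj.mul_comp, Category.assoc, Category.assoc, hkN]
  have hb : b ≫ n = toUnit _ ≫ nw D w := by
    change (a * (y⁻¹ ≫ kN)) ≫ n = nwX D w _
    rw [MonObj.mul_comp, Category.assoc y⁻¹ kN n, hkN, hy, GrpObj.inv_comp, mul_inv_cancel_right]
  have hbp : b ≫ p = a ≫ p := RedSub.H650.QuotPts.mul_comp hp a y⁻¹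
  refine ⟨w, (pullback.lift (toUnit (Over.mk (a₀ ≫ N.hom))).left b.left (by
    rw [← Over.comp_left, ← Over.comp_left, hb])) (IsLocalRing.closedPoint K), ?_⟩
  rw [← Scheme.Hom.comp_apply, ← Category.assoc, pullback.lift_snd, ← Over.comp_left, hbp, Over.comp_left,
    Scheme.Hom.comp_apply]
  exact (congrArg p.left ha₀).trans hx'

/-- **The quotient `N/H` is finite.** -/
theorem isFinite_quot (hG : Red.IsReductive G) (h : H ⟶ G) (hH : _root_.RedSub.IsTypeR h)
    (n : N ⟶ G) (hN : Red.IsNormalizerOf h n) (hncl : IsClosedImmersion n.left)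
    (kN : H ⟶ N) (hkN : kN ≫ n = h) {Q : Over S} (p : N ⟶ Q) (hp : _root_.RedSub.IsQuotient kN p)
    (hQs : IsSeparated Q.hom) (hQe : Etale Q.hom) (hQq : QuasiCompact Q.hom) : IsFinite Q.hom := by
  have hdesc := K595.DescInst.isFinite.{u}
  refine K597.EffDesc.prop_of_etale_local @IsFinite Q.hom fun s => ?_
  obtain ⟨U, f, hf, ⟨v, hv⟩, D, t, ht⟩ := RedSub.H643.TypeRTorus.exists_splitRed_into hG h hH s
  refine ⟨U, f, _, pullback.fst Q.hom f, pullback.snd Q.hom f, hf, ⟨v, hv⟩, IsPullback.of_hasPullback _ _, ?_⟩
  have g1 := RedSub.H648.TypeR.isTypeR_bc f hG hH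
  have d1 : IsClosedImmersion ((Over.pullback f).map n).left :=
    MorphismProperty.of_isPullback (SplitBc264.isPullback_map_left f n) hncl
  have e1 := K501.NormPts.isNormalizerOf_bc f hN
  have hkmono : Mono kN := by
    have h2 := hH.1.2
    have : Mono h := Over.mono_of_mono_left h
    have : Mono (kN ≫ n) := by rw [hkN]; infer_instance
    exact mono_of_mono kN n
  have hp' := RedSub.H650.QuotPts.isQuotient_bc f hp
  have hne : Nonempty U := ⟨v⟩
  have hfin : Finite D.P.weylGroup := finite_weyl D
  have k1 : (Over.pullback f).map kN ≫ (Over.pullback f).map n = (Over.pullback f).map h := by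
    rw [← Functor.map_comp, hkN]
  have key := exists_preimage D ((Over.pullback f).map h) g1 t ht ((Over.pullback f).map n) e1
    ((Over.pullback f).map kN) k1 ((Over.pullback f).map p) hp'
  rw [IsFinite.iff_isProper_and_locallyQuasiFinite]
  have huc : UniversallyClosed (pullback.snd Q.hom f) := by
    refine FormalA.ProperOver.universallyClosed_of_jointly_surjective (pullback.snd Q.hom f)
      (fun w : D.P.weylGroup => pullback (nw D w).left ((Over.pullback f).map n).left)
      (fun w => pullback.snd (nw D w).left ((Over.pullback f).map n).left ≫ ((Over.pullback f).map p).left) key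
      fun w => ?_
    have e2 : (pullback.snd (nw D w).left ((Over.pullback f).map n).left ≫ ((Over.pullback f).map p).left) ≫
        pullback.snd Q.hom f = pullback.fst (nw D w).left ((Over.pullback f).map n).left := by
      have e3 : ((Over.pullback f).map p).left ≫ pullback.snd Q.hom f = ((Over.pullback f).map n).left ≫
          ((Over.pullback f).obj G).hom := by
        rw [Over.w ((Over.pullback f).map n)]
        exact Over.w ((Over.pullback f).map p)
      rw [Category.assoc, e3, ← pullback.condition_assoc]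
      have e4 := Over.w (nw D w)
      have e5 : (nw D w).left ≫ ((Over.pullback f).obj G).hom = 𝟙 U := e4
      rw [e5]
      exact Category.comp_id _
    rw [e2]
    infer_instance
  refine ⟨?_, ?_⟩
  · have h1 : IsSeparated (pullback.snd Q.hom f) := inferInstance
    have h2 : LocallyOfFiniteType (pullback.snd Q.hom f) := inferInstance
    exact { }
  · have h3 : Etale (pullback.snd Q.hom f) := inferInstance
    exact K618.Sch.locallyQuasiFinite_of_etale _

end K195.NormFin
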