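import Groth.Agent.RedSub.K195.ConjTor
import Groth.Agent.RedSub.K195.WeylConn
import Groth.Agent.RedSub.H647.NormQuot
import Groth.Agent.RedSub.H650.ValAC
import Groth.Agent.Pic13.H703.KPoints
import Groth.Agent.Flat2B.SmoothGeom

/-!
# Points of the normaliser of a subgroup of type (R)

* `exists_rep`: over an algebraically closed field a point normalising `H` is in `n_w H` for some `w` in the Weyl group;
* `isOpenImmersion_field`: over an algebraically closed field a closed subgroup of type (R) is open in its normaliser.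
-/

set_option autoImplicit false
set_option linter.unusedSectionVars false

universe u

open CategoryTheory MonoidalCategory CartesianMonoidalCategory MonObj GrpObj AlgebraicGeometry Limits

namespace K195.NormPt

open Groth.Agent Groth.Agent.Sga3B Groth.Agent.Sga3B.IsomCore Groth.Agent.RedSub.H647.WeylLoc
  Groth.Agent.RedSub.H647.NormQuot

variable {S : Scheme.{u}} {G H N : Over S} [GrpObj G] [GrpObj H] [GrpObj N]

/-- Points over an algebraically closed field. -/
theorem exists_rep {K : Type u} [Field K] [IsAlgClosed K] (D : Red.SplitRed G) (h : H ⟶ G)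
    (hH : _root_.RedSub.IsTypeR h) (t : D.T ⟶ H) (ht : t ≫ h = D.i) (s : Spec (CommRingCat.of K) ⟶ S)
    (g : Over.mk s ⟶ G)
    (hg : ∀ (X' : Over S) (x : X' ⟶ Over.mk s) (y : X' ⟶ H), ∃ y' : X' ⟶ H,
      (x ≫ g)⁻¹ * (y ≫ h) * (x ≫ g) = y' ≫ h) :
    ∃ (w : D.P.weylGroup) (y : Over.mk s ⟶ H), g = nwX D w _ * (y ≫ h) := by
  have h1 := hH.1.1
  have h2 := hH.1.2
  have hmono : Mono h := Over.mono_of_mono_left h
  have htm : IsMonHom t := by
    have := D.maximalTorus.1
    have : IsMonHom (t ≫ h) := by rw [ht]; infer_instance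
    apply Pts.isMonHom_of_points
    intro X x y
    rw [← cancel_mono h, Category.assoc, MonObj.mul_comp x y (t ≫ h), MonObj.mul_comp, Category.assoc, Category.assoc]
  have hT : Red.IsMaximalTorus (t ≫ h) := by rw [ht]; exact D.maximalTorus
  let p : ↥(Over.mk s).left := IsLocalRing.closedPoint K
  obtain ⟨Y, f, hf, hp, y, hy⟩ := ConjTor.exists_etale D.reductive h hH t hT (Over.mk s) g hg p
  obtain ⟨y₀, hy₀⟩ := hp
  have hne : Nonempty Y := ⟨y₀⟩
  obtain ⟨σ, hσ⟩ := Pic13.H703.KPoints.exists_section (K := K) f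
  let τ : Over.mk s ⟶ Over.mk (f ≫ (Over.mk s).hom) := Over.homMk σ (by
    change σ ≫ f ≫ s = s
    rw [reassoc_of% hσ])
  have hτ : τ ≫ (Over.homMk f : Over.mk (f ≫ (Over.mk s).hom) ⟶ Over.mk s) = 𝟙 _ := by
    apply Over.OverMorphism.ext
    exact hσ
  have hn : Normalises D (g * ((τ ≫ y) ≫ h)⁻¹) := by
    intro X x u
    obtain ⟨u', hu'⟩ := (hy X (x ≫ τ)).1 (u ≫ D.split.inv.hom.hom)
    refine ⟨u' ≫ D.split.hom.hom.hom, ?_⟩
    have e3 : (x ≫ τ) ≫ ((Over.homMk f ≫ g) * (y ≫ h)⁻¹) = x ≫ (g * ((τ ≫ y) ≫ h)⁻¹) := by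
      rw [MonObj.comp_mul, MonObj.comp_mul, GrpObj.comp_inv, GrpObj.comp_inv, Category.assoc, Category.assoc,
        reassoc_of% hτ, Category.assoc]
    rw [e3] at hu'
    rw [dT_hom, ← ht, ← hu', dT, ht]
    simp only [Category.assoc]
  have hconn : ConnectedSpace ↥(Over.mk s).left := inferInstanceAs (ConnectedSpace (PrimeSpectrum K))
  obtain ⟨w, hw, hact⟩ := WeylConn.exists_acts_of_connected hn
  have e1 : ∀ m, w.weightMap ((w⁻¹).weightMap m) = m := fun m => by
    have h4 : (w * w⁻¹).weightMap m = m := by rw [mul_inv_cancel]; rfl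
    exact h4
  have e2 : ∀ m, (w⁻¹).weightMap (w.weightMap m) = m := fun m => by
    have h4 : (w⁻¹ * w).weightMap m = m := by rw [inv_mul_cancel]; rfl
    exact h4
  obtain ⟨u, hu⟩ := exists_torus (φ' := (w⁻¹).weightMap.toAddMonoidHom) (nwX_acts (D := D) ⟨w, hw⟩ (Over.mk s)) hact
    (AddMonoidHom.ext e2) (AddMonoidHom.ext e1)
  refine ⟨⟨w, hw⟩, ((u ≫ D.split.inv.hom.hom) ≫ t) * (τ ≫ y), ?_⟩
  have h5 : ((u ≫ D.split.inv.hom.hom) ≫ t) ≫ h = dT D u := by
    rw [Category.assoc, ht, dT, Category.assoc]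
  rw [MonObj.mul_comp, h5, ← _root_.mul_assoc, ← hu]
  group

/-- A closed immersion with open range into a reduced scheme is an open immersion. -/
lemma isOpenImmersion_of_range {X Y : Scheme.{u}} (f : X ⟶ Y) [IsClosedImmersion f] [IsReduced Y]
    (hr : IsOpen (Set.range f)) : IsOpenImmersion f := by
  let U : Y.Opens := ⟨Set.range f, hr⟩
  let f' : X ⟶ U := IsOpenImmersion.lift U.ι f (by
    rw [Scheme.Opens.range_ι]
    exact subset_rfl)
  have hf' : f' ≫ U.ι = f := IsOpenImmersion.lift_fac _ _ _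
  have h1 : IsClosedImmersion (f' ≫ U.ι) := by rw [hf']; infer_instance
  have h2 : IsClosedImmersion f' := IsClosedImmersion.of_comp f' U.ι
  have h3 : Surjective f' := by
    refine ⟨fun y => ?_⟩
    obtain ⟨x, hx⟩ := y.2
    refine ⟨x, U.ι.isOpenEmbedding.injective ?_⟩
    rw [← Scheme.Hom.comp_apply, hf', hx]
    rfl
  have h4 : IsIso f' := isIso_of_isClosedImmersion_of_surjective f'
  rw [← hf']
  infer_instance

/-- Left translation by a point. -/
noncomputable def lt (m : 𝟙_ (Over S) ⟶ N) : N ≅ N where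
  hom := (toUnit _ ≫ m) * 𝟙 N
  inv := (toUnit _ ≫ m)⁻¹ * 𝟙 N
  hom_inv_id := by
    rw [MonObj.comp_mul, Category.comp_id, GrpObj.comp_inv, ← Category.assoc, toUnit_unique (_ ≫ toUnit _) (toUnit _)]
    group
  inv_hom_id := by
    rw [MonObj.comp_mul, Category.comp_id, ← Category.assoc, toUnit_unique (_ ≫ toUnit _) (toUnit _)]
    group

lemma comp_lt (m : 𝟙_ (Over S) ⟶ N) {X : Over S} (x : X ⟶ N) : x ≫ (lt m).hom = (toUnit _ ≫ m) * x := by
  change x ≫ ((toUnit _ ≫ m) * 𝟙 N) = _
  rw [MonObj.comp_mul, Category.comp_id, ← Category.assoc, toUnit_unique (_ ≫ toUnit _) (toUnit _)]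

section field

variable {K : Type u} [Field K] [IsAlgClosed K] {G H N : Over (Spec (CommRingCat.of K))} [GrpObj G] [GrpObj H] [GrpObj N]

/-- The rational point at a closed point. -/
lemma exists_pt (X : Over (Spec (CommRingCat.of K))) [LocallyOfFiniteType X.hom] {z : X.left} (hz : IsClosed {z}) :
    ∃ x : Over.mk (𝟙 (Spec (CommRingCat.of K))) ⟶ X, z ∈ Set.range x.left :=
  ⟨Over.homMk (pointOfClosedPoint X.hom z hz) (pointOfClosedPoint_comp X.hom z hz),
    ⟨IsLocalRing.closedPoint K, pointOfClosedPoint_apply X.hom z hz _⟩⟩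

/-- **Over an algebraically closed field a closed subgroup of type (R) is open in its normaliser.** -/
theorem isOpenImmersion_field (D : Red.SplitRed G) (h : H ⟶ G) (hH : _root_.RedSub.IsTypeR h)
    (hcl : IsClosedImmersion h.left) (t : D.T ⟶ H) (ht : t ≫ h = D.i) (n : N ⟶ G) (hN : Red.IsNormalizerOf h n)
    (hNs : Smooth N.hom) (kN : H ⟶ N) (hkN : kN ≫ n = h) (hncl : IsClosedImmersion n.left) :
    IsOpenImmersion kN.left := by
  classical
  have hnm := hN.1
  have hnmono := hN.2.1
  have hmono : Mono h := Over.mono_of_mono_left h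
  have hkm : IsMonHom kN := by
    have := hH.1.1
    apply Pts.isMonHom_of_points
    intro X x y
    rw [← cancel_mono n, Category.assoc, hkN, MonObj.mul_comp, MonObj.mul_comp, Category.assoc, Category.assoc, hkN]
  have hk1 : IsClosedImmersion (kN.left ≫ n.left) := by
    rw [← Over.comp_left, hkN]
    exact hcl
  have hk2 : IsClosedImmersion kN.left := IsClosedImmersion.of_comp kN.left n.left
  have hred : IsReduced N.left := Flat2B.SmoothGeom.isReduced_of_smooth N.hom
  have hfin : Finite D.P.weylGroup := finite_weyl D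
  let U₀ : Over (Spec (CommRingCat.of K)) := Over.mk (𝟙 _)
  let W' := {w : D.P.weylGroup // ∃ m : 𝟙_ (Over (Spec (CommRingCat.of K))) ⟶ N, m ≫ n = nw D w}
  choose m hm using fun w : W' => w.2
  let ν : W' → (H ⟶ N) := fun w => kN ≫ (lt (m w)).hom
  have hν : ∀ w, IsClosedImmersion (ν w).left := fun w => by
    change IsClosedImmersion (kN ≫ (lt (m w)).hom).left
    rw [Over.comp_left]
    infer_instance
  have hνx : ∀ (w : W') {X : Over (Spec (CommRingCat.of K))} (y : X ⟶ H), y ≫ ν w = (toUnit _ ≫ m w) * (y ≫ kN) := by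
    intro w X y
    change y ≫ kN ≫ (lt (m w)).hom = _
    rw [← Category.assoc, comp_lt]
  -- rational points
  have key : ∀ x : U₀ ⟶ N, ∃ (w : W') (y : U₀ ⟶ H), x = y ≫ ν w := by
    intro x
    obtain ⟨w, y, hy⟩ := exists_rep D h hH t ht (𝟙 _) (x ≫ n)
      (fun X' x' y => ((hN.2.2 _ (x ≫ n)).1 ⟨x, rfl⟩ X' x' y).2)
    have h1 : (x * (y ≫ kN)⁻¹) ≫ n = nwX D w U₀ := by
      rw [MonObj.mul_comp, GrpObj.inv_comp, Category.assoc, hkN, hy, mul_inv_cancel_right]
    have h2 : (toUnit (𝟙_ (Over (Spec (CommRingCat.of K)))) : 𝟙_ _ ⟶ 𝟙_ _) = 𝟙 _ := toUnit_unique _ _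
    let ι₀ : 𝟙_ (Over (Spec (CommRingCat.of K))) ⟶ U₀ := Over.homMk (𝟙 _) (Category.id_comp _)
    let w' : W' := ⟨w, ι₀ ≫ (x * (y ≫ kN)⁻¹), by
      rw [Category.assoc, h1, comp_nwX, nwX, h2]
      exact Category.id_comp _⟩
    refine ⟨w', y, ?_⟩
    rw [hνx, ← cancel_mono n, MonObj.mul_comp, Category.assoc, hm, Category.assoc, hkN]
    exact hy
  have hjac : JacobsonSpace ↥N.left := LocallyOfFiniteType.jacobsonSpace N.hom
  -- ranges are equal or disjoint
  have hdisj : ∀ w : W', (Set.range (ν w).left ∩ Set.range kN.left).Nonempty →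
      Set.range (ν w).left = Set.range kN.left := by
    intro w hne
    obtain ⟨z, ⟨hz1, hz2⟩, hz⟩ := Pic13.H703.KPoints.exists_closedPoint_mem _
      ((ν w).left.isClosedEmbedding.isClosed_range.inter kN.left.isClosedEmbedding.isClosed_range) hne
    have h3 : ∀ (f : H ⟶ N) [IsClosedImmersion f.left], z ∈ Set.range f.left → ∃ y : U₀ ⟶ H,
        (y ≫ f).left (IsLocalRing.closedPoint K) = z := by
      intro f _ hzf
      obtain ⟨a, ha⟩ := hzf
      have hac : IsClosed ({a} : Set H.left) := by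
        have e1 : ({a} : Set H.left) = f.left ⁻¹' {z} := by
          ext b
          constructor
          · intro hb
            rw [Set.mem_singleton_iff.1 hb]
            exact ha
          · intro hb
            exact f.left.isClosedEmbedding.injective (hb.trans ha.symm)
        rw [e1]
        exact hz.preimage f.left.continuous
      have hlft : LocallyOfFiniteType H.hom := by
        rw [← Over.w f]
        infer_instance
      refine ⟨Over.homMk (pointOfClosedPoint H.hom a hac) (pointOfClosedPoint_comp H.hom a hac), ?_⟩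
      rw [Over.comp_left, Scheme.Hom.comp_apply]
      exact (congrArg f.left (pointOfClosedPoint_apply H.hom a hac _)).trans ha
    obtain ⟨y, hy⟩ := h3 (ν w) hz1
    obtain ⟨y', hy'⟩ := h3 kN hz2
    have h4 : y ≫ ν w = y' ≫ kN := by
      apply Over.OverMorphism.ext
      refine ext_of_apply_closedPoint_eq N.hom ?_ ?_ ?_
      · exact Over.w (y ≫ ν w)
      · exact Over.w (y' ≫ kN)
      · exact hy.trans hy'.symm
    -- `ν w` is a translate of `kN` by a point of `H`
    have h5 : (toUnit U₀ ≫ m w) = ((y' * y⁻¹) ≫ kN) := by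
      rw [hνx] at h4
      rw [MonObj.mul_comp, GrpObj.inv_comp, ← h4, mul_inv_cancel_right]
    let ι₀ : 𝟙_ (Over (Spec (CommRingCat.of K))) ⟶ U₀ := Over.homMk (𝟙 _) (Category.id_comp _)
    have h6 : m w = (ι₀ ≫ (y' * y⁻¹)) ≫ kN := by
      rw [Category.assoc, ← h5, ← Category.assoc, toUnit_unique (ι₀ ≫ toUnit U₀) (𝟙 _), Category.id_comp]
    have h7 : ν w = (lt (ι₀ ≫ (y' * y⁻¹))).hom ≫ kN := by
      have e1 := hνx w (𝟙 H)
      rw [Category.id_comp, Category.id_comp] at e1
      rw [e1, h6]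
      change _ = ((toUnit H ≫ ι₀ ≫ (y' * y⁻¹)) * 𝟙 H) ≫ kN
      rw [MonObj.mul_comp, Category.id_comp]
      simp only [Category.assoc]
    have h8 : Surjective (lt (ι₀ ≫ (y' * y⁻¹))).hom.left := inferInstance
    rw [h7, Over.comp_left]
    ext a
    constructor
    · rintro ⟨b, rfl⟩
      rw [Scheme.Hom.comp_apply]
      exact ⟨_, rfl⟩
    · rintro ⟨b, rfl⟩
      obtain ⟨c, rfl⟩ := h8.surj b
      exact ⟨c, by rw [Scheme.Hom.comp_apply]⟩
  -- everything is covered
  have hcov : (⋃ w : W', Set.range (ν w).left) = Set.univ := by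
    have h9 : IsClosed (⋃ w : W', Set.range (ν w).left) :=
      isClosed_iUnion_of_finite fun w => (ν w).left.isClosedEmbedding.isClosed_range
    have h10 : closedPoints ↥N.left ⊆ ⋃ w : W', Set.range (ν w).left := by
      intro z hz
      obtain ⟨x, hx⟩ := exists_pt N hz
      obtain ⟨w, y, rfl⟩ := key x
      obtain ⟨p, hp⟩ := hx
      refine Set.mem_iUnion.2 ⟨w, y.left p, ?_⟩
      rw [← Scheme.Hom.comp_apply, ← Over.comp_left]
      exact hp
    have h11 := closure_closedPoints (X := ↥N.left)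
    rw [Set.eq_univ_iff_forall]
    intro z
    have h12 : z ∈ closure (closedPoints ↥N.left) := by rw [h11]; trivial
    exact (closure_minimal h10 h9) h12
  have hop : IsOpen (Set.range kN.left) := by
    have h13 : Set.range kN.left = (⋃ w : {w : W' // ¬ (Set.range (ν w).left ∩ Set.range kN.left).Nonempty},
        Set.range (ν w.1).left)ᶜ := by
      ext a
      constructor
      · intro ha hb
        obtain ⟨w, hw⟩ := Set.mem_iUnion.1 hb
        exact w.2 ⟨a, hw, ha⟩
      · intro ha
        have h14 : a ∈ ⋃ w : W', Set.range (ν w).left := by rw [hcov]; trivial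
        obtain ⟨w, hw⟩ := Set.mem_iUnion.1 h14
        by_cases hc : (Set.range (ν w).left ∩ Set.range kN.left).Nonempty
        · rw [← hdisj w hc]
          exact hw
        · exact absurd (Set.mem_iUnion.2 ⟨⟨w, hc⟩, hw⟩) ha
    rw [h13, isOpen_compl_iff]
    exact isClosed_iUnion_of_finite fun w => (ν w.1).left.isClosedEmbedding.isClosed_range
  exact isOpenImmersion_of_range kN.left hop

end field

end K195.NormPt
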