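import Groth.Agent.AlgSp.K607.FpQuot
import Groth.Agent.AlgSp.K609.Sep
import Groth.Agent.AlgSp.K595.DescInst
import Groth.Agent.AlgSp.K595.DiagRel
import Groth.Agent.AlgSp.K618.Sch
import Groth.Agent.S10259
import Groth.Agent.AlgSp.K638.QfNhd
import Groth.Agent.RedSub.H650.QuotPts
import Groth.Agent.RedSub.H661.SmoothMul
import Groth.Agent.S0114
import Groth.Agent.S0115
import Groth.Agent.Sga3.H771.QcDesc

/-!
# Quotients by open and closed subgroups

`exists_quotient`: `N` a flat, locally finitely presented, quasi-compact group scheme over `S` and `k : H ⟶ N` an open and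
closed subgroup: the quotient `N / H` is a separated étale quasi-compact scheme over `S`.
-/

set_option autoImplicit false
set_option linter.unusedSectionVars false

universe u

open CategoryTheory MonoidalCategory CartesianMonoidalCategory MonObj GrpObj AlgebraicGeometry Limits AlgSp

namespace K195.OpenQuot

variable {S : Scheme.{u}} {N H : Over S} [GrpObj N] [GrpObj H] (k : H ⟶ N)

/-- the action map -/
noncomputable def act : N ⊗ H ⟶ N := (N ◁ k) ≫ μ[N]

lemma comp_act {X : Over S} (r : X ⟶ N ⊗ H) : r ≫ act k = (r ≫ fst N H) * ((r ≫ snd N H) ≫ k) := by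
  have h1 := Groth.Agent.RedSub.H650.QuotPts.lift_comp k (r ≫ fst N H) (r ≫ snd N H)
  rw [← h1]
  congr 1
  rw [← comp_lift, lift_fst_snd, Category.comp_id]

lemma isEqvRel [IsMonHom k] [Mono k] : IsEqvRel (act k) (fst N H) where
  injective T r r' h1 h2 := by
    rw [comp_act, comp_act, h1] at h2
    have h3 : r ≫ snd N H = r' ≫ snd N H := by
      rw [← cancel_mono k]
      exact mul_left_cancel h2
    exact CartesianMonoidalCategory.hom_ext _ _ h1 h3
  equivalence T :=
    { refl := fun a => ⟨lift a 1, by rw [lift_fst], by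
        rw [comp_act, lift_fst, lift_snd, MonObj.one_comp, _root_.mul_one]⟩
      symm := by
        rintro a b ⟨r, rfl, h⟩
        rw [comp_act] at h
        refine ⟨lift b (r ≫ snd N H)⁻¹, by rw [lift_fst], ?_⟩
        rw [comp_act, lift_fst, lift_snd, GrpObj.inv_comp, ← h, mul_inv_cancel_right]
      trans := by
        rintro a b c ⟨r, rfl, h⟩ ⟨r', rfl, h'⟩
        rw [comp_act] at h h'
        refine ⟨lift (r ≫ fst N H) ((r ≫ snd N H) * (r' ≫ snd N H)), by rw [lift_fst], ?_⟩
        rw [comp_act, lift_fst, lift_snd, MonObj.mul_comp, ← _root_.mul_assoc, h, h'] }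

/-- the shearing automorphism -/
noncomputable def shear (N : Over S) [GrpObj N] : N ⊗ N ≅ N ⊗ N where
  hom := lift (fst N N) (fst N N * snd N N)
  inv := lift (fst N N) ((fst N N)⁻¹ * snd N N)
  hom_inv_id := by
    apply CartesianMonoidalCategory.hom_ext
    · rw [Category.assoc, lift_fst, lift_fst, Category.id_comp]
    · rw [Category.assoc, lift_snd, Category.id_comp, MonObj.comp_mul, GrpObj.comp_inv, lift_fst, lift_snd,
        inv_mul_cancel_left]
  inv_hom_id := by
    apply CartesianMonoidalCategory.hom_ext
    · rw [Category.assoc, lift_fst, lift_fst, Category.id_comp]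
    · rw [Category.assoc, lift_snd, Category.id_comp, MonObj.comp_mul, lift_fst, lift_snd, mul_inv_cancel_left]

lemma lift_eq : lift (fst N H) (act k) = (N ◁ k) ≫ (shear N).hom := by
  apply CartesianMonoidalCategory.hom_ext
  · rw [lift_fst, Category.assoc]
    change _ = (N ◁ k) ≫ lift (fst N N) (fst N N * snd N N) ≫ fst N N
    rw [lift_fst, whiskerLeft_fst]
  · rw [lift_snd, Category.assoc]
    change _ = (N ◁ k) ≫ lift (fst N N) (fst N N * snd N N) ≫ snd N N
    rw [lift_snd, MonObj.comp_mul, whiskerLeft_fst, whiskerLeft_snd]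
    have h := comp_act k (𝟙 (N ⊗ H))
    rw [Category.id_comp, Category.id_comp, Category.id_comp] at h
    exact h

/-- the automorphism `(n, h) ↦ (n k(h), h)` -/
noncomputable def shear2 [IsMonHom k] : N ⊗ H ≅ N ⊗ H where
  hom := lift (act k) (snd N H)
  inv := lift (fst N H * (snd N H ≫ k)⁻¹) (snd N H)
  hom_inv_id := by
    apply CartesianMonoidalCategory.hom_ext
    · rw [Category.assoc, lift_fst, Category.id_comp, MonObj.comp_mul, GrpObj.comp_inv, lift_fst, ← Category.assoc,
        lift_snd]
      have h := comp_act k (𝟙 (N ⊗ H))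
      rw [Category.id_comp, Category.id_comp, Category.id_comp] at h
      rw [h, mul_inv_cancel_right]
    · rw [Category.assoc, lift_snd, lift_snd, Category.id_comp]
  inv_hom_id := by
    apply CartesianMonoidalCategory.hom_ext
    · rw [Category.assoc, lift_fst, Category.id_comp, comp_act, lift_fst, lift_snd, inv_mul_cancel_right]
    · rw [Category.assoc, lift_snd, lift_snd, Category.id_comp]

lemma act_eq [IsMonHom k] : act k = (shear2 k).hom ≫ fst N H := by
  change _ = lift (act k) (snd N H) ≫ fst N H
  rw [lift_fst]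

lemma prop_lift (P : MorphismProperty Scheme.{u}) [P.IsStableUnderBaseChange] [P.RespectsIso] (hk : P k.left) :
    P (pullback.lift (fst N H).left (act k).left ((Over.w (fst N H)).trans (Over.w (act k)).symm) :
      (N ⊗ H).left ⟶ pullback N.hom N.hom) := by
  have h1 : (lift (fst N H) (act k)).left = pullback.lift (fst N H).left (act k).left
      ((Over.w (fst N H)).trans (Over.w (act k)).symm) := by
    apply pullback.hom_ext
    · rw [pullback.lift_fst]
      exact congrArg (fun z => z.left) (lift_fst (fst N H) (act k))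
    · rw [pullback.lift_snd]
      exact congrArg (fun z => z.left) (lift_snd (fst N H) (act k))
  rw [← h1, lift_eq, Over.comp_left]
  have h2 : IsIso (shear N).hom.left := inferInstance
  exact (P.cancel_right_of_respectsIso _ _).2 (Groth.Agent.RedSub.H661.SmoothMul.whiskerLeft_left P N k hk)

/-- A scheme over `S` with an étale map to a sheaf whose diagonal is an open immersion has an unramified structure
morphism. -/
lemma formallyUnramified_of_chart {F : Sp S} (hd : RepWith @IsOpenImmersion (Limits.diag F))
    {V : Over S} (a : (yon S).obj V ⟶ F) (ha : RepWith @Etale a) : FormallyUnramified V.hom := by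
  obtain ⟨R, s, p, hp⟩ := ha.1 a
  obtain ⟨t, rfl⟩ := (yon S).map_surjective p
  have hs : Etale s.left := ha.2 _ _ _ hp
  have h1 : IsOpenImmersion (pullback.lift t.left s.left ((Over.w t).trans (Over.w s).symm) :
      R.left ⟶ pullback V.hom V.hom) := K609.Diag.prop_of_repWith_diag @IsOpenImmersion hd hp
  -- the diagonal
  obtain ⟨δ, hδ⟩ := (yon S).map_surjective (hp.lift (𝟙 _) (𝟙 _) rfl)
  have h2 : δ ≫ t = 𝟙 V := (yon S).map_injective (by rw [Functor.map_comp, hδ, hp.lift_fst, CategoryTheory.Functor.map_id])
  have h3 : δ ≫ s = 𝟙 V := (yon S).map_injective (by rw [Functor.map_comp, hδ, hp.lift_snd, CategoryTheory.Functor.map_id])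
  have h4 : Etale (δ.left ≫ s.left) := by
    rw [← Over.comp_left, h3]
    exact inferInstanceAs (Etale (𝟙 _))
  have h5 : Etale δ.left := Etale.of_comp δ.left s.left
  have h6 : Mono (δ.left ≫ s.left) := by
    rw [← Over.comp_left, h3]
    exact inferInstanceAs (Mono (𝟙 _))
  have h7 : Mono δ.left := mono_of_mono δ.left s.left
  have h8 : IsOpenImmersion δ.left := IsOpenImmersion.of_flat_of_mono δ.left
  have h9 : pullback.diagonal V.hom = δ.left ≫ pullback.lift t.left s.left ((Over.w t).trans (Over.w s).symm) := by
    apply pullback.hom_ext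
    · rw [pullback.diagonal_fst, Category.assoc, pullback.lift_fst, ← Over.comp_left, h2]
      rfl
    · rw [pullback.diagonal_snd, Category.assoc, pullback.lift_snd, ← Over.comp_left, h3]
      rfl
  have h10 : IsOpenImmersion (pullback.diagonal V.hom) := by
    rw [h9]
    infer_instance
  infer_instance

/-- `V.hom` is étale for every étale chart `V` of the quotient. -/
lemma etale_of_chart {F : Sp S} (hd : RepWith @IsOpenImmersion (Limits.diag F)) {U : Over S}
    (q : (yon S).obj U ⟶ F) (hq1 : RepWith @Flat q) (hq2 : RepWith @LocallyOfFinitePresentation q)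
    (hq3 : RepWith @Surjective q) [Flat U.hom] [LocallyOfFinitePresentation U.hom]
    {V : Over S} (a : (yon S).obj V ⟶ F) (ha : RepWith @Etale a) : Etale V.hom := by
  have h1 := formallyUnramified_of_chart hd a ha
  obtain ⟨W, p, x, hW⟩ := hq1.1 a
  obtain ⟨x, rfl⟩ := (yon S).map_surjective x
  -- `x : W ⟶ U` étale, `p : W ⟶ V` flat surjective lfp
  have e1 : Flat p.left := hq1.2 _ _ _ hW
  have e2 : LocallyOfFinitePresentation p.left := hq2.2 _ _ _ hW
  have e3 : Surjective p.left := hq3.2 _ _ _ hW
  have e4 : Etale x.left := ha.2 _ _ _ hW.flip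
  have f1 : Flat (p.left ≫ V.hom) := by
    rw [Over.w, ← Over.w x]
    infer_instance
  have f2 : LocallyOfFinitePresentation (p.left ≫ V.hom) := by
    rw [Over.w, ← Over.w x]
    infer_instance
  have g1 : LocallyOfFinitePresentation V.hom := Groth.Agent.S0114.result p.left V.hom
  have g2 : Flat V.hom := Groth.Agent.S0115.flat_of_comp p.left V.hom
  exact Etale.iff_flat_and_formallyUnramified.2 ⟨g2, h1, g1⟩

/-- **Quotients by open and closed subgroups.** -/
theorem exists_quotient [IsMonHom k] [Flat N.hom] [LocallyOfFinitePresentation N.hom] [QuasiCompact N.hom]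
    (hcl : IsClosedImmersion k.left) (hop : IsOpenImmersion k.left) :
    ∃ (Q : Over S) (p : N ⟶ Q), RedSub.IsQuotient k p ∧ IsSeparated Q.hom ∧ Etale Q.hom ∧ QuasiCompact Q.hom := by
  have hmono : Mono k := Over.mono_of_mono_left k
  have hHf : Flat H.hom := by rw [← Over.w k]; infer_instance
  have hHp : LocallyOfFinitePresentation H.hom := by rw [← Over.w k]; infer_instance
  let s := act k
  let t := fst N H
  have hER : IsEqvRel s t := isEqvRel k
  have he : IsIso (shear2 k).hom.left := inferInstance
  have hs1 : Flat s.left := by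
    have : Flat (fst N H).left := inferInstanceAs (Flat (pullback.fst _ _))
    change Flat (act k).left
    rw [act_eq, Over.comp_left]
    infer_instance
  have hs2 : LocallyOfFinitePresentation s.left := by
    have : LocallyOfFinitePresentation (fst N H).left :=
      inferInstanceAs (LocallyOfFinitePresentation (pullback.fst _ _))
    change LocallyOfFinitePresentation (act k).left
    rw [act_eq, Over.comp_left]
    infer_instance
  have ht1 : LocallyOfFiniteType t.left := by
    change LocallyOfFiniteType (pullback.fst _ _)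
    infer_instance
  have hA : IsAlgSpace (QuotSh.quot Scheme.fppfPrecoverage s t) := K607.FpQuot.isAlgSpace_quot s t hER
  have hls := K594.Quot.isLocallySurjective_π s t
  have hpb := K594.Quot.isPullback_π s t hER
  obtain ⟨h1, h2, h3, h4⟩ := K607.FpQuot.of_kernelPair (K594.Quot.π s t) hpb
  set F := QuotSh.quot Scheme.fppfPrecoverage s t with hF
  have hfp : RepWith K609.Sep.Fppf (K594.Quot.π s t) :=
    ⟨h2.1, fun T V g fst snd sq => ⟨⟨h4.2 g fst snd sq, h2.2 g fst snd sq⟩, h3.2 g fst snd sq⟩⟩
  have hdo : RepWith @IsOpenImmersion (Limits.diag F) := by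
    have := K595.DescInst.isOpenImmersion.{u}
    exact K609.Sep.repWith_diag_of_chart @IsOpenImmersion h1 hfp hpb (prop_lift k @IsOpenImmersion hop)
  have hdc : RepWith @IsClosedImmersion (Limits.diag F) := by
    have := K595.DescInst.isClosedImmersion.{u}
    exact K609.Sep.repWith_diag_of_chart @IsClosedImmersion h1 hfp hpb (prop_lift k @IsClosedImmersion hcl)
  -- the morphism to `S`
  let T : Over S := 𝟙_ (Over S)
  obtain ⟨f, hf⟩ := K594.Quot.exists_desc s t ((yon S).map (toUnit N)) (by
    rw [← Functor.map_comp, ← Functor.map_comp, toUnit_unique (s ≫ toUnit N) (t ≫ toUnit N)])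
  let f' : (⟨F, hA⟩ : Space S) ⟶ (ofScheme S).obj T := ⟨f⟩
  have hrep : F.obj.IsRepresentable := by
    refine Groth.Agent.S10259.result T ⟨F, hA⟩ f' ?_ (K595.DiagRel.repWith_diagonal_of_diag f hdc)
    intro U V a b h ha hb comm
    have hU : Etale U.hom := etale_of_chart hdo _ h2 h3 h4 a ha
    obtain ⟨b, rfl⟩ := (yon S).map_surjective b
    have hV : Etale V.hom := by
      have := (repWith_yon_map_iff @Etale b).1 hb
      rw [← Over.w b]
      have : Etale T.hom := inferInstanceAs (Etale (𝟙 S))
      infer_instance
    have hh : Etale (h.left ≫ V.hom) := by rw [Over.w]; exact hU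
    have hh' : Etale h.left := Etale.of_comp h.left V.hom
    exact ⟨K618.Sch.locallyQuasiFinite_of_etale _, inferInstance⟩
  obtain ⟨Q, ⟨e⟩⟩ := K638.QfNhd.exists_iso_of_isRepresentable hrep
  obtain ⟨p, hp⟩ := (yon S).map_surjective (K594.Quot.π s t ≫ e.inv)
  have hpb' : IsPullback ((yon S).map t) ((yon S).map s) ((yon S).map p) ((yon S).map p) := by
    rw [hp]
    exact hpb.of_iso (Iso.refl _) (Iso.refl _) (Iso.refl _) e.symm (by simp) (by simp) (by simp) (by simp)
  have hw : t ≫ p = s ≫ p := (yon S).map_injective (by rw [Functor.map_comp, Functor.map_comp, hpb'.w])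
  have hpb2 : IsPullback t s p p := IsPullback.of_map (yon S) hw hpb'
  have p1 : Flat p.left := (repWith_yon_map_iff @Flat p).1 (by
    rw [hp]
    exact MorphismProperty.RespectsIso.postcomp _ _ _ h2)
  have p2 : LocallyOfFinitePresentation p.left := (repWith_yon_map_iff @LocallyOfFinitePresentation p).1 (by
    rw [hp]
    exact MorphismProperty.RespectsIso.postcomp _ _ _ h3)
  have p3 : Surjective p.left := (repWith_yon_map_iff @Surjective p).1 (by
    rw [hp]
    exact MorphismProperty.RespectsIso.postcomp _ _ _ h4)
  have he1 : RepWith @Etale e.hom := by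
    have := MorphismProperty.RespectsIso.postcomp (RepWith (S := S) @Etale) e.hom (𝟙 _) (repWith_id @Etale Q)
    rwa [Category.id_comp] at this
  refine ⟨Q, p, ⟨p3, p1, p2, hpb2⟩, ?_, etale_of_chart hdo _ h2 h3 h4 e.hom he1, ?_⟩
  · have hdQ : RepWith @IsClosedImmersion (Limits.diag ((yon S).obj Q)) := by
      have : Limits.diag ((yon S).obj Q) = e.hom ≫ Limits.diag F ≫ prod.map e.inv e.inv := by ext <;> simp
      rw [this]
      exact MorphismProperty.RespectsIso.precomp _ _ _ (MorphismProperty.RespectsIso.postcomp _ _ _ hdc)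
    have := (repWith_diag_yon_iff @IsClosedImmersion Q).1 hdQ
    exact ⟨this⟩
  · have : QuasiCompact (p.left ≫ Q.hom) := by rw [Over.w]; infer_instance
    exact Groth.Agent.Sga3.H771.QcDesc.quasiCompact_of_surjective_comp p.left Q.hom

end K195.OpenQuot
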