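import Groth.Agent.RedSub.K195.NormFin
import Groth.Agent.RedSub.K195.OpenQuot
import Groth.Agent.RedSub.H672.TypeRQuot
import Groth.Agent.S3960

/-!
# `N/H` is finite étale iff `H` is closed, for `H` of type (R) (S5565)
-/

set_option autoImplicit false
set_option linter.unusedSectionVars false

universe u

open CategoryTheory MonoidalCategory CartesianMonoidalCategory MonObj GrpObj AlgebraicGeometry Limits

namespace K195.NormQ

open Groth.Agent Groth.Agent.Sga3B

variable {S : Scheme.{u}} {G H N : Over S} [GrpObj G] [GrpObj H] [GrpObj N]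

/-- The normaliser of a subgroup of type (R) is closed and smooth. -/
theorem closed_smooth (hG : Red.IsReductive G) (h : H ⟶ G) (hH : _root_.RedSub.IsTypeR h) (nG : N ⟶ G)
    (hN : Red.IsNormalizerOf h nG) : IsClosedImmersion nG.left ∧ Smooth N.hom := by
  obtain ⟨N', _, n', hn', hc', hs'⟩ := S3960.result hG h hH
  have m1 := hN.2.1
  have m2 := hn'.2.1
  obtain ⟨e, he⟩ := RedSub.H672.TypeRQuot.exists_iso_of_points nG n' (fun X g => by
    rw [hN.2.2 X g, hn'.2.2 X g])
  have h1 : IsIso e.hom.left := inferInstance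
  constructor
  · rw [← he, Over.comp_left]
    infer_instance
  · rw [← Over.w e.hom]
    infer_instance

/-- **The quotient `N/H`.** -/
theorem exists_quot (hG : Red.IsReductive G) (h : H ⟶ G) (hH : _root_.RedSub.IsTypeR h)
    (hcl : IsClosedImmersion h.left) (nG : N ⟶ G) (hN : Red.IsNormalizerOf h nG) (k : H ⟶ N) [IsMonHom k]
    (hk : k ≫ nG = h) : ∃ (Q : Over S) (p : N ⟶ Q), _root_.RedSub.IsQuotient k p ∧ IsFinite Q.hom ∧ Etale Q.hom := by
  obtain ⟨hncl, hNs⟩ := closed_smooth hG h hH nG hN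
  have h1 := NormFin.isOpenImmersion_norm hG h hH hcl nG hN hncl hNs k hk
  have h2 : IsClosedImmersion (k.left ≫ nG.left) := by
    rw [← Over.comp_left, hk]
    exact hcl
  have h3 : IsClosedImmersion k.left := IsClosedImmersion.of_comp k.left nG.left
  have hGa := hG.1
  have h4 : IsAffineHom N.hom := by
    rw [← Over.w nG]
    infer_instance
  obtain ⟨Q, p, hp, q1, q2, q3⟩ := OpenQuot.exists_quotient k h3 h1
  exact ⟨Q, p, hp, NormFin.isFinite_quot hG h hH nG hN hncl k hk p hp q1 q2 q3, q2⟩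

/-- If `N/H` is separated then `H` is closed in `N`. -/
theorem isClosedImmersion_of_quot (k : H ⟶ N) [IsMonHom k] [Mono k] {Q : Over S} (p : N ⟶ Q)
    (hp : _root_.RedSub.IsQuotient k p) [IsSeparated Q.hom] : IsClosedImmersion k.left := by
  have hpt := RedSub.H650.QuotPts.ptQuot_of_isPullback hp.2.2.2
  let e : 𝟙_ (Over S) ⟶ Q := 1 ≫ p
  have he : IsClosedImmersion e.left := by
    have h1 : IsClosedImmersion (e.left ≫ Q.hom) := by
      rw [Over.w]
      exact inferInstanceAs (IsClosedImmersion (𝟙 S))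
    exact IsClosedImmersion.of_comp e.left Q.hom
  have hone : ∀ {X : Over S} (x : X ⟶ 𝟙_ (Over S)), x ≫ e = (1 : X ⟶ N) ≫ p := by
    intro X x
    change x ≫ (1 : 𝟙_ (Over S) ⟶ N) ≫ p = _
    rw [← Category.assoc, MonObj.comp_one]
  have hex : ∀ {X : Over S} (a : X ⟶ N) (x : X ⟶ 𝟙_ (Over S)), a ≫ p = x ≫ e → ∃ y : X ⟶ H, y ≫ k = a := by
    intro X a x hax
    obtain ⟨y, hy⟩ := (hpt X 1 a).1 (by rw [hax, hone])
    exact ⟨y, by rw [hy, _root_.one_mul]⟩
  have hsq : IsPullback k (toUnit H) p e := by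
    have hw : k ≫ p = toUnit H ≫ e := by
      rw [hone]
      exact ((hpt H 1 k).2 ⟨𝟙 H, by rw [Category.id_comp, _root_.one_mul]⟩).symm
    refine ⟨⟨hw⟩, ⟨PullbackCone.IsLimit.mk hw (fun s => (hex s.fst s.snd s.condition).choose)
      (fun s => (hex s.fst s.snd s.condition).choose_spec) (fun s => toUnit_unique _ _) (fun s m h1 h2 => ?_)⟩⟩
    rw [← cancel_mono k, h1, (hex s.fst s.snd s.condition).choose_spec]
  exact MorphismProperty.of_isPullback (hsq.map (Over.forget S)).flip he

/-- **S5565.** -/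
theorem isClosedImmersion_iff (hG : Red.IsReductive G) (h : H ⟶ G) (hH : _root_.RedSub.IsTypeR h)
    (nG : N ⟶ G) (hN : Red.IsNormalizerOf h nG) (k : H ⟶ N) [IsMonHom k] (hk : k ≫ nG = h) :
    IsClosedImmersion h.left ↔
      ∃ (Q : Over S) (p : N ⟶ Q), _root_.RedSub.IsQuotient k p ∧ IsFinite Q.hom ∧ Etale Q.hom := by
  refine ⟨fun hcl => exists_quot hG h hH hcl nG hN k hk, ?_⟩
  rintro ⟨Q, p, hp, h1, -⟩
  obtain ⟨hncl, -⟩ := closed_smooth hG h hH nG hN
  have h2 := hH.1.2
  have h3 : Mono h := Over.mono_of_mono_left h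
  have h4 : Mono (k ≫ nG) := by rw [hk]; exact h3
  have h5 : Mono k := mono_of_mono k nG
  have h6 := isClosedImmersion_of_quot k p hp
  rw [← hk, Over.comp_left]
  infer_instance

end K195.NormQ
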