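import Groth.Agent.RedSub.K195.OpenQuot
import Groth.Agent.AlgSp.K597.EffDesc
import Groth.Agent.AlgSp.K597.Affine
import Groth.Agent.Sga3B.BcPts

/-!
# Étale descent of affine quotients

`exists_quotient_of_local`: `k : H ⟶ N` a subgroup scheme, flat and locally of finite presentation, of the `S`-group `N`.
If étale-locally on `S` the fppf quotient `N / H` is representable by a scheme affine over the base, then it is
representable by a scheme affine over `S`.
-/

set_option autoImplicit false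
set_option linter.unusedSectionVars false

universe u

open CategoryTheory MonoidalCategory CartesianMonoidalCategory MonObj GrpObj AlgebraicGeometry Limits AlgSp Opposite

namespace K195.QuotDesc

open Groth.Agent.Sga3B K594.Elem K594.Cover K594.Quot K195.OpenQuot

variable {S : Scheme.{u}} {N H : Over S} [GrpObj N] [GrpObj H] (k : H ⟶ N)

/-- sections of the quotient sheaf -/
lemma pi_eq_iff [IsMonHom k] [Mono k] {T : Over S} (a b : T ⟶ N) :
    (π (act k) (fst N H)).hom.app (op T) ⟨a⟩ = (π (act k) (fst N H)).hom.app (op T) ⟨b⟩ ↔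
      ∃ h : T ⟶ H, b = a * (h ≫ k) := by
  rw [app_π_eq_iff _ _ (isEqvRel k)]
  constructor
  · rintro ⟨r, rfl, rfl⟩
    exact ⟨r ≫ snd N H, comp_act k r⟩
  · rintro ⟨h, rfl⟩
    refine ⟨lift a h, lift_fst _ _, ?_⟩
    rw [comp_act, lift_fst, lift_snd]

lemma map_pi {T T' : Over S} (g : T' ⟶ T) (a : T ⟶ N) :
    (QuotSh.quot Scheme.fppfPrecoverage (act k) (fst N H)).obj.map g.op
      ((π (act k) (fst N H)).hom.app (op T) ⟨a⟩) = (π (act k) (fst N H)).hom.app (op T') ⟨g ≫ a⟩ :=
  (app_map (π (act k) (fst N H)) g ⟨a⟩).symm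

/-- **The quotient sheaf over a base change.** -/
theorem exists_isRep [IsMonHom k] [Mono k] {G : Sp S}
    (f : QuotSh.quot Scheme.fppfPrecoverage (act k) (fst N H) ⟶ G) (hG : ∀ T : Over S, Subsingleton (G.obj.obj (op T)))
    {V W NV : Over S} (ε : NV ⟶ N) (ν : NV ⟶ V) (p : NV ⟶ W) (w : W ⟶ V) (hpw : p ≫ w = ν) (hp : Cov p)
    (hlift : ∀ (T : Over S) (n : T ⟶ N) (a : T ⟶ V), ∃ x : T ⟶ NV, x ≫ ε = n ∧ x ≫ ν = a)
    (hrel : ∀ (T : Over S) (x y : T ⟶ NV), x ≫ p = y ≫ p ↔ x ≫ ν = y ≫ ν ∧ ∃ h : T ⟶ H, y ≫ ε = (x ≫ ε) * (h ≫ k))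
    (y : G.obj.obj (op V)) :
    ∃ ξ : (QuotSh.quot Scheme.fppfPrecoverage (act k) (fst N H)).obj.obj (op W), IsRep f y w ξ := by
  obtain ⟨ξ, hξ⟩ := hp.glue _ ((π (act k) (fst N H)).hom.app (op NV) ⟨ε⟩) fun Z a b hab => by
    rw [map_pi, map_pi, pi_eq_iff]
    exact ((hrel Z a b).1 hab).2
  refine ⟨ξ, (hG _).elim _ _, ?_, ?_⟩
  · intro T a b hw hab
    obtain ⟨T₁, g₁, a₁, sq₁, hg₁⟩ := hp.exists_baseChange a
    obtain ⟨T₂, g₂, b₂, sq₂, hg₂⟩ := hp.exists_baseChange (g₁ ≫ b)
    have hc : Cov (g₂ ≫ g₁) := hg₁.comp hg₂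
    refine hom_ext_cov hc ?_
    have e1 : (g₂ ≫ g₁) ≫ a = (g₂ ≫ a₁) ≫ p := by rw [Category.assoc, Category.assoc, ← sq₁.w]
    have e2 : (g₂ ≫ g₁) ≫ b = b₂ ≫ p := by rw [Category.assoc, ← sq₂.w]
    rw [e1, e2, hrel]
    refine ⟨?_, ?_⟩
    · rw [← hpw, ← Category.assoc, ← Category.assoc, ← e1, ← e2, Category.assoc, Category.assoc, hw]
      simp only [Category.assoc]
    · rw [← pi_eq_iff k, ← map_pi, ← map_pi, ← hξ, ← map_comp_apply, ← map_comp_apply, ← e1, ← e2,
        map_comp_apply _ a, map_comp_apply _ b, hab]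
  · intro T t x hx
    obtain ⟨T', g, n, hg, hn⟩ := exists_lift (act k) (fst N H) x
    obtain ⟨z, hz1, hz2⟩ := hlift T' n (g ≫ t)
    obtain ⟨c, hc⟩ := exists_glue_hom_cov hg (z ≫ p) fun Z a b hab => by
      rw [← Category.assoc, ← Category.assoc, hrel]
      refine ⟨?_, ?_⟩
      · rw [Category.assoc, Category.assoc, hz2, ← Category.assoc, ← Category.assoc, hab]
      · rw [← pi_eq_iff k, Category.assoc, Category.assoc, hz1, ← map_pi, ← map_pi, hn, ← map_comp_apply,
          ← map_comp_apply, hab]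
    refine ⟨c, ?_, ?_⟩
    · refine hom_ext_cov hg ?_
      rw [← Category.assoc, hc, Category.assoc, hpw, hz2]
    · refine hg.ext _ ?_
      rw [← map_comp_apply, hc, map_comp_apply, hξ, map_pi, hz1, hn]

section bc

variable {V : Scheme.{u}} (v : V ⟶ S)

/-- the first projection `N ×_S V ⟶ N` -/
noncomputable def eps (N : Over S) : (Over.map v).obj (Red.bc v N) ⟶ N :=
  (BcPts.bcEquiv v (Red.bc v N) N).symm (𝟙 _)

/-- the structure map -/
def str (X : Over V) : (Over.map v).obj X ⟶ Over.mk v := Over.homMk X.hom rfl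

lemma map_str {X Y : Over V} (p : X ⟶ Y) : (Over.map v).map p ≫ str v Y = str v X := by
  ext1
  exact Over.w p

/-- the lift of a point to `V` -/
def des {X : Over V} {T : Over S} (a : T ⟶ Over.mk v) (x : T ⟶ (Over.map v).obj X) (hx : x ≫ str v X = a) :
    Over.mk a.left ⟶ X :=
  Over.homMk x.left (by
    have := congrArg (fun z => z.left) hx
    exact this)

lemma des_spec {X : Over V} {T : Over S} (a : T ⟶ Over.mk v) (x : T ⟶ (Over.map v).obj X) (hx : x ≫ str v X = a) :
    (BcPts.overIso a).inv ≫ (Over.map v).map (des v a x hx) = x := by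
  ext1
  exact Category.id_comp x.left

lemma des_comp {X Y : Over V} {T : Over S} (a : T ⟶ Over.mk v) (x : T ⟶ (Over.map v).obj X) (hx : x ≫ str v X = a)
    (p : X ⟶ Y) : des v a x hx ≫ p = des v a (x ≫ (Over.map v).map p) (by rw [Category.assoc, map_str, hx]) := by
  ext1
  rfl

lemma des_inj {X : Over V} {T : Over S} (a : T ⟶ Over.mk v) {x y : T ⟶ (Over.map v).obj X} (hx : x ≫ str v X = a)
    (hy : y ≫ str v X = a) : des v a x hx = des v a y hy ↔ x = y := by
  constructor
  · intro h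
    rw [← des_spec v a x hx, h, des_spec]
  · rintro rfl
    rfl

lemma comp_eps {T : Over S} (a : T ⟶ Over.mk v) (x : T ⟶ (Over.map v).obj (Red.bc v N)) (hx : x ≫ str v _ = a) :
    x ≫ eps v N = (BcPts.overIso a).inv ≫ (BcPts.bcEquiv v (Over.mk a.left) N).symm (des v a x hx) := by
  conv_lhs => rw [← des_spec v a x hx]
  rw [Category.assoc, eps, ← BcPts.comp_bcEquiv_symm, Category.comp_id]

lemma exists_pt {T : Over S} (n : T ⟶ N) (a : T ⟶ Over.mk v) :
    ∃ x : T ⟶ (Over.map v).obj (Red.bc v N), x ≫ eps v N = n ∧ x ≫ str v _ = a := by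
  refine ⟨(BcPts.overIso a).inv ≫ (Over.map v).map (BcPts.bcEquiv v (Over.mk a.left) N ((BcPts.overIso a).hom ≫ n)),
    ?_, ?_⟩
  · rw [Category.assoc, eps, ← BcPts.comp_bcEquiv_symm, Category.comp_id, Equiv.symm_apply_apply,
      Iso.inv_hom_id_assoc]
  · rw [Category.assoc, map_str]
    ext1
    exact Category.id_comp _

/-- the relation of a quotient after base change -/
lemma rel_of_isQuotient [IsMonHom k] [Mono k] {Q' : Over V} (p' : Red.bc v N ⟶ Q')
    (hp : _root_.RedSub.IsQuotient ((Over.pullback v).map k) p') (T : Over S)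
    (x y : T ⟶ (Over.map v).obj (Red.bc v N)) :
    x ≫ (Over.map v).map p' = y ≫ (Over.map v).map p' ↔
      x ≫ str v _ = y ≫ str v _ ∧ ∃ h : T ⟶ H, y ≫ eps v N = (x ≫ eps v N) * (h ≫ k) := by
  have hpt := Groth.Agent.RedSub.H650.QuotPts.ptQuot_of_isPullback hp.2.2.2
  have key : ∀ (a : T ⟶ Over.mk v) (hx : x ≫ str v _ = a) (hy : y ≫ str v _ = a),
      x ≫ (Over.map v).map p' = y ≫ (Over.map v).map p' ↔ ∃ h : T ⟶ H, y ≫ eps v N = (x ≫ eps v N) * (h ≫ k) := by
    intro a hx hy
    rw [← des_inj v a (x := x ≫ (Over.map v).map p') (y := y ≫ (Over.map v).map p')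
      (by rw [Category.assoc, map_str, hx]) (by rw [Category.assoc, map_str, hy]), ← des_comp v a x hx,
      ← des_comp v a y hy, hpt, comp_eps v a x hx, comp_eps v a y hy]
    constructor
    · rintro ⟨h, hh⟩
      refine ⟨(BcPts.overIso a).inv ≫ (BcPts.bcEquiv v (Over.mk a.left) H).symm h, ?_⟩
      rw [hh, Category.assoc, ← BcPts.bcEquiv_symm_comp, ← MonObj.comp_mul]
      congr 1
      apply (BcPts.bcEquiv v (Over.mk a.left) N).injective
      rw [BcPts.bcEquiv_mul, Equiv.apply_symm_apply, Equiv.apply_symm_apply, Equiv.apply_symm_apply]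
    · rintro ⟨h, hh⟩
      refine ⟨BcPts.bcEquiv v (Over.mk a.left) H ((BcPts.overIso a).hom ≫ h), ?_⟩
      apply (BcPts.bcEquiv v (Over.mk a.left) N).symm.injective
      apply (cancel_epi (BcPts.overIso a).inv).1
      rw [hh, ← BcPts.bcEquiv_comp]
      have e1 : (BcPts.bcEquiv v (Over.mk a.left) N).symm (des v a x hx *
          BcPts.bcEquiv v (Over.mk a.left) N (((BcPts.overIso a).hom ≫ h) ≫ k)) =
          (BcPts.bcEquiv v (Over.mk a.left) N).symm (des v a x hx) * (((BcPts.overIso a).hom ≫ h) ≫ k) := by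
        apply (BcPts.bcEquiv v (Over.mk a.left) N).injective
        rw [BcPts.bcEquiv_mul, Equiv.apply_symm_apply, Equiv.apply_symm_apply]
      rw [e1, MonObj.comp_mul, Category.assoc, Iso.inv_hom_id_assoc]
  constructor
  · intro h
    have h1 : x ≫ str v _ = y ≫ str v _ := by
      rw [← map_str v p', ← Category.assoc, h, Category.assoc]
    exact ⟨h1, (key _ rfl h1.symm).1 h⟩
  · rintro ⟨h1, h2⟩
    exact (key _ rfl h1.symm).2 h2

end bc

lemma subsingleton_yon (T : Over S) : Subsingleton (((yon S).obj (𝟙_ (Over S))).obj.obj (op T)) :=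
  ⟨fun a b => ULift.ext _ _ (toUnit_unique a.down b.down)⟩

lemma hom_yon_ext {F : Sp S} (a b : F ⟶ (yon S).obj (𝟙_ (Over S))) : a = b :=
  K594.Elem.hom_ext _ _ fun T _ => (subsingleton_yon T).elim _ _

/-- **Étale descent of affine quotients.** -/
theorem exists_quotient_of_local [IsMonHom k] [Mono k] [Flat H.hom] [LocallyOfFinitePresentation H.hom]
    (hloc : ∀ s : S, ∃ (V : Scheme.{u}) (v : V ⟶ S), Etale v ∧ s ∈ Set.range v ∧
      ∃ (Q' : Over V) (p' : Red.bc v N ⟶ Q'), _root_.RedSub.IsQuotient ((Over.pullback v).map k) p' ∧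
        IsAffineHom Q'.hom) :
    ∃ (Q : Over S) (p : N ⟶ Q), _root_.RedSub.IsQuotient k p ∧ IsAffineHom Q.hom := by
  let s := act k
  let t := fst N H
  have hER : IsEqvRel s t := isEqvRel k
  have he : IsIso (shear2 k).hom.left := inferInstance
  have hs1 : Flat s.left := by
    have : Flat (fst N H).left := inferInstanceAs (Flat (pullback.fst _ _))
    change Flat (act k).left
    rw [act_eq, Over.comp_left]
    infer_instance
  have hs2 : LocallyOfFinitePresentation s.left := by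
    have : LocallyOfFinitePresentation (fst N H).left :=
      inferInstanceAs (LocallyOfFinitePresentation (pullback.fst _ _))
    change LocallyOfFinitePresentation (act k).left
    rw [act_eq, Over.comp_left]
    infer_instance
  have ht1 : LocallyOfFiniteType t.left := by
    change LocallyOfFiniteType (pullback.fst _ _)
    infer_instance
  have hls := K594.Quot.isLocallySurjective_π s t
  have hpb := K594.Quot.isPullback_π s t hER
  obtain ⟨-, h2, h3, h4⟩ := K607.FpQuot.of_kernelPair (K594.Quot.π s t) hpb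
  -- the morphism to `S`
  obtain ⟨f, -⟩ := K594.Quot.exists_desc s t ((yon S).map (toUnit N)) (by
    rw [← Functor.map_comp, ← Functor.map_comp, toUnit_unique (s ≫ toUnit N) (t ≫ toUnit N)])
  have hd := K597.EffDesc.descendsAlong_isAffineHom.{u}
  let y : ((yon S).obj (𝟙_ (Over S))).obj.obj (op (𝟙_ (Over S))) := ⟨𝟙 _⟩
  obtain ⟨Q, w, ξ, hQ, hw⟩ := K597.EffDesc.exists_isRep (f := f) (y := y) @IsAffineHom fun σ => by
    obtain ⟨V, v, hv, ⟨σ', hσ'⟩, Q', p', hp', hQ'⟩ := hloc σ
    obtain ⟨ξ, hξ⟩ := exists_isRep k f subsingleton_yon (eps v N) (str v _) ((Over.map v).map p') (str v Q')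
      (map_str v p') ⟨hp'.2.1, hp'.2.2.1, hp'.1⟩ (fun T n a => exists_pt v n a)
      (rel_of_isQuotient k v p' hp') ⟨Over.homMk v (Category.comp_id _)⟩
    obtain ⟨V₁, v₁, hV₁, hv₁, h₁, -⟩ := K597.Affine.exists_affine_nhd (Over.mk v) ⊤ σ' trivial
    have sq := IsPullback.of_hasPullback (str v Q') v₁
    have hb := hξ.baseChange sq
    have hsq : IsPullback (pullback.fst (str v Q') v₁).left (pullback.snd (str v Q') v₁).left (str v Q').left v₁.left :=
      sq.map (Over.forget S)
    have ha : IsAffineHom (pullback.snd (str v Q') v₁).left :=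
      MorphismProperty.of_isPullback (P := @IsAffineHom) hsq hQ'
    have ha' : IsAffine (pullback (str v Q') v₁).left := isAffine_of_isAffineHom (pullback.snd (str v Q') v₁).left
    have hb' := hb
    rw [(subsingleton_yon V₁).elim (((yon S).obj (𝟙_ (Over S))).obj.map v₁.op ⟨Over.homMk v (Category.comp_id _)⟩)
      (((yon S).obj (𝟙_ (Over S))).obj.map
        (v₁ ≫ (Over.homMk v (Category.comp_id _) : Over.mk v ⟶ 𝟙_ (Over S))).op y)] at hb'
    refine ⟨V₁, v₁ ≫ Over.homMk v (Category.comp_id _), _, _, _, ?_, ?_, hb', ha,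
      fun O hO => K597.EffDesc.isQuasiAffine_open O hO⟩
    · exact inferInstanceAs (Etale (v₁.left ≫ v))
    · obtain ⟨x, hx⟩ := h₁
      refine ⟨x, ?_⟩
      change (v₁.left ≫ v) x = σ
      rw [Scheme.Hom.comp_apply, hx]
      exact hσ'
  have hpb1 := (isRep_iff_isPullback f y w ξ).2 hQ
  have hy : (secEquiv.symm y : (yon S).obj (𝟙_ (Over S)) ⟶ (yon S).obj (𝟙_ (Over S))) = 𝟙 _ := hom_yon_ext _ _
  rw [hy] at hpb1
  have hiso : IsIso (secEquiv.symm ξ) := hpb1.isIso_fst_of_isIso
  let e : (yon S).obj Q ≅ QuotSh.quot Scheme.fppfPrecoverage s t := asIso (secEquiv.symm ξ)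
  obtain ⟨p, hp⟩ := (yon S).map_surjective (K594.Quot.π s t ≫ e.inv)
  have hpb' : IsPullback ((yon S).map t) ((yon S).map s) ((yon S).map p) ((yon S).map p) := by
    rw [hp]
    exact hpb.of_iso (Iso.refl _) (Iso.refl _) (Iso.refl _) e.symm (by simp) (by simp) (by simp) (by simp)
  have hw' : t ≫ p = s ≫ p := (yon S).map_injective (by rw [Functor.map_comp, Functor.map_comp, hpb'.w])
  have hpb2 : IsPullback t s p p := IsPullback.of_map (yon S) hw' hpb'
  have p1 : Flat p.left := (repWith_yon_map_iff @Flat p).1 (by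
    rw [hp]
    exact MorphismProperty.RespectsIso.postcomp _ _ _ h2)
  have p2 : LocallyOfFinitePresentation p.left := (repWith_yon_map_iff @LocallyOfFinitePresentation p).1 (by
    rw [hp]
    exact MorphismProperty.RespectsIso.postcomp _ _ _ h3)
  have p3 : Surjective p.left := (repWith_yon_map_iff @Surjective p).1 (by
    rw [hp]
    exact MorphismProperty.RespectsIso.postcomp _ _ _ h4)
  refine ⟨Q, p, ⟨p3, p1, p2, hpb2⟩, ?_⟩
  rw [← Over.w w]
  change IsAffineHom (w.left ≫ 𝟙 _)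
  infer_instance

end K195.QuotDesc
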