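import Groth.Agent.RedSub.K195.NormQ
import Groth.Agent.RedSub.K195.CentTor
import Groth.Agent.Sga3.H795.MaxTorDim
import Groth.Agent.S4127

/-!
# Reductive subgroups of the same reductive rank (S5548)
-/

set_option autoImplicit false
set_option linter.unusedSectionVars false

universe u

open CategoryTheory MonoidalCategory CartesianMonoidalCategory MonObj GrpObj AlgebraicGeometry Limits

namespace K195.SameRank

open Groth.Agent Groth.Agent.Sga3B

/-- Over an algebraically closed field, a torus of the dimension of the maximal tori is maximal. -/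
theorem isMaximalTorus_of_dim_eq {K : Type u} [Field K] [IsAlgClosed K] {G T T' : Over (Spec (CommRingCat.of K))}
    [GrpObj G] [GrpObj T] [GrpObj T'] [IsAffine G.left] [LocallyOfFiniteType G.hom] (t : T ⟶ G) [IsMonHom t] [Mono t]
    (hT : Red.IsTorus T) (i : T' ⟶ G) (hi : Red.IsMaximalTorus i)
    (hd : topologicalKrullDim ↥T'.left = topologicalKrullDim ↥T.left) : Red.IsMaximalTorus t := by
  obtain ⟨c₀, f, hf⟩ := Sga3.H795.MaxTorDim.exists_factor_conj G i hi t hT
  have h1 := RedSub.H652.CommonTorus.isMaximalTorus_conjHom c₀ hi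
  have h2 := h1.1
  have h3 := h1.2.1
  have hfm : IsMonHom f := Sga3.H795.MaxTorDim.isMonHom_of_comp_mono f (RG.BrHc.conjHom c₀ i) (by rw [hf]; infer_instance)
  have hfmono : Mono f := by
    have : Mono (f ≫ RG.BrHc.conjHom c₀ i) := by rw [hf]; infer_instance
    exact mono_of_mono f (RG.BrHc.conjHom c₀ i)
  have hiso := Sga3.H795.MaxTorDim.isIso_of_dim_le hT hi.2.2.1 f hd.le
  have e : T ≅ T' := asIso f
  refine AlgBc.isMaximalTorus_of_arrow (Grp.mkIso' (asIso f)).symm (Iso.refl _) ?_ h1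
  change RG.BrHc.conjHom c₀ i ≫ 𝟙 G = inv f ≫ t
  rw [Category.comp_id, ← hf, IsIso.inv_hom_id_assoc]

variable {S : Scheme.{u}} {G H : Over S} [GrpObj G] [GrpObj H]

/-- **A reductive subgroup of the same reductive rank is of type (R).** -/
theorem isTypeR (hG : Red.IsReductive G) (k : H ⟶ G) (hk : _root_.RedSub.IsSubgrp k) (hH : Red.IsReductive H)
    (hrank : ∀ (s : S) (r : WithBot ℕ∞), SGA3x.HasRedRank G s r ↔ SGA3x.HasRedRank H s r) :
    _root_.RedSub.IsTypeR k := by
  have h1 : IsAffineHom H.hom := hH.1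
  have h1' : Smooth H.hom := hH.2.1
  have g1 : IsAffineHom G.hom := hG.1
  have g1' : Smooth G.hom := hG.2.1
  have := MaxTorBc505.geometricallyIrreducible hH
  refine ⟨hk, inferInstance, inferInstance, RedSub.H641.TypeRBc.hasConnectedFibres_of_geomIrr, fun s => ?_⟩
  have h2 := hk.1
  have h3 := hk.2
  have h3' : Mono k := Over.mono_of_mono_left k
  have h4 : IsAffineHom (Red.geomFibre s H).hom :=
    inferInstanceAs (IsAffineHom (Limits.pullback.snd H.hom (Red.geomPt s)))
  have h5 : Smooth (Red.geomFibre s H).hom :=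
    inferInstanceAs (Smooth (Limits.pullback.snd H.hom (Red.geomPt s)))
  have h6 : IsAffine (Red.geomFibre s H).left := isAffine_of_isAffineHom (Red.geomFibre s H).hom
  have g4 : IsAffineHom (Red.geomFibre s G).hom :=
    inferInstanceAs (IsAffineHom (Limits.pullback.snd G.hom (Red.geomPt s)))
  have g5 : Smooth (Red.geomFibre s G).hom :=
    inferInstanceAs (Smooth (Limits.pullback.snd G.hom (Red.geomPt s)))
  have g6 : IsAffine (Red.geomFibre s G).left := isAffine_of_isAffineHom (Red.geomFibre s G).hom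
  obtain ⟨T, _, t, ht, -⟩ := RG.BrHc.exists_isMaximalTorus (Red.geomFibre s H)
  obtain ⟨T', _, i, hi, hd⟩ := (hrank s _).2 ⟨T, inferInstance, t, ht, rfl⟩
  have h7 := ht.1
  have h8 := ht.2.1
  have h9 : Mono ((Over.pullback (Red.geomPt s)).map k) := inferInstance
  have h10 : IsMonHom ((Over.pullback (Red.geomPt s)).map k) := inferInstance
  have h11 : Mono (t ≫ (Over.pullback (Red.geomPt s)).map k) := mono_comp _ _
  exact ⟨T, inferInstance, t, ht.1, isMaximalTorus_of_dim_eq (t ≫ (Over.pullback (Red.geomPt s)).map k) ht.2.2.1 i hi hd⟩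

/-- **S5548.** -/
theorem main (hG : Red.IsReductive G) (k : H ⟶ G) (hk : _root_.RedSub.IsSubgrp k) (hH : Red.IsReductive H)
    (hrank : ∀ (s : S) (r : WithBot ℕ∞), SGA3x.HasRedRank G s r ↔ SGA3x.HasRedRank H s r) :
    IsClosedImmersion k.left ∧
      ∃ (N : Over S) (_ : GrpObj N) (n : N ⟶ G) (kN : H ⟶ N), Red.IsNormalizerOf k n ∧ IsClosedImmersion n.left ∧
        Smooth N.hom ∧ kN ≫ n = k ∧ IsMonHom kN ∧
        ∃ (Q : Over S) (p : N ⟶ Q), _root_.RedSub.IsQuotient kN p ∧ IsFinite Q.hom ∧ Etale Q.hom := by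
  have h1 := isTypeR hG k hk hH hrank
  have h2 := hk.1
  have h3 := hk.2
  have hkmono : Mono k := Over.mono_of_mono_left k
  have g1 : IsAffineHom G.hom := hG.1
  have g2 : Smooth G.hom := hG.2.1
  have hcl : IsClosedImmersion k.left := (S4127.result S H G hH k).2 inferInstance
  obtain ⟨N, _, n, hN, hncl, hNs⟩ := S3960.result hG k h1
  have hnm := hN.1
  have hnmono := hN.2.1
  obtain ⟨kN, hkN⟩ : ∃ kN : H ⟶ N, kN ≫ n = k := (hN.2.2 H k).2 fun X x y =>
    ⟨⟨(x : X ⟶ H) * y * x⁻¹, by rw [MonObj.mul_comp, MonObj.mul_comp, GrpObj.inv_comp]⟩,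
      ⟨(x : X ⟶ H)⁻¹ * y * x, by rw [MonObj.mul_comp, MonObj.mul_comp, GrpObj.inv_comp]⟩⟩
  have hkNm : IsMonHom kN := by
    apply Pts.isMonHom_of_points
    intro X x y
    rw [← cancel_mono n, Category.assoc, hkN, MonObj.mul_comp, MonObj.mul_comp, Category.assoc, Category.assoc, hkN]
  exact ⟨hcl, N, inferInstance, n, kN, hN, hncl, hNs, hkN, hkNm, NormQ.exists_quot hG k h1 hcl n hN kN hkN⟩

end K195.SameRank
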