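import Groth.Agent.RedSub.H635.Uniq
import Groth.Agent.Sga3B.SplitBc264b

/-!
# The locus where a root is tangent to a subgroup: base change

`E D i a` is the set of points of the base at which the root `a` of the splitting `D` is tangent to the subgroup
`i : H ⟶ G` (`Groth.Agent.RedSub.H635.Uniq.E`).

* `exists_lift_bc_iff`, `symm_gaPt_u`: points of base changes;
* `tg_ext`: extension of fields;
* `mem_E_bc_iff`, `E_bc`: `E` is compatible with arbitrary base change.
-/

set_option autoImplicit false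
universe u

open CategoryTheory MonoidalCategory CartesianMonoidalCategory MonObj GrpObj AlgebraicGeometry Limits

namespace K195.Tang

open Groth.Agent Groth.Agent.Sga3B Groth.Agent.Sga3B.Cell Groth.Agent.Sga3B.PinMod Groth.Agent.Sga3B.DSPts
  Groth.Agent.Sga3B.GaPts Groth.Agent.Sga3B.BcPts Groth.Agent.Sga3B.SplitBc264 Groth.Agent.RedSub.H635.Uniq

variable {S S' : Scheme.{u}} {G H : Over S} [GrpObj G] [GrpObj H]

omit [GrpObj G] [GrpObj H] in
/-- Lifting a point of a base change. -/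
lemma exists_lift_bc_iff (f : S' ⟶ S) (i : H ⟶ G) {T : Over S'} (y : T ⟶ Red.bc f G) :
    (∃ v : T ⟶ Red.bc f H, v ≫ (Over.pullback f).map i = y) ↔
      ∃ v : (Over.map f).obj T ⟶ H, v ≫ i = (BcPts.bcEquiv f T G).symm y := by
  constructor
  · rintro ⟨v, rfl⟩
    exact ⟨(BcPts.bcEquiv f T H).symm v, (BcPts.bcEquiv_symm_comp f v i).symm⟩
  · rintro ⟨v, hv⟩
    refine ⟨BcPts.bcEquiv f T H v, ?_⟩
    rw [← BcPts.bcEquiv_comp, hv, Equiv.apply_symm_apply]

/-- The root homomorphisms of the base change of a splitting, on points. -/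
lemma symm_gaPt_u (f : S' ⟶ S) (D : Red.SplitRed G) (a : D.idx) {T : Over S'} (r : Γ(T.left, ⊤)) :
    (BcPts.bcEquiv f T G).symm (gaPt T r ≫ (splitBc f D).u a) = gaPt ((Over.map f).obj T) r ≫ D.u a := by
  have h1 : gaPt T r ≫ (splitBc f D).u a =
      (gaPt T r ≫ (gaBcIso f).inv.hom.hom) ≫ (Over.pullback f).map (D.u a) := by
    rw [Category.assoc]
    rfl
  rw [h1, BcPts.bcEquiv_symm_comp]
  congr 1
  apply gaFn_injective
  refine (gaFn_gaBcIso f (gaPt T r ≫ (gaBcIso f).inv.hom.hom)).symm.trans ?_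
  have h2 : (gaBcIso f).inv.hom.hom ≫ (gaBcIso f).hom.hom.hom = 𝟙 _ :=
    congrArg (fun z => z.hom.hom) (gaBcIso f).inv_hom_id
  rw [Category.assoc, h2, Category.comp_id, gaFn_gaPt, gaFn_gaPt]

/-- a ring homomorphism on dual numbers -/
def tszMap {K K' : Type u} [Field K] [Field K'] (φ : K →+* K') :
    TrivSqZeroExt K K →+* TrivSqZeroExt K' K' where
  toFun z := TrivSqZeroExt.inl (φ z.fst) + TrivSqZeroExt.inr (φ z.snd)
  map_one' := by
    ext <;> simp
  map_mul' z w := by
    ext <;> simp [mul_comm]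
  map_zero' := by
    ext <;> simp
  map_add' z w := by
    ext <;> simp

lemma tszMap_eps {K K' : Type u} [Field K] [Field K'] (φ : K →+* K') :
    tszMap φ (TrivSqZeroExt.inr 1) = TrivSqZeroExt.inr 1 := by
  ext <;> simp [tszMap]

lemma tszMap_comp {K K' : Type u} [Field K] [Field K'] (φ : K →+* K') :
    (tszMap φ).comp (algebraMap K (TrivSqZeroExt K K)) =
      (algebraMap K' (TrivSqZeroExt K' K')).comp φ := by
  apply RingHom.ext
  intro z
  change tszMap φ (TrivSqZeroExt.inl z) = TrivSqZeroExt.inl (φ z)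
  ext <;> simp [tszMap]

omit [GrpObj H] in
/-- Extension of the field of definition of a tangent vector. -/
lemma tg_ext (D : Red.SplitRed G) (i : H ⟶ G) (a : D.idx) {K K' : Type u} [Field K] [Field K']
    (x : Spec (CommRingCat.of K) ⟶ S) (φ : K →+* K') (h : Tg D i a K x) :
    Tg D i a K' (Spec.map (CommRingCat.ofHom φ) ≫ x) := by
  obtain ⟨v, hv⟩ := h
  let θ : tB (Spec.map (CommRingCat.ofHom φ) ≫ x) (TrivSqZeroExt K' K') ⟶ tB x (TrivSqZeroExt K K) :=
    Over.homMk (Spec.map (CommRingCat.ofHom (tszMap φ))) (by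
      change Spec.map (CommRingCat.ofHom (tszMap φ)) ≫
          Spec.map (CommRingCat.ofHom (algebraMap K (TrivSqZeroExt K K))) ≫ x =
        Spec.map (CommRingCat.ofHom (algebraMap K' (TrivSqZeroExt K' K'))) ≫
          Spec.map (CommRingCat.ofHom φ) ≫ x
      rw [← Category.assoc, ← Category.assoc, ← Spec.map_comp, ← Spec.map_comp,
        ← CommRingCat.ofHom_comp, ← CommRingCat.ofHom_comp, tszMap_comp])
  refine ⟨θ ≫ v, ?_⟩
  rw [Category.assoc, hv, ← Category.assoc]
  congr 1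
  rw [comp_gaPt]
  congr 1
  have h := congrArg CommRingCat.Hom.hom
    (Scheme.ΓSpecIso_inv_naturality (CommRingCat.ofHom (tszMap φ)))
  refine (DFunLike.congr_fun h (TrivSqZeroExt.inr 1)).symm.trans ?_
  exact congrArg (Scheme.ΓSpecIso (CommRingCat.of (TrivSqZeroExt K' K'))).inv (tszMap_eps φ)

/-- The structure of a base change seen over the base. -/
noncomputable def tIso (f : S' ⟶ S) {R B : Type u} [CommRing R] [CommRing B] [Algebra R B]
    (x : Spec (CommRingCat.of R) ⟶ S') : (Over.map f).obj (tB x B) ≅ tB (x ≫ f) B :=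
  Over.isoMk (Iso.refl _) (by
    change 𝟙 _ ≫ Spec.map (CommRingCat.ofHom (algebraMap R B)) ≫ x ≫ f =
      (Spec.map (CommRingCat.ofHom (algebraMap R B)) ≫ x) ≫ f
    rw [Category.id_comp, Category.assoc])

omit [GrpObj H] in
/-- Tangent vectors of a base change. -/
lemma tg_bc_iff (f : S' ⟶ S) (D : Red.SplitRed G) (i : H ⟶ G) (a : D.idx) {K : Type u} [Field K]
    (x : Spec (CommRingCat.of K) ⟶ S') :
    Tg (splitBc f D) ((Over.pullback f).map i) a K x ↔ Tg D i a K (x ≫ f) := by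
  unfold Tg
  rw [exists_lift_bc_iff, symm_gaPt_u]
  let ε := tIso f (B := TrivSqZeroExt K K) x
  have h1 : ε.hom ≫ gaPt (tB (x ≫ f) (TrivSqZeroExt K K)) (fnOf (x ≫ f) (TrivSqZeroExt.inr 1)) =
      gaPt ((Over.map f).obj (tB x (TrivSqZeroExt K K))) (fnOf x (TrivSqZeroExt.inr 1)) := by
    rw [comp_gaPt]
    rfl
  constructor
  · rintro ⟨v, hv⟩
    refine ⟨ε.inv ≫ v, ?_⟩
    rw [Category.assoc, hv, ← h1, Category.assoc, Iso.inv_hom_id_assoc]
  · rintro ⟨v, hv⟩
    refine ⟨ε.hom ≫ v, ?_⟩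
    rw [Category.assoc, hv, ← h1, Category.assoc]

omit [GrpObj H] in
/-- The tangency locus is compatible with base change. -/
theorem mem_E_bc_iff (f : S' ⟶ S) (D : Red.SplitRed G) (i : H ⟶ G) (a : D.idx) (σ : S') :
    σ ∈ E (splitBc f D) ((Over.pullback f).map i) a ↔ f σ ∈ E D i a := by
  constructor
  · rintro ⟨K, _, x, ⟨p, hp⟩, hx⟩
    exact ⟨K, inferInstance, x ≫ f, ⟨p, by rw [Scheme.Hom.comp_apply, hp]⟩, (tg_bc_iff f D i a x).1 hx⟩
  · rintro ⟨K, _, x, ⟨p, hp⟩, hx⟩
    obtain ⟨z, hz1, hz2⟩ := Scheme.Pullback.exists_preimage_pullback (f := x) (g := f) p σ hp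
    let P := pullback x f
    let K' := P.residueField z
    let y : Spec (CommRingCat.of K') ⟶ P := P.fromSpecResidueField z
    obtain ⟨φ, hφ⟩ := Spec.map_surjective (y ≫ pullback.fst x f)
    refine ⟨K', inferInstance, y ≫ pullback.snd x f, ⟨(⊥ : PrimeSpectrum K'), ?_⟩, ?_⟩
    · have h1 : y (⊥ : PrimeSpectrum K') = z := Scheme.fromSpecResidueField_apply _ _
      exact (Scheme.Hom.comp_apply y (pullback.snd x f) (⊥ : PrimeSpectrum K')).trans
        ((congrArg (pullback.snd x f) h1).trans hz2)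
    · rw [tg_bc_iff]
      have h2 : (y ≫ pullback.snd x f) ≫ f = Spec.map (CommRingCat.ofHom φ.hom) ≫ x := by
        have h3 : Spec.map (CommRingCat.ofHom φ.hom) = y ≫ pullback.fst x f := hφ
        rw [h3, Category.assoc, Category.assoc, pullback.condition]
      rw [h2]
      exact tg_ext D i a x φ.hom hx

omit [GrpObj H] in
theorem E_bc (f : S' ⟶ S) (D : Red.SplitRed G) (i : H ⟶ G) (a : D.idx) :
    E (splitBc f D) ((Over.pullback f).map i) a = f ⁻¹' E D i a :=
  Set.ext fun σ => mem_E_bc_iff f D i a σ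

end K195.Tang
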